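import Groth.Agent.VarietyA.DegRank
import Groth.Agent.VarietyA.SmoothReg
import Groth.Agent.Divis.StalkMod
import Groth.Agent.Fdesc.PullbackStalk
import Groth.Agent.S2288
import Groth.Agent.S2249
import Groth.Agent.S1535
import Groth.Agent.PerfA.CohSerre
import Groth.Agent.CycB.CohProp
import Groth.Agent.FormalA.PullbackQC
import Groth.Agent.Sga67.CohBasic
import Groth.Agent.Krr.H478.EpiIso
import Groth.Prelude.Def_TorSh

/-!
# Coherent modules on regular integral curves: rank, torsion, local freeness (helper707)

`Crv k X`: `X` is a one-dimensional scheme over `k` all of whose local rings are principal ideal rings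
(smooth, or regular); used with `[IsIntegral X] [IsProper (X ↘ Spec k)]`.

* `isFinLocFreeOfRank_of_torsionFree`: coherent and torsion free implies locally free of rank `rk`;
* `exists_torsion`: `0 → T → M → Q → 0` with `T` generically zero and `Q` locally free.
-/

set_option autoImplicit false
universe u

open CategoryTheory CategoryTheory.Limits AlgebraicGeometry TopologicalSpace Opposite

namespace K707.Base

open Groth.Agent.CycB.StalkExact Groth.Agent.VarietyA.DegRank

/-- `X` is a one-dimensional scheme with principal ideal local rings (over the field `k`; the field and the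
structure morphism are only recorded to have a convenient handle). -/
structure Crv (k : Type u) [Field k] (X : Scheme.{u}) [X.Over (Spec (CommRingCat.of k))] : Prop where
  dim : topologicalKrullDim X = 1
  pid : ∀ x : X, IsPrincipalIdealRing (X.presheaf.stalk x)

section general

variable {X : Scheme.{u}}

theorem isFinLocFree_of_rank {n : ℕ} {M : X.Modules} (h : FlatMod.IsFinLocFreeOfRank n M) :
    FlatMod.IsFinLocFree M := fun x => by
  obtain ⟨U, hU, e⟩ := h x
  exact ⟨U, n, hU, e⟩

theorem isCoh_of_rank {n : ℕ} {M : X.Modules} (h : FlatMod.IsFinLocFreeOfRank n M) : Coh.IsCoh M :=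
  Groth.Agent.PerfA.CohSerre.isCoh_of_isFinLocFree (isFinLocFree_of_rank h)

theorem exists_basis {n : ℕ} {M : X.Modules} (h : FlatMod.IsFinLocFreeOfRank n M) (x : X) :
    Nonempty (Module.Basis (Fin n) (X.presheaf.stalk x) (M.presheaf.stalk x)) :=
  Groth.Agent.Krr.H478.EpiIso.exists_basis h x

theorem free_stalk {n : ℕ} {M : X.Modules} (h : FlatMod.IsFinLocFreeOfRank n M) (x : X) :
    Module.Free (X.presheaf.stalk x) (M.presheaf.stalk x) := by
  obtain ⟨b⟩ := exists_basis h x
  exact Module.Free.of_basis b

theorem finrank_stalk {n : ℕ} {M : X.Modules} (h : FlatMod.IsFinLocFreeOfRank n M) (x : X) :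
    Module.finrank (X.presheaf.stalk x) (M.presheaf.stalk x) = n := by
  obtain ⟨b⟩ := exists_basis h x
  rw [Module.finrank_eq_card_basis b, Fintype.card_fin]

theorem rk_of_rank [IrreducibleSpace X] {n : ℕ} {M : X.Modules} (h : FlatMod.IsFinLocFreeOfRank n M) :
    rk M = n := finrank_stalk h _

/-- A module which is free of rank `n` near the generic point has rank `n`. -/
theorem rk_of_restrict [IrreducibleSpace X] {n : ℕ} {M : X.Modules} {V : X.Opens} (hV : genericPoint X ∈ V)
    (h : Nonempty (M.restrict V.ι ≅ FlatMod.freeMod (↑V) n)) : rk M = n := by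
  obtain ⟨b, hb⟩ := Groth.Agent.Sga67.LocBasis.nonempty_restrict_iso_iff.mp h
  obtain ⟨β, -⟩ := Groth.Agent.Krr.H487.LocBasisPull.exists_stalkBasis hb (genericPoint X) hV
  rw [rk, Module.finrank_eq_card_basis β, Fintype.card_fin]

theorem mem_of_mem [IrreducibleSpace X] {V : X.Opens} {x : X} (hx : x ∈ V) : genericPoint X ∈ V :=
  (genericPoint_specializes x).mem_open V.2 hx

/-- On an integral scheme a finite locally free module has constant rank. -/
theorem isFinLocFreeOfRank_rk [IrreducibleSpace X] {M : X.Modules} (h : FlatMod.IsFinLocFree M) :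
    FlatMod.IsFinLocFreeOfRank (rk M) M := by
  intro x
  obtain ⟨U, n, hU, e⟩ := h x
  rw [rk_of_restrict (mem_of_mem hU) e]
  exact ⟨U, hU, e⟩

theorem isFinLocFreeOfRank_of_free_stalk [IrreducibleSpace X] [IsLocallyNoetherian X] {M : X.Modules}
    (hM : Coh.IsCoh M) (h : ∀ x : X, Module.Free (X.presheaf.stalk x) (M.presheaf.stalk x)) :
    FlatMod.IsFinLocFreeOfRank (rk M) M :=
  isFinLocFreeOfRank_rk (Groth.Agent.Divis.StalkMod.isFinLocFree_of_free_stalk hM h)

theorem isTorsionFree_of_free [IsIntegral X] {M : X.Modules}
    (h : ∀ x : X, Module.Free (X.presheaf.stalk x) (M.presheaf.stalk x)) : TorSh.IsTorsionFree M := by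
  intro x
  have := h x
  infer_instance

theorem isTorsionFree_of_isFinLocFree [IsIntegral X] {M : X.Modules} (h : FlatMod.IsFinLocFree M) :
    TorSh.IsTorsionFree M :=
  isTorsionFree_of_free fun x => free_stalk (isFinLocFreeOfRank_rk h) x

theorem isTorsionFree_of_mono {M N : X.Modules} (i : M ⟶ N) [Mono i] (h : TorSh.IsTorsionFree N) :
    TorSh.IsTorsionFree M := by
  intro x
  have := h x
  exact Function.Injective.moduleIsTorsionFree (stalkLin i x) (stalkLin_injective i x)
    (fun r m => map_smul _ r m)

theorem isFinLocFreeOfRank_of_torsionFree [IsIntegral X] [IsLocallyNoetherian X]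
    (hP : ∀ x : X, IsPrincipalIdealRing (X.presheaf.stalk x)) {M : X.Modules} (hM : Coh.IsCoh M)
    (h : TorSh.IsTorsionFree M) : FlatMod.IsFinLocFreeOfRank (rk M) M := by
  refine isFinLocFreeOfRank_of_free_stalk hM fun x => ?_
  have := hP x
  have := h x
  have := Groth.Agent.Divis.StalkMod.finite_stalk hM x
  exact Module.free_of_finite_type_torsion_free'

/-- Coherent submodules of locally free modules are locally free. -/
theorem isFinLocFreeOfRank_of_mono [IsIntegral X] [IsLocallyNoetherian X]
    (hP : ∀ x : X, IsPrincipalIdealRing (X.presheaf.stalk x)) {M N : X.Modules} (i : M ⟶ N) [Mono i]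
    (hM : Coh.IsCoh M) (hN : FlatMod.IsFinLocFree N) : FlatMod.IsFinLocFreeOfRank (rk M) M :=
  isFinLocFreeOfRank_of_torsionFree hP hM (isTorsionFree_of_mono i (isTorsionFree_of_isFinLocFree hN))

end general

section torsion

variable {X : Scheme.{u}} [IsIntegral X]

theorem isDominant_gen : IsDominant (X.fromSpecStalk (genericPoint X)) := by
  refine ⟨?_⟩
  have h1 : genericPoint X ∈ Set.range (X.fromSpecStalk (genericPoint X)) := by
    rw [Scheme.range_fromSpecStalk]
    exact specializes_rfl
  rw [DenseRange, dense_iff_closure_eq]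
  refine Set.eq_univ_of_univ_subset ?_
  rw [← (genericPoint_spec X).def]
  exact closure_mono (Set.singleton_subset_iff.mpr h1)

/-- Pulling back along a morphism which induces a bijection on local rings: the canonical map on stalks is
injective. -/
theorem canAdd_injective {Y Z : Scheme.{u}} (f : Y ⟶ Z) (M : Z.Modules) (y : Y)
    (h : Function.Bijective (f.stalkMap y).hom) :
    Function.Injective (Groth.Agent.Fdesc.PullbackStalk.canAdd f M y) := by
  let σ : Z.presheaf.stalk (f.base y) ≃+* Y.presheaf.stalk y := RingEquiv.ofBijective (f.stalkMap y).hom h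
  let _ : Module (Y.presheaf.stalk y) (M.presheaf.stalk (f.base y)) :=
    Module.compHom (M.presheaf.stalk (f.base y)) (σ.symm : Y.presheaf.stalk y →+* Z.presheaf.stalk (f.base y))
  have hg : ∀ (r : Z.presheaf.stalk (f.base y)) (t : M.presheaf.stalk (f.base y)),
      AddMonoidHom.id (M.presheaf.stalk (f.base y)) (r • t) =
        (f.stalkMap y).hom r • AddMonoidHom.id (M.presheaf.stalk (f.base y)) t := by
    intro r t
    change r • t = σ.symm (σ r) • t
    rw [σ.symm_apply_apply]
  intro a b hab
  have h1 := Groth.Agent.Fdesc.PullbackStalk.lift_canAdd f (AddMonoidHom.id _) hg a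
  have h2 := Groth.Agent.Fdesc.PullbackStalk.lift_canAdd f (AddMonoidHom.id _) hg b
  rw [hab] at h1
  exact h1.symm.trans h2

theorem isField_gen (X : Scheme.{u}) [IsIntegral X] : IsField (X.presheaf.stalk (genericPoint X)) :=
  (inferInstance : Field (X.functionField)).toIsField

theorem stalkMap_gen_bijective (y : Spec (X.presheaf.stalk (genericPoint X))) :
    Function.Bijective ((X.fromSpecStalk (genericPoint X)).stalkMap y).hom := by
  refine ⟨?_, (X.fromSpecStalk (genericPoint X)).stalkMap_surjective y⟩
  have hy : (X.fromSpecStalk (genericPoint X)).base y = genericPoint X := by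
    have h1 : (X.fromSpecStalk (genericPoint X)).base y ∈ Set.range (X.fromSpecStalk (genericPoint X)).base :=
      ⟨y, rfl⟩
    have h2 := X.range_fromSpecStalk (x := genericPoint X)
    rw [Set.ext_iff] at h2
    have h3 : (X.fromSpecStalk (genericPoint X)).base y ⤳ genericPoint X := (h2 _).mp h1
    exact (h3.antisymm (genericPoint_specializes _)).eq
  have hf : IsField (X.presheaf.stalk ((X.fromSpecStalk (genericPoint X)).base y)) := by
    rw [hy]; exact isField_gen X
  let _ := hf.toField
  exact RingHom.injective _

theorem isTorsionFree_spec_gen (M : (Spec (X.presheaf.stalk (genericPoint X))).Modules) :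
    TorSh.IsTorsionFree M := by
  intro y
  refine Module.IsTorsionFree.of_smul_eq_zero ?_
  intro r m h
  by_cases hr : r = 0
  · exact Or.inl hr
  right
  obtain ⟨r', rfl⟩ := (stalkMap_gen_bijective y).2 r
  have hy : (X.fromSpecStalk (genericPoint X)).base y = genericPoint X := by
    have h1 : (X.fromSpecStalk (genericPoint X)).base y ∈ Set.range (X.fromSpecStalk (genericPoint X)).base :=
      ⟨y, rfl⟩
    have h2 := X.range_fromSpecStalk (x := genericPoint X)
    rw [Set.ext_iff] at h2
    have h3 : (X.fromSpecStalk (genericPoint X)).base y ⤳ genericPoint X := (h2 _).mp h1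
    exact (h3.antisymm (genericPoint_specializes _)).eq
  have hf : IsField (X.presheaf.stalk ((X.fromSpecStalk (genericPoint X)).base y)) := by
    rw [hy]; exact isField_gen X
  have hr' : r' ≠ 0 := by
    rintro rfl
    exact hr (map_zero _)
  obtain ⟨s, hs⟩ := hf.mul_inv_cancel hr'
  have hu : ((X.fromSpecStalk (genericPoint X)).stalkMap y).hom s *
      ((X.fromSpecStalk (genericPoint X)).stalkMap y).hom r' = 1 := by
    rw [← map_mul, mul_comm s r', hs, map_one]
  calc m = (1 : (Spec (X.presheaf.stalk (genericPoint X))).presheaf.stalk y) • m := (one_smul _ m).symm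
    _ = 0 := by rw [← hu, mul_smul, h, smul_zero]

/-- The torsion part of a coherent module on an integral Noetherian scheme. -/
theorem exists_torsion [IsNoetherian X] {M : X.Modules} (hM : Coh.IsCoh M) :
    ∃ (T Q : X.Modules) (i : T ⟶ M) (p : M ⟶ Q) (w : i ≫ p = 0),
      (ShortComplex.mk i p w).ShortExact ∧ Coh.IsCoh T ∧ Coh.IsCoh Q ∧
        Subsingleton (T.presheaf.stalk (genericPoint X)) ∧ TorSh.IsTorsionFree Q := by
  let j := X.fromSpecStalk (genericPoint X)
  have hj := isDominant_gen (X := X)
  let F := (Scheme.Modules.pullback j).obj M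
  have hFq : Coh.IsQCoh F := Groth.Agent.FormalA.PullbackQC.isQCoh_pullback j M hM.1
  let P := (Scheme.Modules.pushforward j).obj F
  have hPq : Coh.IsQCoh P := Groth.Agent.S2249.result j F
  have hPt : TorSh.IsTorsionFree P := Groth.Agent.S2288.result j F (isTorsionFree_spec_gen F)
  let u : M ⟶ P := (Scheme.Modules.pullbackPushforwardAdjunction j).unit.app M
  have hK : Coh.IsCoh (kernel u) := Groth.Agent.Sga67.CohBasic.isCoh_kernel u hM hPq
  have hw : kernel.ι u ≫ cokernel.π (kernel.ι u) = 0 := cokernel.condition _
  refine ⟨kernel u, cokernel (kernel.ι u), kernel.ι u, cokernel.π (kernel.ι u), hw, ?_, hK, ?_, ?_, ?_⟩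
  · exact { exact := ShortComplex.exact_cokernel _ }
  · exact Groth.Agent.Sga67.CohBasic.isCoh_cokernel _ hK.1 hM
  · let y := IsLocalRing.closedPoint (X.presheaf.stalk (genericPoint X))
    have hy : j.base y = genericPoint X := X.fromSpecStalk_closedPoint
    have hinj := canAdd_injective j M y (stalkMap_gen_bijective y)
    have key : ∀ z, j.base y = z → Subsingleton ((kernel u).presheaf.stalk z) := by
      rintro z rfl
      refine ⟨fun a b => ?_⟩
      apply stalkLin_injective (kernel.ι u) (j.base y)
      apply hinj
      have h0 : ∀ c : (kernel u).presheaf.stalk (j.base y),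
          Groth.Agent.Fdesc.PullbackStalk.canAdd j M y (stalkLin (kernel.ι u) (j.base y) c) = 0 := by
        intro c
        have h1 : stalkLin u (j.base y) (stalkLin (kernel.ι u) (j.base y) c) = 0 := by
          rw [← LinearMap.comp_apply, ← stalkLin_comp, kernel.condition]
          have := (stalkFun (X := X) (j.base y)).map_zero (kernel u) P
          change ((stalkFun (j.base y)).map (0 : kernel u ⟶ P)).hom c = 0
          rw [this]
          rfl
        have h2 : Groth.Agent.Fdesc.Skyscraper.stalkMap u (j.base y)
            (stalkLin (kernel.ι u) (j.base y) c) = 0 := h1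
        change Groth.Agent.Fdesc.PullbackStalk.pushAdd j F y
          (Groth.Agent.Fdesc.Skyscraper.stalkMap u (j.base y) (stalkLin (kernel.ι u) (j.base y) c)) = 0
        rw [h2, map_zero]
      rw [h0, h0]
    exact key _ hy
  · exact isTorsionFree_of_mono (Abelian.factorThruCoimage u) hPt

end torsion

end K707.Base
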