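import Groth.Agent.VBCurve.K707.Slope
import Groth.Prelude.Def_ModFun2

/-!
# Saturation, slope-semistability on regular proper integral curves (helper707)

`SS k E`, `St k E`: slope-semistable / slope-stable, in terms of `dg`, `rk` (`ss_iff`, `st_iff`: the same as
`ModFun.IsSlopeSemistable`, `ModFun.IsSlopeStable`). Quotient forms, vanishing of homomorphisms, saturation.
-/

set_option autoImplicit false
universe u

open CategoryTheory CategoryTheory.Limits AlgebraicGeometry TopologicalSpace Opposite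

namespace K707.Semi

open Groth.Agent.CycB.StalkExact Groth.Agent.VarietyA.DegRank K707.Base K707.Deg K707.Slope

variable {k : Type u} [Field k] {X : Scheme.{u}} [X.Over (Spec (CommRingCat.of k))]
  [IsIntegral X] [IsProper (X ↘ (Spec (CommRingCat.of k)))]

section mono

theorem cokernel_shortExact {G E : X.Modules} (i : G ⟶ E) [Mono i] :
    (ShortComplex.mk i (cokernel.π i) (cokernel.condition i)).ShortExact :=
  { exact := ShortComplex.exact_cokernel i }

theorem kernel_shortExact {E Q : X.Modules} (p : E ⟶ Q) [Epi p] :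
    (ShortComplex.mk (kernel.ι p) p (kernel.condition p)).ShortExact :=
  { exact := ShortComplex.exact_kernel p }

variable (C : Crv k X)

include C

theorem mono_numbers {G E : X.Modules} (i : G ⟶ E) [Mono i] (hG : Coh.IsCoh G) (hE : Coh.IsCoh E) :
    rk E = rk G + rk (cokernel i) ∧ dg k E = dg k G + dg k (cokernel i) := by
  have hQ := coh_cokernel i hG hE
  have h1 := rk_add' k _ (cokernel_shortExact i) hE
  have h2 := dg_add k _ (cokernel_shortExact i) hG hE hQ
  exact ⟨h1, h2⟩

theorem epi_numbers {E Q : X.Modules} (p : E ⟶ Q) [Epi p] (hE : Coh.IsCoh E) (hQ : Coh.IsCoh Q) :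
    rk E = rk (kernel p) + rk Q ∧ dg k E = dg k (kernel p) + dg k Q := by
  have hK := coh_kernel C p hE hQ
  have h1 := rk_add' k _ (kernel_shortExact p) hE
  have h2 := dg_add k _ (kernel_shortExact p) hK hE hQ
  exact ⟨h1, h2⟩

theorem rk_le_of_mono {G E : X.Modules} (i : G ⟶ E) [Mono i] (hG : Coh.IsCoh G) (hE : Coh.IsCoh E) :
    rk G ≤ rk E := by
  have := (mono_numbers C i hG hE).1
  omega

theorem rk_le_of_epi {E Q : X.Modules} (p : E ⟶ Q) [Epi p] (hE : Coh.IsCoh E) (hQ : Coh.IsCoh Q) :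
    rk Q ≤ rk E := by
  have := (epi_numbers C p hE hQ).1
  omega

theorem dg_le_of_mono {G E : X.Modules} (i : G ⟶ E) [Mono i] (hG : Coh.IsCoh G) (hE : Coh.IsCoh E)
    (h : rk E ≤ rk G) : dg k G ≤ dg k E := by
  obtain ⟨h1, h2⟩ := mono_numbers C i hG hE
  have hQ := coh_cokernel i hG hE
  have h3 := dg_nonneg_of_torsion k C.dim hQ (subsingleton_of_rk_eq_zero hQ (by omega))
  omega

theorem isIso_of_mono {G E : X.Modules} (i : G ⟶ E) [Mono i] (hG : Coh.IsCoh G) (hE : Coh.IsCoh E)
    (h : rk E ≤ rk G) (hd : dg k E ≤ dg k G) : IsIso i := by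
  obtain ⟨h1, h2⟩ := mono_numbers C i hG hE
  have hQ := coh_cokernel i hG hE
  have h3 := isZero_of_dg_le_zero k C.dim hQ (subsingleton_of_rk_eq_zero hQ (by omega)) (by omega)
  have : Epi i := Preadditive.epi_of_isZero_cokernel i h3
  exact isIso_of_mono_of_epi i

/-- Every coherent submodule `G` of `E` is contained in a saturated one of the same rank. -/
theorem exists_saturation {G E : X.Modules} (i : G ⟶ E) [Mono i] (hG : Coh.IsCoh G) (hE : Coh.IsCoh E) :
    ∃ (G' Q : X.Modules) (a : G ⟶ G') (j : G' ⟶ E) (q : E ⟶ Q) (w : j ≫ q = 0),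
      Mono a ∧ a ≫ j = i ∧ (ShortComplex.mk j q w).ShortExact ∧ Coh.IsCoh G' ∧ FlatMod.IsFinLocFree Q ∧
        rk G' = rk G ∧ dg k G ≤ dg k G' ∧ rk E = rk G' + rk Q ∧ dg k E = dg k G' + dg k Q := by
  have := isNoetherian k (X := X)
  obtain ⟨h1, h2⟩ := mono_numbers C i hG hE
  have hQ := coh_cokernel i hG hE
  obtain ⟨T, Q, t, p, w, hS, hT, hQ', hT0, htf⟩ := exists_torsion hQ
  have hr := rk_add' k _ hS hQ
  have hd := dg_add k _ hS hT hQ hQ'
  have hT1 := rk_eq_zero_of_subsingleton hT0
  have hT2 := dg_nonneg_of_torsion k C.dim hT hT0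
  simp only at hr hd
  have hp : Epi p := hS.epi_g
  let q : E ⟶ Q := cokernel.π i ≫ p
  have hq : Epi q := epi_comp _ _
  have hK := coh_kernel C q hE hQ'
  obtain ⟨h3, h4⟩ := epi_numbers C q hE hQ'
  have hiq : i ≫ q = 0 := by
    rw [← Category.assoc, cokernel.condition, zero_comp]
  refine ⟨kernel q, Q, kernel.lift q i hiq, kernel.ι q, q, kernel.condition q, ?_, kernel.lift_ι _ _ _,
    kernel_shortExact q, hK, vb_of_torsionFree C hQ' htf, ?_, ?_, h3, h4⟩
  · have : Mono (kernel.lift q i hiq ≫ kernel.ι q) := by rw [kernel.lift_ι]; infer_instance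
    exact mono_of_mono _ (kernel.ι q)
  · omega
  · omega

end mono

section ss

variable (k)

/-- Slope-semistability. -/
def SS (E : X.Modules) : Prop :=
  ∀ (F : X.Modules) (i : F ⟶ E), Mono i → FlatMod.IsFinLocFree F → dg k F * rk E ≤ dg k E * rk F

/-- Slope-stability. -/
def St (E : X.Modules) : Prop :=
  ∀ (F : X.Modules) (i : F ⟶ E), Mono i → FlatMod.IsFinLocFree F → 0 < rk F → rk F < rk E →
    dg k F * rk E < dg k E * rk F

variable {k}

theorem dg_of_vb_of_rk_eq_zero (C : Crv k X) {F : X.Modules} (hF : FlatMod.IsFinLocFree F) (h : rk F = 0) :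
    dg k F = 0 := dg_of_isZero (isZero_of_rk_eq_zero C hF h)

theorem ss_iff (C : Crv k X) {E : X.Modules} {r : ℕ} (hE : FlatMod.IsFinLocFreeOfRank r E) :
    SS k E ↔ ModFun.IsSlopeSemistable k X E r := by
  constructor
  · intro h F r' i hi _ hF
    have := h F i hi (isFinLocFree_of_rank hF)
    rwa [dg_of_rank k hF, dg_of_rank k hE, rk_of_rank hF, rk_of_rank hE] at this
  · intro h F i hi hF
    rcases Nat.eq_zero_or_pos (rk F) with h0 | h0
    · rw [dg_of_vb_of_rk_eq_zero C hF h0, h0]; simp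
    · have hF' := isFinLocFreeOfRank_rk hF
      have := h F (rk F) i hi h0 hF'
      rwa [← dg_of_rank k hF', ← dg_of_rank k hE, ← rk_of_rank hE] at this

omit [IsProper (X ↘ (Spec (CommRingCat.of k)))] in
theorem st_iff {E : X.Modules} {r : ℕ} (hE : FlatMod.IsFinLocFreeOfRank r E) :
    St k E ↔ ModFun.IsSlopeStable k X E r := by
  constructor
  · intro h F r' i hi h0 h1 hF
    have := h F i hi (isFinLocFree_of_rank hF) (by rwa [rk_of_rank hF]) (by rwa [rk_of_rank hF, rk_of_rank hE])
    rwa [dg_of_rank k hF, dg_of_rank k hE, rk_of_rank hF, rk_of_rank hE] at this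
  · intro h F i hi hF h0 h1
    have hF' := isFinLocFreeOfRank_rk hF
    have := h F (rk F) i hi h0 (by rwa [rk_of_rank hE] at h1) hF'
    rwa [← dg_of_rank k hF', ← dg_of_rank k hE, ← rk_of_rank hE] at this

theorem St.ss (C : Crv k X) {E : X.Modules} (hE : FlatMod.IsFinLocFree E) (h : St k E) : SS k E := by
  intro F i hi hF
  have hFc := coh_of_vb hF
  have hEc := coh_of_vb hE
  have hle := rk_le_of_mono C i hFc hEc
  rcases Nat.eq_zero_or_pos (rk F) with h0 | h0
  · rw [dg_of_vb_of_rk_eq_zero C hF h0, h0]; simp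
  · rcases hle.lt_or_eq with h1 | h1
    · exact (h F i hi hF h0 h1).le
    · have := dg_le_of_mono C i hFc hEc h1.ge
      rw [h1]
      exact mul_le_mul_of_nonneg_right this (by positivity)

/-- Slopes of quotients of semistable modules. -/
theorem SS.quot (C : Crv k X) {E Q : X.Modules} (h : SS k E) (hE : FlatMod.IsFinLocFree E) (p : E ⟶ Q) [Epi p]
    (hQ : Coh.IsCoh Q) : dg k E * rk Q ≤ dg k Q * rk E := by
  obtain ⟨h1, h2⟩ := epi_numbers C p (coh_of_vb hE) hQ
  have h3 := h (kernel p) (kernel.ι p) inferInstance (vb_kernel C p hE hQ)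
  have h1' : (rk E : ℤ) = rk (kernel p) + rk Q := by exact_mod_cast h1
  rw [h1', h2] at h3 ⊢
  nlinarith

theorem ss_of_quot (C : Crv k X) {E : X.Modules} (hE : FlatMod.IsFinLocFree E)
    (h : ∀ (Q : X.Modules) (p : E ⟶ Q), Epi p → FlatMod.IsFinLocFree Q → dg k E * rk Q ≤ dg k Q * rk E) :
    SS k E := by
  intro F i hi hF
  obtain ⟨G', Q, a, j, q, w, ha, haj, hS, hG', hQ, e1, e2, e3, e4⟩ :=
    exists_saturation C i (coh_of_vb hF) (coh_of_vb hE)
  have hq : Epi q := hS.epi_g
  have h1 := h Q q hq hQ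
  have e3' : (rk E : ℤ) = rk F + rk Q := by
    rw [e1] at e3
    exact_mod_cast e3
  have h2 : dg k F * rk E ≤ dg k G' * rk E := mul_le_mul_of_nonneg_right e2 (by positivity)
  rw [e3'] at h1 h2 ⊢
  rw [e4] at h1 ⊢
  nlinarith

theorem St.quot (C : Crv k X) {E Q : X.Modules} (h : St k E) (hE : FlatMod.IsFinLocFree E) (p : E ⟶ Q) [Epi p]
    (hQ : Coh.IsCoh Q) (h0 : 0 < rk Q) (h1 : rk Q < rk E) : dg k E * rk Q < dg k Q * rk E := by
  obtain ⟨e1, e2⟩ := epi_numbers C p (coh_of_vb hE) hQ
  have h3 := h (kernel p) (kernel.ι p) inferInstance (vb_kernel C p hE hQ) (by omega) (by omega)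
  have e1' : (rk E : ℤ) = rk (kernel p) + rk Q := by exact_mod_cast e1
  rw [e1', e2] at h3 ⊢
  nlinarith

/-- A non-zero map between coherent modules with locally free target has an image of positive rank. -/
theorem exists_factor_pos (C : Crv k X) {E F : X.Modules} (f : E ⟶ F) (hf : f ≠ 0) (hE : Coh.IsCoh E)
    (hF : FlatMod.IsFinLocFree F) :
    ∃ (I : X.Modules) (p : E ⟶ I) (i : I ⟶ F), Epi p ∧ Mono i ∧ p ≫ i = f ∧ FlatMod.IsFinLocFree I ∧
      0 < rk I ∧ rk E = rk (kernel f) + rk I ∧ dg k E = dg k (kernel f) + dg k I ∧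
      rk F = rk I + rk (cokernel f) ∧ dg k F = dg k I + dg k (cokernel f) := by
  obtain ⟨I, p, i, hp, hi, hpi, hI, e1, e2, e3, e4⟩ := exists_factor C f hE (coh_of_vb hF)
  have hIv := vb_of_mono C i hI hF
  refine ⟨I, p, i, hp, hi, hpi, hIv, ?_, e1, e2, e3, e4⟩
  rw [Nat.pos_iff_ne_zero]
  intro h0
  apply hf
  rw [← hpi, (isZero_of_rk_eq_zero C hIv h0).eq_of_tgt p 0, zero_comp]

/-- Non-zero maps between semistable modules do not decrease the slope. -/
theorem SS.slope_le (C : Crv k X) {E F : X.Modules} (hE : SS k E) (hEv : FlatMod.IsFinLocFree E)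
    (hF : SS k F) (hFv : FlatMod.IsFinLocFree F) (f : E ⟶ F) (hf : f ≠ 0) :
    dg k E * rk F ≤ dg k F * rk E := by
  obtain ⟨I, p, i, hp, hi, hpi, hI, hpos, e1, e2, e3, e4⟩ := exists_factor_pos C f hf (coh_of_vb hEv) hFv
  have h1 := hE.quot C hEv p (coh_of_vb hI)
  have h2 := hF I i hi hI
  have hpos' : (0 : ℤ) < rk I := by exact_mod_cast hpos
  have h3 : dg k E * rk I * rk F ≤ dg k I * rk E * rk F := mul_le_mul_of_nonneg_right h1 (by positivity)
  have h4 : dg k I * rk F * rk E ≤ dg k F * rk I * rk E := mul_le_mul_of_nonneg_right h2 (by positivity)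
  have h5 : (dg k E * rk F) * rk I ≤ (dg k F * rk E) * rk I := by nlinarith
  exact le_of_mul_le_mul_right h5 hpos'

theorem SS.hom_eq_zero (C : Crv k X) {E F : X.Modules} (hE : SS k E) (hEv : FlatMod.IsFinLocFree E)
    (hF : SS k F) (hFv : FlatMod.IsFinLocFree F) (h : dg k F * rk E < dg k E * rk F) (f : E ⟶ F) : f = 0 := by
  by_contra hf
  have := hE.slope_le C hEv hF hFv f hf
  omega

/-- Non-zero endomorphisms of stable modules are isomorphisms; more generally maps between stable modules of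
equal slope. -/
theorem St.isIso_of_ne_zero (C : Crv k X) {E F : X.Modules} (hE : St k E) (hEv : FlatMod.IsFinLocFree E)
    (hF : St k F) (hFv : FlatMod.IsFinLocFree F) (h : dg k F * rk E ≤ dg k E * rk F) (f : E ⟶ F) (hf : f ≠ 0) :
    IsIso f := by
  obtain ⟨I, p, i, hp, hi, hpi, hI, hpos, e1, e2, e3, e4⟩ := exists_factor_pos C f hf (coh_of_vb hEv) hFv
  have hIc := coh_of_vb hI
  have hpos' : (0 : ℤ) < rk I := by exact_mod_cast hpos
  have h1 := (hE.ss C hEv).quot C hEv p hIc
  have h2 := hF.ss C hFv I i hi hI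
  have h3 : dg k E * rk I * rk F ≤ dg k I * rk E * rk F := mul_le_mul_of_nonneg_right h1 (by positivity)
  have h4 : dg k I * rk F * rk E ≤ dg k F * rk I * rk E := mul_le_mul_of_nonneg_right h2 (by positivity)
  have h5 : dg k F * rk E * rk I ≤ dg k E * rk F * rk I := mul_le_mul_of_nonneg_right h (by positivity)
  have hEpos : (0 : ℤ) < rk E := by have : rk I ≤ rk E := by omega
                                    exact_mod_cast hpos.trans_le this
  have hFpos : (0 : ℤ) < rk F := by have : rk I ≤ rk F := by omega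
                                    exact_mod_cast hpos.trans_le this
  -- equality everywhere
  have h1' : dg k E * rk I = dg k I * rk E := by
    have : (dg k E * rk I) * rk F = (dg k I * rk E) * rk F := by nlinarith
    exact mul_right_cancel₀ hFpos.ne' this
  have h2' : dg k I * rk F = dg k F * rk I := by
    have : (dg k I * rk F) * rk E = (dg k F * rk I) * rk E := by nlinarith
    exact mul_right_cancel₀ hEpos.ne' this
  have hrE : rk I = rk E := by
    by_contra hne
    have := hE.quot C hEv p hIc hpos (by omega)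
    omega
  have hrF : rk I = rk F := by
    by_contra hne
    have := hF I i hi hI hpos (by omega)
    omega
  have hdI : dg k I = dg k F := by
    rw [← hrF] at h2'
    exact mul_right_cancel₀ hpos'.ne' h2'
  have hi' : IsIso i := isIso_of_mono C i hIc (coh_of_vb hFv) hrF.ge hdI.ge
  have hK : IsZero (kernel f) := isZero_of_rk_eq_zero C (vb_kernel C f hEv (coh_of_vb hFv)) (by omega)
  have : Mono f := Preadditive.mono_of_kernel_zero (hK.eq_of_src _ _)
  have : Epi f := by rw [← hpi]; exact epi_comp _ _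
  exact isIso_of_mono_of_epi f

end ss

end K707.Semi
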