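import Groth.Agent.VBCurve.K707.Semi
import Groth.Agent.PerfB.TensInv
import Groth.Agent.Grpsch.PicGrp
import Groth.Agent.S1557

/-!
# The functor `- ⊗ L` (helper707)

`T L = DCoh.tensorRightMod L`; exact for `L` finite locally free, an equivalence for `L` invertible; ranks and degrees.
-/

set_option autoImplicit false
universe u

open CategoryTheory CategoryTheory.Limits AlgebraicGeometry TopologicalSpace Opposite

namespace K707.TensL

open Groth.Agent.CycB.StalkExact Groth.Agent.VarietyA.DegRank K707.Base K707.Deg K707.Slope K707.Semi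
open Groth.Agent

section

variable {X : Scheme.{u}}

/-- `- ⊗ L` -/
noncomputable abbrev T (L : X.Modules) : X.Modules ⥤ X.Modules := DCoh.tensorRightMod L

theorem T_obj (M L : X.Modules) : (T L).obj M = CohB1.tensorMod M L := rfl

theorem T_map {M N : X.Modules} (f : M ⟶ N) (L : X.Modules) :
    (T L).map f = (CohB1.sheafifyMod X).map
      (MonoidalCategoryStruct.whiskerRight (C := CohB1.PMod X) f.val (CohB1.toPMod L)) := rfl

theorem preservesFiniteLimits {L : X.Modules} (hL : FlatMod.IsFinLocFree L) :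
    PreservesFiniteLimits (T L) := PerfB.TensInv.preservesFiniteLimits_of_isFinLocFree hL

theorem rank_one_iff {L : X.Modules} : FlatMod.IsFinLocFreeOfRank 1 L ↔ PicF.IsInvertible L :=
  Ega2.QCohLocal.isFinLocFreeOfRank_one_iff

theorem vb_of_inv {L : X.Modules} (hL : PicF.IsInvertible L) : FlatMod.IsFinLocFree L :=
  isFinLocFree_of_rank (rank_one_iff.mpr hL)

theorem isEquivalence {L : X.Modules} (hL : PicF.IsInvertible L) : (T L).IsEquivalence := by
  obtain ⟨L', hL', ⟨e⟩⟩ := Grpsch.PicGrp.exists_inverse hL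
  exact inferInstanceAs (CategoryTheory.Equivalence.mk (DCoh.tensorRightMod L) (DCoh.tensorRightMod L')
    (PerfB.TensInv.tensorInvIso e).symm
    (PerfB.TensInv.tensorInvIso (Ega2.Tens.swap L' L ≪≫ e))).functor.IsEquivalence

theorem coh_tensor {M L : X.Modules} {n : ℕ} (hL : FlatMod.IsFinLocFreeOfRank n L) (hM : Coh.IsCoh M) :
    Coh.IsCoh (CohB1.tensorMod M L) :=
  coh_iso (Ega2.Tens.swap L M) (VarietyA.LocFreeTens.isCoh_tensor hL hM)

theorem rk_tensor [IsIntegral X] {M L : X.Modules} {n : ℕ} (hL : FlatMod.IsFinLocFreeOfRank n L)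
    (hM : Coh.IsCoh M) : rk (CohB1.tensorMod M L) = n * rk M := by
  rw [rk_iso (Ega2.Tens.swap M L)]
  obtain ⟨e⟩ := VarietyA.LocFreeTens.nonempty_stalk_equiv hL M (genericPoint X)
  rw [rk, e.finrank_eq, rk]
  have := Divis.StalkMod.finite_stalk hM (genericPoint X)
  have hf : Module.Free (X.presheaf.stalk (genericPoint X)) (M.presheaf.stalk (genericPoint X)) := by
    let _ := (isField_gen X).toField
    exact @Module.Free.of_divisionRing (X.presheaf.stalk (genericPoint X)) _ _ _ _
  rw [Module.finrank_pi_fintype]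
  simp

theorem vb_tensor [IsIntegral X] [IsLocallyNoetherian X] {M L : X.Modules} (hM : FlatMod.IsFinLocFree M)
    (hL : FlatMod.IsFinLocFree L) : FlatMod.IsFinLocFree (CohB1.tensorMod M L) := by
  have hL' := isFinLocFreeOfRank_rk hL
  refine isFinLocFree_of_rank (isFinLocFreeOfRank_of_free_stalk (coh_tensor hL' (coh_of_vb hM)) fun x => ?_)
  obtain ⟨e⟩ := VarietyA.LocFreeTens.nonempty_stalk_equiv hL' M x
  have h1 := free_stalk (isFinLocFreeOfRank_rk hM) x
  exact Module.Free.of_equiv ((stalkLinEquiv (Ega2.Tens.swap L M) x).symm.trans e).symm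

end

section

variable (k : Type u) [Field k] {X : Scheme.{u}} [X.Over (Spec (CommRingCat.of k))]
  [IsIntegral X] [IsProper (X ↘ (Spec (CommRingCat.of k)))]

theorem dg_tensor (hdim : topologicalKrullDim X = 1) {M L : X.Modules} {n : ℕ}
    (hL : FlatMod.IsFinLocFreeOfRank n L) (hM : Coh.IsCoh M) :
    dg k (CohB1.tensorMod M L) = n * dg k M + rk M * dg k L := by
  have h1 := Groth.Agent.S1557.result k X hdim n L hL M hM
  have h2 := euler_iso k (Ega2.Tens.swap M L)
  rw [dg, h2, h1, rk_tensor hL hM, dg_of_rank k hL, dg]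
  change (rk M : ℤ) * _ + _ - _ = _
  push_cast
  ring

end

end K707.TensL
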