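import Groth.Agent.VBCurve.K707.Pair

/-!
# The image of `φ : E → E ⊗ L`, untwisted, is an invariant submodule (helper707)
-/

set_option autoImplicit false
universe u

open CategoryTheory CategoryTheory.Limits AlgebraicGeometry TopologicalSpace Opposite

namespace K707.PairInv

open Groth.Agent.VarietyA.DegRank K707.Base K707.Deg K707.Slope K707.Semi K707.TensL
open Groth.Agent

variable {k : Type u} [Field k] {X : Scheme.{u}} [X.Over (Spec (CommRingCat.of k))]
  [IsIntegral X] [IsProper (X ↘ (Spec (CommRingCat.of k)))]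

/-- For `φ : E → E ⊗ L` factoring as `E → I → E ⊗ L`, the submodule `J = I ⊗ L⁻¹` of `E`. -/
theorem exists_untwist (C : Crv k X) {E I L : X.Modules} (hL : PicF.IsInvertible L) (hE : FlatMod.IsFinLocFree E)
    (hIc : Coh.IsCoh I) (i : I ⟶ (T L).obj E) [Mono i] :
    ∃ (J : X.Modules) (j : J ⟶ E) (e : (T L).obj J ≅ I), Mono j ∧ FlatMod.IsFinLocFree J ∧
      (T L).map j = e.hom ≫ i ∧ rk J = rk I ∧ dg k I = dg k J + rk J * dg k L := by
  obtain ⟨L', hL', ⟨e0⟩⟩ := Grpsch.PicGrp.exists_inverse hL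
  have hT := isEquivalence hL
  have r1 := rank_one_iff.mpr hL
  have r1' := rank_one_iff.mpr hL'
  let J : X.Modules := CohB1.tensorMod I L'
  have hJc : Coh.IsCoh J := coh_tensor r1' hIc
  let e : (T L).obj J ≅ I := (PerfB.TensInv.tensorInvIso (Ega2.Tens.swap L' L ≪≫ e0)).app I
  let j : J ⟶ E := (T L).preimage (X := J) (Y := E) (e.hom ≫ i)
  have hj : (T L).map j = e.hom ≫ i := (T L).map_preimage _
  have hm : Mono ((T L).map j) := by rw [hj]; exact mono_comp _ _
  have hjm : Mono j := (T L).mono_of_mono_map hm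
  have hrk : rk J = rk I := by rw [rk_tensor r1' hIc, one_mul]
  refine ⟨J, j, e, hjm, vb_of_mono C j hJc hE, hj, hrk, ?_⟩
  have h6 : dg k ((T L).obj J) = ((1 : ℕ) : ℤ) * dg k J + rk J * dg k L := dg_tensor k C.dim r1 hJc
  rw [← dg_iso k e, h6]
  push_cast
  ring

/-- The untwisted image is invariant. -/
theorem exists_inv_image (C : Crv k X) {E I L : X.Modules} (hL : PicF.IsInvertible L)
    (hE : FlatMod.IsFinLocFree E) (hIc : Coh.IsCoh I) (φ : E ⟶ (T L).obj E) (p : E ⟶ I)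
    (i : I ⟶ (T L).obj E) [Mono i] (hpi : p ≫ i = φ) :
    ∃ (J : X.Modules) (j : J ⟶ E), Mono j ∧ FlatMod.IsFinLocFree J ∧ Inv.Inv (T L) φ j ∧
      rk J = rk I ∧ dg k I = dg k J + rk J * dg k L := by
  obtain ⟨J, j, e, h1, h2, h3, h4, h5⟩ := exists_untwist C hL hE hIc i
  refine ⟨J, j, h1, h2, ⟨j ≫ p ≫ e.inv, ?_⟩, h4, h5⟩
  rw [h3]
  simp only [Category.assoc, Iso.inv_hom_id_assoc, hpi]

/-- A semistable pair with nonzero `φ : E → E ⊗ L` has `deg L ≥ 0`. -/
theorem deg_nonneg (C : Crv k X) {E L : X.Modules} (hL : PicF.IsInvertible L)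
    (hE : FlatMod.IsFinLocFree E) (φ : E ⟶ (T L).obj E) (hφ : φ ≠ 0)
    (hss : ∀ (G : X.Modules) (j : G ⟶ E), Mono j → 0 < rk G → FlatMod.IsFinLocFreeOfRank (rk G) G →
      Inv.Inv (T L) φ j → dg k G * rk E ≤ dg k E * rk G) : 0 ≤ dg k L := by
  have := isLocNoeth C
  have hTE : FlatMod.IsFinLocFree ((T L).obj E) := vb_tensor hE (vb_of_inv hL)
  obtain ⟨I, p, i, hp, hi, hpi, hI, hpos, e1, e2, e3, e4⟩ := exists_factor_pos C φ hφ (coh_of_vb hE) hTE
  obtain ⟨J, j, hj, hJ, hinv, h4, h5⟩ := exists_inv_image C hL hE (coh_of_vb hI) φ p i hpi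
  have hK := vb_kernel C φ hE (coh_of_vb hTE)
  have h1 : dg k (kernel φ) * rk E ≤ dg k E * rk (kernel φ) := by
    rcases Nat.eq_zero_or_pos (rk (kernel φ)) with h0 | h0
    · rw [dg_of_vb_of_rk_eq_zero C hK h0, h0]; simp
    · exact hss _ (kernel.ι φ) inferInstance h0 (isFinLocFreeOfRank_rk hK) ⟨0, by
        rw [kernel.condition, zero_comp]⟩
  have h2 := hss J j hj (by omega) (isFinLocFreeOfRank_rk hJ) hinv
  have hEpos : (0 : ℤ) < rk E := by
    have : 0 < rk E := by omega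
    exact_mod_cast this
  have e1' : (rk E : ℤ) = rk (kernel φ) + rk J := by rw [h4]; exact_mod_cast e1
  have h3 : (dg k (kernel φ) + dg k J) * rk E ≤ dg k E * rk E := by
    calc (dg k (kernel φ) + dg k J) * rk E = dg k (kernel φ) * rk E + dg k J * rk E := by ring
      _ ≤ dg k E * rk (kernel φ) + dg k E * rk J := add_le_add h1 h2
      _ = dg k E * rk E := by rw [e1']; ring
  have h6 : dg k (kernel φ) + dg k J ≤ dg k E := le_of_mul_le_mul_right h3 hEpos
  have h7 : 0 ≤ (rk J : ℤ) * dg k L := by omega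
  have hJpos : (0 : ℤ) < rk J := by rw [h4]; exact_mod_cast hpos
  exact nonneg_of_mul_nonneg_right h7 hJpos

end K707.PairInv
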