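import Groth.Agent.VBCurve.K707.IndepGlob
import Groth.Agent.S2325
import Groth.Agent.Krr.H495.Rank
import Groth.Agent.Grpsch.PicGrp
import Groth.Agent.PerfA.CohSerre
import Groth.Agent.Ega2.QCohLocal

/-!
# Bundles on proper families of curves: `r - 1` sections independent near a fibre (helper707)
-/

set_option autoImplicit false
universe u

open CategoryTheory CategoryTheory.Limits AlgebraicGeometry Opposite TopologicalSpace
open scoped TensorProduct

namespace K707.RelBun

open Groth.Agent.Sga67.Sec Groth.Agent.Sga67.LocBasis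
open K707.Indep K707.IndepCoker K707.IndepGlob Groth.Agent

theorem isFinLocFree_of_rank {X : Scheme.{u}} {n : ℕ} {E : X.Modules} (h : FlatMod.IsFinLocFreeOfRank n E) :
    FlatMod.IsFinLocFree E := fun x =>
  let ⟨U, hU, e⟩ := h x
  ⟨U, n, hU, e⟩

theorem rank_tensorPow {X : Scheme.{u}} {L : X.Modules} (hL : PicF.IsInvertible L) (n : ℕ) :
    FlatMod.IsFinLocFreeOfRank 1 (CohB1.tensorPow L n) :=
  Ega2.QCohLocal.isFinLocFreeOfRank_one_iff.mpr (Fdesc.LocGen.isInvertible_tensorPow hL n)

theorem noetherianSpace_fiber {P S : Scheme.{u}} (q : P ⟶ S) [LocallyOfFiniteType q] [QuasiCompact q] (s : S) :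
    NoetherianSpace (q.fiber s) := by
  have : LocallyOfFiniteType (q.fiberToSpecResidueField s) :=
    inferInstanceAs (LocallyOfFiniteType (pullback.snd q (S.fromSpecResidueField s)))
  have h1 : IsLocallyNoetherian (q.fiber s) :=
    LocallyOfFiniteType.isLocallyNoetherian (q.fiberToSpecResidueField s)
  have h2 : IsNoetherian (q.fiber s) := {}
  infer_instance

/-- `r - 1` sections of `E ⊗ L^n` independent at all points over a neighbourhood of `s`. -/
theorem exists_family {k : Type*} [Field k] [Infinite k] {P S : Scheme.{u}} (q : P ⟶ S) [IsProper q]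
    [CompactSpace P] [P.IsSeparated] (c : k →+* Γ(P, ⊤)) {L : P.Modules} (hL : CohB1.IsAmple L) {E : P.Modules}
    {r : ℕ} (hr : 0 < r) (hE : FlatMod.IsFinLocFreeOfRank r E) (s : S)
    (hd : topologicalKrullDim (q.fiber s) ≤ 1) :
    ∃ (n : ℕ) (w : Fin (r - 1) → Sec (CohB1.tensorMod E (CohB1.tensorPow L n)) ⊤) (V : S.Opens),
      FlatMod.IsFinLocFreeOfRank r (CohB1.tensorMod E (CohB1.tensorPow L n)) ∧
      s ∈ V ∧ ∀ x ∈ q ⁻¹ᵁ V, Ind w x := by
  obtain ⟨n, hn⟩ := S2325.result P L hL E (PerfA.CohSerre.isCoh_of_isFinLocFree (isFinLocFree_of_rank hE))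
  have hgg := hn n le_rfl
  have hG : FlatMod.IsFinLocFreeOfRank r (CohB1.tensorMod E (CohB1.tensorPow L n)) := by
    have := Krr.H495.Rank.rank_tensor hE (rank_tensorPow hL.1 n)
    rwa [mul_one] at this
  have := noetherianSpace_fiber q s
  obtain ⟨w, hw⟩ := exists_indep_on c hG hgg hd (q.fiberι s) (q.fiberι s).continuous (r - 1) (by omega)
  let N : Set P := {x | Ind w x}
  have hN : IsOpen N := isOpen_indep hG w
  have hcl : IsClosed (q '' Nᶜ) := q.isClosedMap _ hN.isClosed_compl
  refine ⟨n, w, ⟨(q '' Nᶜ)ᶜ, hcl.isOpen_compl⟩, hG, ?_, fun x hx => ?_⟩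
  · rintro ⟨x, hx, hxs⟩
    have h1 : x ∈ Set.range (q.fiberι s) := by
      rw [Scheme.Hom.range_fiberι]
      exact hxs
    obtain ⟨z, rfl⟩ := h1
    exact hx (hw z)
  · by_contra hx'
    exact hx ⟨x, hx', rfl⟩

end K707.RelBun
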