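import Mathlib.GroupTheory.CosetCover
import Mathlib.LinearAlgebra.Dimension.Constructions
import Mathlib.LinearAlgebra.Dimension.Finrank
import Mathlib.LinearAlgebra.FiniteDimensional.Basic
import Mathlib.Topology.Basic
import Mathlib.LinearAlgebra.LinearIndependent.Lemmas

/-!
# General sections are independent over a one-dimensional base: the combinatorial core (helper707)

`exists_indep`: a family `W → V z` of semilinear maps over a space `Z` of dimension at most one, each `V z` of dimension
`r` and spanned by the image of `W`, `W` a vector space over an infinite field; then for `m < r` there are `m` elements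
of `W` which are linearly independent at every point of `Z`.
-/

set_option autoImplicit false

namespace K707.Avoid

variable {k : Type*} [Field k] [Infinite k] {W : Type*} [AddCommGroup W] [Module k W]

/-- A vector space over an infinite field is not a finite union of proper subspaces. -/
theorem exists_not_mem {ι : Type*} {s : Set ι} (hs : s.Finite) (p : ι → Submodule k W) (hp : ∀ i ∈ s, p i ≠ ⊤) :
    ∃ w : W, ∀ i ∈ s, w ∉ p i := by
  by_contra h
  push Not at h
  have := hs.to_subtype
  have hc : ⋃ i : s, (p i : Set W) = Set.univ := by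
    rw [Set.eq_univ_iff_forall]
    intro w
    obtain ⟨i, hi, hw⟩ := h w
    exact Set.mem_iUnion.mpr ⟨⟨i, hi⟩, hw⟩
  obtain ⟨i, hi⟩ := Subspace.exists_eq_top_of_iUnion_eq_univ hc
  exact hp i i.2 hi

section

variable {K : Type*} [Field K] {V : Type*} [AddCommGroup V] [Module K V] (c : k →+* K) (ev : W →+ V)
  (hev : ∀ (t : k) (w : W), ev (t • w) = c t • ev w)

/-- The `w` with `ev w` in a subspace. -/
def pre (S : Submodule K V) : Submodule k W where
  carrier := {w | ev w ∈ S}
  add_mem' {a b} ha hb := by
    change ev (a + b) ∈ S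
    rw [map_add]
    exact S.add_mem ha hb
  zero_mem' := by
    change ev 0 ∈ S
    rw [map_zero]
    exact S.zero_mem
  smul_mem' t w hw := by
    change ev (t • w) ∈ S
    rw [hev]
    exact S.smul_mem _ hw

omit [Infinite k] in
theorem mem_pre (S : Submodule K V) (w : W) : w ∈ pre c ev hev S ↔ ev w ∈ S := Iff.rfl

omit [Infinite k] in
theorem pre_ne_top {r : ℕ} (hr : Module.finrank K V = r) (hspan : Submodule.span K (Set.range ev) = ⊤) {m : ℕ}
    (hm : m < r) (v : Fin m → V) : pre c ev hev (Submodule.span K (Set.range v)) ≠ ⊤ := by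
  intro h
  have h1 : Submodule.span K (Set.range v) = ⊤ := by
    rw [eq_top_iff, ← hspan, Submodule.span_le]
    rintro _ ⟨w, rfl⟩
    have : w ∈ pre c ev hev (Submodule.span K (Set.range v)) := by rw [h]; trivial
    exact this
  have h2 := finrank_range_le_card (R := K) (b := v)
  rw [Set.finrank, h1, finrank_top, hr, Fintype.card_fin] at h2
  omega

end

theorem exists_indep {Z : Type*} [TopologicalSpace Z] {Ξ : Set Z} (hΞ : Ξ.Finite)
    (hfin : ∀ C : Set Z, IsClosed C → Disjoint C Ξ → C.Finite)
    (K : Z → Type*) [∀ z, Field (K z)] (V : Z → Type*) [∀ z, AddCommGroup (V z)] [∀ z, Module (K z) (V z)]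
    (c : ∀ z, k →+* K z) (ev : ∀ z, W →+ V z) (hev : ∀ z (t : k) (w : W), ev z (t • w) = c z t • ev z w)
    {r : ℕ} (hr : ∀ z, Module.finrank (K z) (V z) = r)
    (hspan : ∀ z, Submodule.span (K z) (Set.range (ev z)) = ⊤)
    (hopen : ∀ (m : ℕ) (w : Fin m → W), IsOpen {z | LinearIndependent (K z) (ev z ∘ w)})
    (m : ℕ) (hm : m < r) : ∃ w : Fin m → W, ∀ z, LinearIndependent (K z) (ev z ∘ w) := by
  induction m with
  | zero => exact ⟨Fin.elim0, fun z => linearIndependent_empty_type⟩
  | succ m ih =>
    obtain ⟨w, hw⟩ := ih (by omega)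
    let B : ∀ z, Submodule k W := fun z => pre (c z) (ev z) (hev z) (Submodule.span (K z) (Set.range (ev z ∘ w)))
    have hB : ∀ z, B z ≠ ⊤ := fun z => pre_ne_top _ _ _ (hr z) (hspan z) (by omega) _
    obtain ⟨a, ha⟩ := exists_not_mem hΞ B fun z _ => hB z
    have hsnoc : ∀ z (x : W), LinearIndependent (K z) (ev z ∘ (Fin.snoc w x : Fin (m + 1) → W)) ↔ x ∉ B z := by
      intro z x
      rw [Fin.comp_snoc, linearIndependent_finSnoc]
      exact ⟨fun h => h.2, fun h => ⟨hw z, h⟩⟩
    -- the bad locus of `a`
    let Z₁ : Set Z := {z | a ∈ B z}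
    have hZ₁ : Z₁.Finite := by
      refine hfin Z₁ ?_ ?_
      · rw [← isOpen_compl_iff]
        have : Z₁ᶜ = {z | LinearIndependent (K z) (ev z ∘ (Fin.snoc w a : Fin (m + 1) → W))} := by
          ext z
          exact (hsnoc z a).symm
        rw [this]
        exact hopen _ _
      · rw [Set.disjoint_left]
        intro z hz hz'
        exact ha z hz' hz
    let B' : ∀ z, Submodule k W := fun z => pre (c z) (ev z) (hev z)
      (Submodule.span (K z) (Set.range (ev z ∘ (Fin.snoc w a : Fin (m + 1) → W))))
    have hB' : ∀ z, B' z ≠ ⊤ := fun z => pre_ne_top _ _ _ (hr z) (hspan z) (by omega) _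
    obtain ⟨b, hb⟩ := exists_not_mem (s := (Sum.inl '' Z₁ ∪ Sum.inr '' Ξ : Set (Z ⊕ Z)))
      ((hZ₁.image _).union (hΞ.image _)) (Sum.elim B B') (by
        rintro (z | z) _
        · exact hB z
        · exact hB' z)
    have hb1 : ∀ z ∈ Z₁, b ∉ B z := fun z hz => hb (Sum.inl z) (Or.inl ⟨z, hz, rfl⟩)
    have hb2 : ∀ z ∈ Ξ, b ∉ B' z := fun z hz => hb (Sum.inr z) (Or.inr ⟨z, hz, rfl⟩)
    have hsnoc2 : ∀ z, LinearIndependent (K z)
        (ev z ∘ (Fin.snoc (Fin.snoc w a : Fin (m + 1) → W) b : Fin (m + 2) → W)) ↔ a ∉ B z ∧ b ∉ B' z := by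
      intro z
      rw [Fin.comp_snoc, linearIndependent_finSnoc, hsnoc]
      rfl
    let Z₂ : Set Z := {z | ¬ (a ∉ B z ∧ b ∉ B' z)}
    have hZ₂ : Z₂.Finite := by
      refine hfin Z₂ ?_ ?_
      · rw [← isOpen_compl_iff]
        have : Z₂ᶜ = {z | LinearIndependent (K z)
            (ev z ∘ (Fin.snoc (Fin.snoc w a : Fin (m + 1) → W) b : Fin (m + 2) → W))} := by
          ext z
          rw [Set.mem_setOf_eq, hsnoc2 z, Set.mem_compl_iff, Set.mem_setOf_eq, not_not]
        rw [this]
        exact hopen _ _
      · rw [Set.disjoint_left]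
        intro z hz hz'
        exact hz ⟨ha z hz', hb2 z hz'⟩
    -- at each point of `Z₂` at most one bad value of `t`
    have hbad : ∀ z, {t : k | a + t • b ∈ B z}.Finite := by
      intro z
      refine Set.Subsingleton.finite ?_
      intro t ht t' ht'
      by_contra hne
      have h1 : (t - t') • b ∈ B z := by
        have := (B z).sub_mem ht ht'
        rwa [add_sub_add_left_eq_sub, ← sub_smul] at this
      have h2 : b ∈ B z := (Submodule.smul_mem_iff _ (sub_ne_zero.mpr hne)).mp h1
      have h3 : a ∈ B z := by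
        have := (B z).sub_mem ht ((B z).smul_mem t h2)
        rwa [add_sub_cancel_right] at this
      exact hb1 z h3 h2
    obtain ⟨t, ht⟩ := (hZ₂.biUnion (t := fun z => {t : k | a + t • b ∈ B z}) (fun z _ => hbad z)).exists_notMem
    refine ⟨Fin.snoc w (a + t • b), fun z => (hsnoc z _).mpr fun hmem => ?_⟩
    by_cases hz : z ∈ Z₂
    · exact ht (Set.mem_biUnion hz hmem)
    · have hz' : a ∉ B z ∧ b ∉ B' z := not_not.mp hz
      have hle : B z ≤ B' z := by
        intro x hx
        refine Submodule.span_mono ?_ hx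
        rw [Fin.comp_snoc, Fin.range_snoc]
        exact Set.subset_insert _ _
      have haB' : a ∈ B' z := by
        refine Submodule.subset_span ?_
        rw [Fin.comp_snoc, Fin.range_snoc]
        exact Set.mem_insert _ _
      by_cases h0 : t = 0
      · rw [h0, zero_smul, add_zero] at hmem
        exact hz'.1 hmem
      · apply hz'.2
        have h1 := (B' z).sub_mem (hle hmem) haB'
        rw [add_sub_cancel_left] at h1
        exact (Submodule.smul_mem_iff _ h0).mp h1

end K707.Avoid
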