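import Mathlib.Topology.KrullDimension
import Mathlib.Topology.NoetherianSpace
import Mathlib.Topology.Sober

/-!
# Finite closed subsets of a Noetherian space of dimension at most one (helper707)
-/

set_option autoImplicit false
universe u
open TopologicalSpace Topology

namespace K707.AvoidTop

variable {Z : Type u} [TopologicalSpace Z]

theorem eq_of_lt (hd : topologicalKrullDim Z ≤ 1) {A B T : Set Z} (hA : IsClosed A) (hA' : IsIrreducible A)
    (hB : IsClosed B) (hB' : IsIrreducible B) (hT : IsClosed T) (hT' : IsIrreducible T) (hAB : A ⊆ B) (hBT : B ⊆ T)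
    (hne : B ≠ T) : A = B := by
  by_contra hne'
  let a : IrreducibleCloseds Z := ⟨A, hA', hA⟩
  let b : IrreducibleCloseds Z := ⟨B, hB', hB⟩
  let c : IrreducibleCloseds Z := ⟨T, hT', hT⟩
  have hab : a < b := lt_of_le_of_ne hAB (fun h => hne' (congrArg IrreducibleCloseds.carrier h))
  have hbc : b < c := lt_of_le_of_ne hBT (fun h => hne (congrArg IrreducibleCloseds.carrier h))
  let s : LTSeries (IrreducibleCloseds Z) :=
    { length := 2
      toFun := ![a, b, c]
      step := by
        intro i
        fin_cases i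
        · exact hab
        · exact hbc }
  have h2 : ((2 : ℕ) : WithBot ℕ∞) ≤ topologicalKrullDim Z := Order.LTSeries.length_le_krullDim s
  have h3 : ((2 : ℕ) : WithBot ℕ∞) ≤ ((1 : ℕ) : WithBot ℕ∞) := h2.trans hd
  exact absurd (by exact_mod_cast h3 : (2 : ℕ) ≤ 1) (by decide)

/-- The generic points of the irreducible components: a closed subset which avoids them is finite. -/
theorem exists_generic [T0Space Z] [QuasiSober Z] [NoetherianSpace Z] (hd : topologicalKrullDim Z ≤ 1) :
    ∃ Ξ : Set Z, Ξ.Finite ∧ ∀ C : Set Z, IsClosed C → Disjoint C Ξ → C.Finite := by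
  have hfin : (irreducibleComponents Z).Finite := NoetherianSpace.finite_irreducibleComponents
  have hg : ∀ T : irreducibleComponents Z, ∃ ξ : Z, IsGenericPoint ξ (T : Set Z) := fun T =>
    QuasiSober.sober T.2.1 (isClosed_of_mem_irreducibleComponents _ T.2)
  choose g hg using hg
  have := hfin.to_subtype
  refine ⟨Set.range g, Set.finite_range g, fun C hC hdis => ?_⟩
  obtain ⟨S, hS, hSc, hSi, hSZ⟩ := NoetherianSpace.exists_finite_set_isClosed_irreducible hC
  rw [hSZ]
  refine Set.Finite.sUnion hS ?_
  intro A hA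
  obtain ⟨x, hx⟩ := QuasiSober.sober (hSi A hA) (hSc A hA)
  obtain ⟨T, hT, hAT⟩ := exists_mem_irreducibleComponents_subset_of_isIrreducible A (hSi A hA)
  have hTcl : IsClosed T := isClosed_of_mem_irreducibleComponents _ hT
  have hne : A ≠ T := by
    rintro rfl
    have h1 : g ⟨A, hT⟩ ∈ C := by
      rw [hSZ]
      exact ⟨A, hA, (hg ⟨A, hT⟩).mem⟩
    exact Set.disjoint_left.mp hdis h1 ⟨_, rfl⟩
  have key : A ⊆ {x} := by
    intro w hw
    have h1 : closure ({w} : Set Z) ⊆ A :=
      (hSc A hA).closure_subset_iff.mpr (Set.singleton_subset_iff.mpr hw)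
    have h2 := eq_of_lt hd isClosed_closure isIrreducible_singleton.closure (hSc A hA) (hSi A hA) hTcl hT.1 h1 hAT hne
    have h3 : Inseparable w x := inseparable_iff_closure_eq.mpr (h2.trans hx.def.symm)
    exact h3.eq
  exact (Set.finite_singleton x).subset key

end K707.AvoidTop
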