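import Groth.Agent.VBCurve.K707.IndepCoker
import Groth.Agent.VBCurve.K707.Avoid
import Groth.Agent.VBCurve.K707.AvoidTop
import Groth.Agent.CurvesC.GGSec

/-!
# General sections of a globally generated bundle along a one-dimensional subset (helper707)

* `isOpen_indep`: the locus where sections are independent is open;
* `exists_indep_on`: `m < r` global sections of a globally generated bundle of rank `r` independent along a subset of
  dimension at most one;
* `partBasis_restrict`: sections independent at all points of an open are a `PartBasis` of the restriction.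
-/

set_option autoImplicit false
universe u

open CategoryTheory CategoryTheory.Limits AlgebraicGeometry Opposite TopologicalSpace
open scoped TensorProduct

namespace K707.IndepGlob

open Groth.Agent.Sga67.Sec Groth.Agent.Sga67.LocBasis Groth.Agent.Sga67.LocBasisStalk
open K707.Indep K707.IndepCoker

variable {X : Scheme.{u}} {E : X.Modules} {n m r : ℕ}

/-- Sections independent at a point. -/
def Ind (w : Fin m → Sec E ⊤) (x : X) : Prop :=
  LinearIndependent (KK X x) (fun i => ev E (U := ⊤) x trivial (w i))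

theorem exists_complement' (hE : FlatMod.IsFinLocFreeOfRank r E) (w : Fin m → Sec E ⊤) (x : X) (hx : Ind w x) :
    ∃ (V : X.Opens) (c : Fin (r - m) → Sec E V), x ∈ V ∧ IsLocBasis (Sum.elim (fun i => res E le_top (w i)) c) := by
  simp only [FlatMod.IsFinLocFreeOfRank, nonempty_restrict_iso_iff] at hE
  obtain ⟨U, hxU, b, hb⟩ := hE x
  obtain ⟨-, V, hV, c, hxV, hc⟩ := exists_complement hb (fun i => res E (le_top : U ≤ ⊤) (w i)) x hxU (by
    simp only [ev_res]
    exact hx)
  refine ⟨V, c, hxV, ?_⟩
  convert hc using 3 with i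
  rw [res_res]

theorem isOpen_indep (hE : FlatMod.IsFinLocFreeOfRank r E) (w : Fin m → Sec E ⊤) : IsOpen {x : X | Ind w x} := by
  rw [isOpen_iff_forall_mem_open]
  intro x hx
  obtain ⟨V, c, hxV, hb⟩ := exists_complement' hE w x hx
  refine ⟨V, fun y hy => ?_, V.2, hxV⟩
  have := indep_of_isLocBasis hb y hy
  simp only [ev_res] at this
  exact this

/-- Values of generating sections span the fibre. -/
theorem span_ev {ι : Type*} (e : ι → Γ(E, ⊤)) (x : X) (he : Submodule.span (X.presheaf.stalk x)
      (Set.range fun i => E.presheaf.germ ⊤ x trivial (e i)) = ⊤) :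
    Submodule.span (KK X x) (Set.range fun s : Sec E ⊤ => ev E (U := ⊤) x trivial s) = ⊤ := by
  rw [eq_top_iff]
  rintro v -
  obtain ⟨t, rfl⟩ := tev_surjective E x v
  have ht : t ∈ Submodule.span (X.presheaf.stalk x) (Set.range fun i => E.presheaf.germ ⊤ x trivial (e i)) := by
    rw [he]; trivial
  induction ht using Submodule.span_induction with
  | mem t ht =>
    obtain ⟨i, rfl⟩ := ht
    exact Submodule.subset_span ⟨e i, rfl⟩
  | zero => rw [map_zero]; exact Submodule.zero_mem _
  | add s t _ _ hs ht => rw [map_add]; exact Submodule.add_mem _ hs ht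
  | smul a t _ ht => rw [tev_smul]; exact Submodule.smul_mem _ _ ht

theorem exists_indep_on {k : Type*} [Field k] [Infinite k] (c : k →+* Γ(X, ⊤))
    (hE : FlatMod.IsFinLocFreeOfRank r E) (hgg : Curv2.IsGloballyGenerated E)
    {Z : Type*} [TopologicalSpace Z] [T0Space Z] [QuasiSober Z] [NoetherianSpace Z]
    (hd : topologicalKrullDim Z ≤ 1) (g : Z → X) (hg : Continuous g) (m : ℕ) (hm : m < r) :
    ∃ w : Fin m → Sec E ⊤, ∀ z, Ind w (g z) := by
  obtain ⟨Ξ, hΞ, hfin⟩ := K707.AvoidTop.exists_generic hd
  let _ : Module k (Sec E ⊤) := Module.compHom _ c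
  obtain ⟨ι, e, he⟩ := Groth.Agent.CurvesC.GGSec.exists_sections_of_isGloballyGenerated hgg
  have hrank : ∀ x : X, Module.finrank (KK X x) (Fib E x) = r := by
    intro x
    simp only [FlatMod.IsFinLocFreeOfRank, nonempty_restrict_iso_iff] at hE
    obtain ⟨U, hxU, b, hb⟩ := hE x
    obtain ⟨β, -⟩ := exists_fibBasis hb x hxU
    rw [Module.finrank_eq_card_basis β, Fintype.card_fin]
  let evh : ∀ z : Z, Sec E ⊤ →+ Fib E (g z) := fun z =>
    { toFun := fun s => ev E (U := ⊤) (g z) trivial s
      map_zero' := ev_zero _ _ _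
      map_add' := fun s t => ev_add _ _ _ s t }
  exact K707.Avoid.exists_indep (k := k) (W := Sec E ⊤) hΞ hfin (fun z => KK X (g z)) (fun z => Fib E (g z))
    (fun z => (evO (U := ⊤) (g z) trivial).comp c) evh (fun z t w => ev_smul E (U := ⊤) (g z) trivial (c t) w)
    (fun z => hrank (g z)) (fun z => span_ev e (g z) (he (g z)))
    (fun m w => (isOpen_indep hE w).preimage hg) m hm

/-- A local basis over an open of `X` is one of the restriction. -/
theorem isLocBasis_restrict_of {M : X.Modules} {U : X.Opens} {V : (U : Scheme.{u}).Opens} {κ : Type*} [Fintype κ]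
    {b : κ → Sec M (U.ι ''ᵁ V)} (hb : IsLocBasis b) : IsLocBasis (M := M.restrict U.ι) (U := V) b := by
  intro V' h'
  have h'' : U.ι ''ᵁ V' ≤ U.ι ''ᵁ V := Scheme.Hom.image_mono _ h'
  have key : ∀ (a : κ → Γ(U, V')), (comb (M := M.restrict U.ι) (U := V) b h' a) =
      comb b h'' (show κ → Γ(X, U.ι ''ᵁ V') from a) := by
    intro a
    rw [comb_apply, comb_apply]
    refine (restrict_sum _).trans ?_
    refine Finset.sum_congr rfl fun i _ => ?_
    exact restrict_smul _ _
  have e : (comb (M := M.restrict U.ι) (U := V) b h' : (κ → Γ(U, V')) → Sec (M.restrict U.ι) V') = comb b h'' :=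
    funext fun a => key a
  have := hb (U.ι ''ᵁ V') h''
  change Function.Bijective (comb (M := M.restrict U.ι) (U := V) b h' : (κ → Γ(U, V')) → Sec (M.restrict U.ι) V')
  rw [e]
  exact this

/-- Restriction of a family of global sections to an open subscheme. -/
noncomputable def resFam (U : X.Opens) (w : Fin m → Sec E ⊤) : Fin m → Sec (E.restrict U.ι) ⊤ :=
  fun i => res E (U := ⊤) (V := U.ι ''ᵁ ⊤) le_top (w i)

theorem partBasis_restrict (hE : FlatMod.IsFinLocFreeOfRank r E) (w : Fin m → Sec E ⊤) (U : X.Opens)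
    (hU : ∀ x ∈ U, Ind w x) : PartBasis (r - m) (resFam U w) := by
  intro x
  obtain ⟨V, c, hxV, hb⟩ := exists_complement' hE w x.1 (hU x.1 x.2)
  have hV : U.ι ''ᵁ (U.ι ⁻¹ᵁ V) ≤ V := by
    rw [Scheme.Hom.image_preimage_eq_opensRange_inf, Scheme.Opens.opensRange_ι]
    exact inf_le_right
  refine ⟨U.ι ⁻¹ᵁ V, fun j => res E hV (c j), hxV, ?_⟩
  have h1 := isLocBasis_restrict_of (U := U) (V := U.ι ⁻¹ᵁ V) (hb.restrict hV)
  have h2 : (fun i => res E hV (Sum.elim (fun i => res E le_top (w i)) c i)) =
      Sum.elim (fun i => res (E.restrict U.ι) (le_top : U.ι ⁻¹ᵁ V ≤ ⊤) (resFam U w i)) (fun j => res E hV (c j)) := by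
    funext i
    rcases i with i | j
    · rw [Sum.elim_inl, Sum.elim_inl, res_res]
      refine Eq.trans ?_ (restrict_res _ _).symm
      rw [resFam, res_res]
    · rfl
  rw [h2] at h1
  exact h1

end K707.IndepGlob
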