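import Groth.Agent.VBCurve.K707.Deg

/-!
# Coherent modules on regular proper integral curves: saturation, slopes (helper707)

Everything takes `C : Crv k X` (see `Crv.of_smooth`), with `[IsIntegral X] [IsProper (X ↘ Spec k)]`. `rk` is the generic rank
(`Groth.Agent.VarietyA.DegRank.rk`), `dg k` the degree (`K707.Deg.dg`).
-/

set_option autoImplicit false
universe u

open CategoryTheory CategoryTheory.Limits AlgebraicGeometry TopologicalSpace Opposite

namespace K707.Slope

open Groth.Agent.CycB.StalkExact Groth.Agent.VarietyA.DegRank K707.Base K707.Deg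

theorem isPrincipalIdealRing_of_isField {R : Type*} [CommRing R] (h : IsField R) : IsPrincipalIdealRing R := by
  let _ := h.toField
  infer_instance

section

variable {k : Type u} [Field k] {X : Scheme.{u}} [X.Over (Spec (CommRingCat.of k))]

/-- A smooth integral one-dimensional scheme over a field has principal local rings. -/
theorem _root_.K707.Base.Crv.of_smooth [IsIntegral X] [Smooth (X ↘ Spec (CommRingCat.of k))]
    (hdim : topologicalKrullDim X = 1) : Crv k X := by
  refine ⟨hdim, fun x => ?_⟩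
  have hreg : IsRegularLocalRing (X.presheaf.stalk x) := Groth.Agent.S1535.result k X x
  have hle := Groth.Agent.VarietyA.SmoothReg.ringKrullDim_stalk_le X x
  rw [hdim] at hle
  by_cases hf : IsField (X.presheaf.stalk x)
  · exact isPrincipalIdealRing_of_isField hf
  · have h1 : ringKrullDim (X.presheaf.stalk x) ≠ 0 := fun h0 => by
      apply hf
      have : Ring.KrullDimLE 0 (X.presheaf.stalk x) := Ring.krullDimLE_iff.mpr (by rw [h0]; rfl)
      exact Ring.KrullDimLE.isField_of_isDomain
    have h2 : 0 ≤ ringKrullDim (X.presheaf.stalk x) := ringKrullDim_nonneg_of_nontrivial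
    have h3 : ringKrullDim (X.presheaf.stalk x) = 1 := by
      refine le_antisymm hle ?_
      have h4 : 0 < ringKrullDim (X.presheaf.stalk x) := lt_of_le_of_ne h2 (Ne.symm h1)
      exact (WithBot.one_le_iff_pos _).mpr h4
    have := Groth.Agent.VarietyA.SmoothReg.isDiscreteValuationRing_of_isRegularLocalRing _ h3
    infer_instance

variable [IsIntegral X] [IsProper (X ↘ (Spec (CommRingCat.of k)))] (C : Crv k X)

include C

theorem isLocNoeth : IsLocallyNoetherian X := by
  have := isNoetherian k (X := X)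
  infer_instance

theorem vb_of_torsionFree {M : X.Modules} (hM : Coh.IsCoh M) (h : TorSh.IsTorsionFree M) :
    FlatMod.IsFinLocFree M := by
  have := isLocNoeth C
  exact isFinLocFree_of_rank (isFinLocFreeOfRank_of_torsionFree C.pid hM h)

theorem vb_of_mono {M N : X.Modules} (i : M ⟶ N) [Mono i] (hM : Coh.IsCoh M) (hN : FlatMod.IsFinLocFree N) :
    FlatMod.IsFinLocFree M :=
  vb_of_torsionFree C hM (isTorsionFree_of_mono i (isTorsionFree_of_isFinLocFree hN))

theorem coh_kernel {M N : X.Modules} (f : M ⟶ N) (hM : Coh.IsCoh M) (hN : Coh.IsCoh N) :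
    Coh.IsCoh (kernel f) := by
  have := isLocNoeth C
  exact Groth.Agent.Sga67.CohBasic.isCoh_kernel f hM hN.1

theorem vb_kernel {M N : X.Modules} (f : M ⟶ N) (hM : FlatMod.IsFinLocFree M) (hN : Coh.IsCoh N) :
    FlatMod.IsFinLocFree (kernel f) :=
  vb_of_mono C (kernel.ι f) (coh_kernel C f (Groth.Agent.PerfA.CohSerre.isCoh_of_isFinLocFree hM) hN) hM

end

section

variable {X : Scheme.{u}}

theorem coh_of_vb {M : X.Modules} (h : FlatMod.IsFinLocFree M) : Coh.IsCoh M :=
  Groth.Agent.PerfA.CohSerre.isCoh_of_isFinLocFree h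

theorem coh_cokernel {M N : X.Modules} (f : M ⟶ N) (hM : Coh.IsCoh M) (hN : Coh.IsCoh N) :
    Coh.IsCoh (cokernel f) := Groth.Agent.Sga67.CohBasic.isCoh_cokernel f hM.1 hN

theorem coh_iso {M N : X.Modules} (e : M ≅ N) (h : Coh.IsCoh M) : Coh.IsCoh N :=
  Groth.Agent.Sga67.CohBasic.isCoh_of_iso e h

theorem vb_iso {M N : X.Modules} (e : M ≅ N) (h : FlatMod.IsFinLocFree M) : FlatMod.IsFinLocFree N := by
  intro x
  obtain ⟨U, n, hU, ⟨a⟩⟩ := h x
  exact ⟨U, n, hU, ⟨(Scheme.Modules.restrictFunctor U.ι).mapIso e.symm ≪≫ a⟩⟩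

theorem rank_iso {n : ℕ} {M N : X.Modules} (e : M ≅ N) (h : FlatMod.IsFinLocFreeOfRank n M) :
    FlatMod.IsFinLocFreeOfRank n N := by
  intro x
  obtain ⟨U, hU, ⟨a⟩⟩ := h x
  exact ⟨U, hU, ⟨(Scheme.Modules.restrictFunctor U.ι).mapIso e.symm ≪≫ a⟩⟩

end

section

variable {k : Type u} [Field k] {X : Scheme.{u}} [X.Over (Spec (CommRingCat.of k))]
  [IsIntegral X] [IsProper (X ↘ (Spec (CommRingCat.of k)))]

/-- The short exact sequence `0 → ker f → M → im f → 0` and numerical consequences. -/
theorem exists_factor (C : Crv k X) {M N : X.Modules} (f : M ⟶ N) (hM : Coh.IsCoh M) (hN : Coh.IsCoh N) :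
    ∃ (I : X.Modules) (p : M ⟶ I) (i : I ⟶ N), Epi p ∧ Mono i ∧ p ≫ i = f ∧ Coh.IsCoh I ∧
      rk M = rk (kernel f) + rk I ∧ dg k M = dg k (kernel f) + dg k I ∧
      rk N = rk I + rk (cokernel f) ∧ dg k N = dg k I + dg k (cokernel f) := by
  have hK := coh_kernel C f hM hN
  have hC := coh_cokernel f hM hN
  let S : ShortComplex X.Modules := ShortComplex.mk (kernel.ι f) (Abelian.factorThruImage f)
    (by rw [← cancel_mono (Abelian.image.ι f)]; simp)
  have hS : S.ShortExact := by
    refine { exact := ?_, mono_f := inferInstanceAs (Mono (kernel.ι f)),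
             epi_g := inferInstanceAs (Epi (Abelian.factorThruImage f)) }
    have hk : IsLimit (KernelFork.ofι (kernel.ι f) S.zero) := by
      refine KernelFork.IsLimit.ofι' _ _ fun {A} g hg => ?_
      refine ⟨kernel.lift f g ?_, kernel.lift_ι _ _ _⟩
      rw [← Abelian.image.fac f, ← Category.assoc]
      exact (congrArg (· ≫ Abelian.image.ι f) hg).trans zero_comp
    exact ShortComplex.exact_of_f_is_kernel _ hk
  let S' : ShortComplex X.Modules := ShortComplex.mk (Abelian.image.ι f) (cokernel.π f)
    (by rw [← cancel_epi (Abelian.factorThruImage f)]; simp)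
  have hS' : S'.ShortExact := by
    refine { exact := ?_, mono_f := inferInstanceAs (Mono (Abelian.image.ι f)),
             epi_g := inferInstanceAs (Epi (cokernel.π f)) }
    exact ShortComplex.exact_of_f_is_kernel _ (kernelIsKernel (cokernel.π f))
  have := isNoetherian k (X := X)
  have hI : Coh.IsCoh (Abelian.image f) := Groth.Agent.Sga67.CohBasic.isCoh_image f hM hN.1
  exact ⟨Abelian.image f, Abelian.factorThruImage f, Abelian.image.ι f, inferInstance, inferInstance,
    Abelian.image.fac f, hI, rk_add' k S hS hM, dg_add k S hS hK hM hI, rk_add' k S' hS' hN,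
    dg_add k S' hS' hI hN hC⟩

theorem isZero_of_rk_eq_zero (C : Crv k X) {M : X.Modules} (hM : FlatMod.IsFinLocFree M) (h : rk M = 0) :
    IsZero M := by
  rw [Groth.Agent.VarietyB.ExactLoc.isZero_iff_stalk]
  intro x
  have h1 := isFinLocFreeOfRank_rk hM
  rw [h] at h1
  obtain ⟨b⟩ := exists_basis h1 x
  exact b.repr.toEquiv.subsingleton

theorem rk_of_isZero {M : X.Modules} (h : IsZero M) : rk M = 0 := by
  rw [Groth.Agent.VarietyB.ExactLoc.isZero_iff_stalk] at h
  have := h (genericPoint X)
  exact Module.finrank_zero_of_subsingleton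

theorem dg_of_isZero {M : X.Modules} (h : IsZero M) : dg k M = 0 := by
  have e : M ≅ M := Iso.refl M
  have hc : Coh.IsCoh M := Groth.Agent.Sga67.CohBasic.isCoh_of_isZero h
  let S : ShortComplex X.Modules := ShortComplex.mk (0 : M ⟶ M) (𝟙 M) (by simp)
  have hS : S.ShortExact := by
    refine { exact := ?_, mono_f := ?_, epi_g := inferInstanceAs (Epi (𝟙 M)) }
    · exact ShortComplex.exact_of_isZero_X₂ _ h
    · exact ⟨fun g h' _ => h.eq_of_tgt _ _⟩
  have := dg_add k S hS hc hc hc
  simp only [S] at this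
  omega

end

end K707.Slope
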