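import Groth.Agent.VBCurve.K707.Base
import Groth.Agent.S0002

/-!
# Degree of coherent modules on integral proper curves (helper707)

`dg k M = χ(M) - rk(M) χ(O_X)` for coherent `M`; additive in short exact sequences; equal to `Curv2.deg k X M n` for `M`
finite locally free of rank `n`; non-negative for generically zero `M` and then zero iff `M = 0`.
-/

set_option autoImplicit false
universe u

open CategoryTheory CategoryTheory.Limits AlgebraicGeometry TopologicalSpace Opposite

namespace K707.Deg

open Groth.Agent.CycB.StalkExact Groth.Agent.VarietyA.DegRank K707.Base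

section

variable (k : Type u) [Field k] {X : Scheme.{u}} [X.Over (Spec (CommRingCat.of k))]

/-- The degree of a coherent module on an integral proper curve. -/
noncomputable def dg [IrreducibleSpace X] (M : X.Modules) : ℤ :=
  Curv2.euler k X M - rk M * Curv2.euler k X (Coh.structureModule X)

theorem euler_eq_dg [IrreducibleSpace X] (M : X.Modules) :
    Curv2.euler k X M = dg k M + rk M * Curv2.euler k X (Coh.structureModule X) := by
  rw [dg]; ring

theorem dg_of_rank [IrreducibleSpace X] {n : ℕ} {M : X.Modules} (h : FlatMod.IsFinLocFreeOfRank n M) :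
    dg k M = Curv2.deg k X M n := by
  rw [dg, Curv2.deg, rk_of_rank h]

theorem dg_iso [IrreducibleSpace X] {M N : X.Modules} (e : M ≅ N) : dg k M = dg k N := by
  rw [dg, dg, euler_iso k e, rk_iso e]

theorem isNoetherian [IsProper (X ↘ (Spec (CommRingCat.of k)))] : IsNoetherian X :=
  Groth.Agent.VarietyA.GlobGen.isNoetherian_of_finiteType (X ↘ (Spec (CommRingCat.of k)))

variable [IsIntegral X] [IsProper (X ↘ (Spec (CommRingCat.of k)))]

include k in
theorem rk_add' (S : ShortComplex X.Modules) (hS : S.ShortExact) (h₂ : Coh.IsCoh S.X₂) :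
    rk S.X₂ = rk S.X₁ + rk S.X₃ := by
  have := isNoetherian k (X := X)
  exact rk_add S hS h₂

theorem dg_add (S : ShortComplex X.Modules) (hS : S.ShortExact) (h₁ : Coh.IsCoh S.X₁)
    (h₂ : Coh.IsCoh S.X₂) (h₃ : Coh.IsCoh S.X₃) : dg k S.X₂ = dg k S.X₁ + dg k S.X₃ := by
  have e1 := Groth.Agent.S1524.result k X S hS h₁ h₂ h₃
  have e2 := rk_add' k S hS h₂
  rw [dg, dg, dg, e1, e2]
  push_cast
  ring

include k in
/-- A short exact sequence with coherent middle term and quasi-coherent outer ones: everything is coherent. -/
theorem isCoh_left (S : ShortComplex X.Modules) (hS : S.ShortExact) (h₂ : Coh.IsCoh S.X₂)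
    (h₃ : Coh.IsQCoh S.X₃) : Coh.IsCoh S.X₁ := by
  have := isNoetherian k (X := X)
  exact Groth.Agent.Sga67.CohBasic.isCoh_X₁ hS h₂ h₃

end

section torsion

variable (k : Type u) [Field k] {X : Scheme.{u}} [X.Over (Spec (CommRingCat.of k))] [IsIntegral X]
  [IsProper (X ↘ (Spec (CommRingCat.of k)))]

theorem not_mem_support {M : X.Modules} (h : Subsingleton (M.presheaf.stalk (genericPoint X))) :
    genericPoint X ∉ CohB1.support M := not_not.mpr h

theorem rk_eq_zero_of_subsingleton {M : X.Modules} (h : Subsingleton (M.presheaf.stalk (genericPoint X))) :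
    rk M = 0 := Module.finrank_zero_of_subsingleton

theorem subsingleton_of_rk_eq_zero {M : X.Modules} (hM : Coh.IsCoh M) (h : rk M = 0) :
    Subsingleton (M.presheaf.stalk (genericPoint X)) := by
  have h1 := Groth.Agent.Divis.StalkMod.finite_stalk hM (genericPoint X)
  let hf := (isField_gen X).toField
  by_contra hne
  rw [not_subsingleton_iff_nontrivial] at hne
  have h2 : Module.finrank (X.presheaf.stalk (genericPoint X)) (M.presheaf.stalk (genericPoint X)) = 0 := h
  have h3 : Module.IsTorsionFree (X.presheaf.stalk (genericPoint X)) (M.presheaf.stalk (genericPoint X)) := by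
    refine Module.IsTorsionFree.of_smul_eq_zero fun r m hrm => ?_
    by_cases hr : r = 0
    · exact Or.inl hr
    · right
      obtain ⟨s, hs⟩ := (isField_gen X).mul_inv_cancel hr
      rw [← one_smul (X.presheaf.stalk (genericPoint X)) m, ← hs, mul_comm, mul_smul, hrm, smul_zero]
  have h4 : 0 < Module.finrank (X.presheaf.stalk (genericPoint X)) (M.presheaf.stalk (genericPoint X)) :=
    Module.finrank_pos_iff.mpr hne
  omega

/-- The Euler characteristic of a generically zero coherent module is `dim H⁰`. -/
theorem euler_of_torsion (hdim : topologicalKrullDim X = 1) {M : X.Modules} (hM : Coh.IsCoh M)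
    (h : Subsingleton (M.presheaf.stalk (genericPoint X))) :
    Curv2.euler k X M = Module.finrank k (Coh.HH X M 0) := by
  have := isNoetherian k (X := X)
  have hs := dim_support_le_zero hdim.le M hM (not_mem_support h)
  refine Groth.Agent.VarietyA.EulerFinite.euler_eq_of_vanish k X M fun i hi =>
    Groth.Agent.S0047.result X M hM (fun x hx => ?_) i hi
  exact Groth.Agent.VarietyA.GlobGen.isClosed_singleton_of_mem_support M hM.2 hs hx

theorem dg_eq_euler_of_torsion {M : X.Modules} (h : Subsingleton (M.presheaf.stalk (genericPoint X))) :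
    dg k M = Curv2.euler k X M := by
  rw [dg, rk_eq_zero_of_subsingleton h]; simp

theorem dg_nonneg_of_torsion (hdim : topologicalKrullDim X = 1) {M : X.Modules} (hM : Coh.IsCoh M)
    (h : Subsingleton (M.presheaf.stalk (genericPoint X))) : 0 ≤ dg k M := by
  rw [dg_eq_euler_of_torsion k h, euler_of_torsion k hdim hM h]
  positivity

attribute [local instance] Groth.Agent.VarietyA.FiniteSupportK.stalkModK in
theorem isZero_of_dg_le_zero (hdim : topologicalKrullDim X = 1) {M : X.Modules} (hM : Coh.IsCoh M)
    (h : Subsingleton (M.presheaf.stalk (genericPoint X))) (h0 : dg k M ≤ 0) : IsZero M := by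
  have := isNoetherian k (X := X)
  have hs := dim_support_le_zero hdim.le M hM (not_mem_support h)
  have hfin := Groth.Agent.VarietyA.GlobGen.finite_support M hM.2 hs
  have hcl : ∀ x ∈ CohB1.support M, IsClosed ({x} : Set X) := fun x hx =>
    Groth.Agent.VarietyA.GlobGen.isClosed_singleton_of_mem_support M hM.2 hs hx
  rw [dg_eq_euler_of_torsion k h, euler_of_torsion k hdim hM h] at h0
  have h1 : Module.finrank k (Coh.HH X M 0) = 0 := by omega
  have h2 : Module.Finite k (Coh.HH X M 0) := Groth.Agent.S0002.result k X M hM 0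
  have h3 : Subsingleton (Coh.HH X M 0) := Module.finrank_zero_iff.mp h1
  let f := Groth.Agent.VarietyA.FiniteSupportK.hZeroGerms k X M hfin hcl
    (fun x hx => (Groth.Agent.VarietyA.StalkCrit.not_mem_support_iff M x).mp hx)
  rw [Groth.Agent.VarietyB.ExactLoc.isZero_iff_stalk]
  intro x
  by_cases hx : x ∈ CohB1.support M
  · refine ⟨fun a b => ?_⟩
    classical
    let va : ∀ x : CohB1.support M, M.presheaf.stalk (x : X) := Function.update 0 ⟨x, hx⟩ a
    let vb : ∀ x : CohB1.support M, M.presheaf.stalk (x : X) := Function.update 0 ⟨x, hx⟩ b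
    have h4 : va = vb := f.symm.injective (Subsingleton.elim _ _)
    have h5 := congrFun h4 ⟨x, hx⟩
    simpa [va, vb] using h5
  · exact (Groth.Agent.VarietyA.StalkCrit.not_mem_support_iff M x).mp hx

end torsion

end K707.Deg
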