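import Groth.Agent.VBCurve.K707.Semi
import Groth.Agent.CurvesC.CurveCoh
import Groth.Agent.PerfA.QCohExt

/-!
# The maximal destabilising submodule (helper707)

* `dg_le_of_sub`: degrees of submodules of a coherent module are bounded above;
* `exists_max`: a submodule of maximal slope and of maximal rank among these; its quotient is locally free, and all
  submodules of the quotient have smaller slope.
-/

set_option autoImplicit false
universe u

open CategoryTheory CategoryTheory.Limits AlgebraicGeometry TopologicalSpace Opposite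

namespace K707.MaxSlope

open Groth.Agent.VarietyA.DegRank K707.Base K707.Deg K707.Slope K707.Semi

variable {k : Type u} [Field k] {X : Scheme.{u}} [X.Over (Spec (CommRingCat.of k))]
  [IsIntegral X] [IsProper (X ↘ (Spec (CommRingCat.of k)))]

variable (k) in
theorem finrank_H0_le {F E : X.Modules} (i : F ⟶ E) [Mono i] (hE : Coh.IsCoh E) :
    Module.finrank k (Coh.HH X F 0) ≤ Module.finrank k (Coh.HH X E 0) := by
  have := Groth.Agent.S0002.result k X E hE 0
  exact LinearMap.finrank_le_finrank_of_injective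
    (Groth.Agent.VarietyA.EulerLES.injectiveA₀ k _ (cokernel_shortExact i))

theorem euler_le_H0 (C : Crv k X) (F : X.Modules) :
    Curv2.euler k X F ≤ Module.finrank k (Coh.HH X F 0) := by
  rw [Groth.Agent.CurvesC.CurveCoh.euler_eq k X C.dim F]
  have : (0 : ℤ) ≤ Module.finrank k (Coh.HH X F 1) := by positivity
  linarith

/-- Degrees of submodules are bounded above. -/
theorem exists_dg_le (C : Crv k X) {E : X.Modules} (hE : Coh.IsCoh E) :
    ∃ B : ℤ, 0 ≤ B ∧ ∀ (F : X.Modules) (i : F ⟶ E), Mono i → Coh.IsCoh F → dg k F ≤ B := by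
  refine ⟨Module.finrank k (Coh.HH X E 0) + rk E * |Curv2.euler k X (Coh.structureModule X)|, by positivity,
    fun F i hi hF => ?_⟩
  have h1 := euler_le_H0 C F
  have h2 : (Module.finrank k (Coh.HH X F 0) : ℤ) ≤ Module.finrank k (Coh.HH X E 0) := by
    exact_mod_cast finrank_H0_le k i hE
  have h3 : (rk F : ℤ) ≤ rk E := by exact_mod_cast rk_le_of_mono C i hF hE
  have h4 : -(rk F * Curv2.euler k X (Coh.structureModule X)) ≤
      rk E * |Curv2.euler k X (Coh.structureModule X)| := by
    have h5 := neg_abs_le (Curv2.euler k X (Coh.structureModule X))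
    have h6 : (rk F : ℤ) * (-|Curv2.euler k X (Coh.structureModule X)|) ≤
        rk F * Curv2.euler k X (Coh.structureModule X) := mul_le_mul_of_nonneg_left h5 (by positivity)
    have h7 : (rk F : ℤ) * |Curv2.euler k X (Coh.structureModule X)| ≤
        rk E * |Curv2.euler k X (Coh.structureModule X)| := mul_le_mul_of_nonneg_right h3 (abs_nonneg _)
    linarith
  rw [dg]
  linarith

/-- A submodule of maximal slope and, among these, of maximal rank. -/
theorem exists_max_aux (C : Crv k X) {E : X.Modules} (hE : FlatMod.IsFinLocFree E) (hpos : 0 < rk E) :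
    ∃ (G : X.Modules) (j : G ⟶ E), Mono j ∧ FlatMod.IsFinLocFree G ∧ 0 < rk G ∧
      (∀ (F : X.Modules) (i : F ⟶ E), Mono i → FlatMod.IsFinLocFree F → dg k F * rk G ≤ dg k G * rk F) ∧
      (∀ (F : X.Modules) (i : F ⟶ E), Mono i → FlatMod.IsFinLocFree F →
        dg k G * rk F ≤ dg k F * rk G → rk F ≤ rk G) := by
  have hEc := coh_of_vb hE
  obtain ⟨B, hB0, hB⟩ := exists_dg_le C hEc
  let N : ℕ := (rk E).factorial
  have hN : 0 < N := Nat.factorial_pos _
  have hdvd : ∀ (F : X.Modules) (i : F ⟶ E), Mono i → FlatMod.IsFinLocFree F → 0 < rk F → rk F ∣ N := by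
    intro F i hi hF h0
    exact Nat.dvd_factorial h0 (rk_le_of_mono C i (coh_of_vb hF) hEc)
  -- the values `dg F * (N / rk F)`
  let S : Set ℤ := {v | ∃ (F : X.Modules) (i : F ⟶ E), Mono i ∧ FlatMod.IsFinLocFree F ∧ 0 < rk F ∧
    v = dg k F * (N / rk F : ℕ)}
  have hSne : ∃ v, v ∈ S := ⟨_, E, 𝟙 E, inferInstance, hE, hpos, rfl⟩
  have hSb : ∃ b : ℤ, ∀ v, v ∈ S → v ≤ b := by
    refine ⟨B * N, ?_⟩
    rintro v ⟨F, i, hi, hF, h0, rfl⟩
    have h1 := hB F i hi (coh_of_vb hF)
    have h2 : ((N / rk F : ℕ) : ℤ) ≤ N := by exact_mod_cast Nat.div_le_self _ _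
    calc dg k F * (N / rk F : ℕ) ≤ B * (N / rk F : ℕ) := mul_le_mul_of_nonneg_right h1 (by positivity)
      _ ≤ B * N := mul_le_mul_of_nonneg_left h2 hB0
  obtain ⟨m, ⟨G₀, j₀, hj₀, hG₀, h0, hm⟩, hmax⟩ := Int.exists_greatest_of_bdd hSb hSne
  -- among the maximal ones, maximal rank
  let R : ℕ → Prop := fun n => ∃ (F : X.Modules) (i : F ⟶ E), Mono i ∧ FlatMod.IsFinLocFree F ∧ 0 < rk F ∧
    m = dg k F * (N / rk F : ℕ) ∧ rk F = n
  have hR : ∃ n, R n := ⟨_, G₀, j₀, hj₀, hG₀, h0, hm, rfl⟩
  have hRb : ∀ n, R n → n ≤ rk E := by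
    rintro n ⟨F, i, hi, hF, -, -, rfl⟩
    exact rk_le_of_mono C i (coh_of_vb hF) hEc
  classical
  obtain ⟨G, j, hj, hG, hGpos, hGm, hGn⟩ := Nat.findGreatest_spec (P := R) (hRb _ hR.choose_spec) hR.choose_spec
  have hcmp : ∀ (F : X.Modules) (i : F ⟶ E), Mono i → FlatMod.IsFinLocFree F → 0 < rk F →
      ((N / rk F : ℕ) : ℤ) * rk F = N := by
    intro F i hi hF hF0
    exact_mod_cast Nat.div_mul_cancel (hdvd F i hi hF hF0)
  have hGN := hcmp G j hj hG hGpos
  have hN' : (0 : ℤ) < N := by exact_mod_cast hN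
  refine ⟨G, j, hj, hG, hGpos, fun F i hi hF => ?_, fun F i hi hF hle => ?_⟩
  · rcases Nat.eq_zero_or_pos (rk F) with h0 | h0
    · rw [dg_of_vb_of_rk_eq_zero C hF h0, h0]; simp
    · have h1 := hmax _ ⟨F, i, hi, hF, h0, rfl⟩
      have hFN := hcmp F i hi hF h0
      rw [hGm] at h1
      have h2 : (dg k F * rk G) * N ≤ (dg k G * rk F) * N := by
        calc (dg k F * rk G) * N = (dg k F * (N / rk F : ℕ)) * (rk F * rk G) := by rw [← hFN]; ring
          _ ≤ (dg k G * (N / rk G : ℕ)) * (rk F * rk G) := mul_le_mul_of_nonneg_right h1 (by positivity)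
          _ = (dg k G * rk F) * N := by rw [← hGN]; ring
      exact le_of_mul_le_mul_right h2 hN'
  · rcases Nat.eq_zero_or_pos (rk F) with h0 | h0
    · omega
    · have hFN := hcmp F i hi hF h0
      have h1 := hmax _ ⟨F, i, hi, hF, h0, rfl⟩
      have hpp : (0 : ℤ) < rk F * rk G := by positivity
      have h2 : m ≤ dg k F * (N / rk F : ℕ) := by
        have h3 : (dg k G * (N / rk G : ℕ)) * (rk F * rk G) ≤ (dg k F * (N / rk F : ℕ)) * (rk F * rk G) := by
          calc (dg k G * (N / rk G : ℕ)) * (rk F * rk G) = (dg k G * rk F) * N := by rw [← hGN]; ring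
            _ ≤ (dg k F * rk G) * N := mul_le_mul_of_nonneg_right hle (by positivity)
            _ = (dg k F * (N / rk F : ℕ)) * (rk F * rk G) := by rw [← hFN]; ring
        rw [hGm]
        exact le_of_mul_le_mul_right h3 hpp
      have h4 : R (rk F) := ⟨F, i, hi, hF, h0, le_antisymm h2 h1, rfl⟩
      have h5 := Nat.le_findGreatest (P := R) (hRb _ h4) h4
      rw [hGn]
      exact h5

/-- The maximal destabilising submodule `G` of `E`: `G` is semistable, `E/G` is locally free and every nonzero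
submodule of `E/G` has slope less than that of `G`. -/
theorem exists_max (C : Crv k X) {E : X.Modules} (hE : FlatMod.IsFinLocFree E) (hpos : 0 < rk E) :
    ∃ (G Q : X.Modules) (j : G ⟶ E) (q : E ⟶ Q) (w : j ≫ q = 0), (ShortComplex.mk j q w).ShortExact ∧
      FlatMod.IsFinLocFree G ∧ FlatMod.IsFinLocFree Q ∧ 0 < rk G ∧ SS k G ∧
      (∀ (F : X.Modules) (i : F ⟶ E), Mono i → FlatMod.IsFinLocFree F → dg k F * rk G ≤ dg k G * rk F) ∧
      (∀ (H : X.Modules) (i : H ⟶ Q), Mono i → Coh.IsCoh H → 0 < rk H → dg k H * rk G < dg k G * rk H) := by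
  have hEc := coh_of_vb hE
  obtain ⟨G, j, hj, hG, hGpos, h1, h2⟩ := exists_max_aux C hE hpos
  have hGc := coh_of_vb hG
  have hGpos' : (0 : ℤ) < rk G := by exact_mod_cast hGpos
  obtain ⟨G', Q, a, j', q, w, ha, haj, hS, hG', hQ, e1, e2, e3, e4⟩ := exists_saturation C j hGc hEc
  have hj' : Mono j' := hS.mono_f
  have hq : Epi q := hS.epi_g
  have h3 := h1 G' j' hj' (vb_of_mono C j' hG' hE)
  have h4 : dg k G' ≤ dg k G := by
    rw [e1] at h3
    exact le_of_mul_le_mul_right h3 hGpos'
  have ha' : IsIso a := isIso_of_mono C a hGc hG' e1.le h4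
  have hw : j ≫ q = 0 := by rw [← haj, Category.assoc, w, comp_zero]
  have hS' : (ShortComplex.mk j q hw).ShortExact := by
    let e : ShortComplex.mk j' q w ≅ ShortComplex.mk j q hw :=
      ShortComplex.isoMk (asIso a).symm (Iso.refl _) (Iso.refl _)
        (by
          change inv a ≫ j = j' ≫ 𝟙 _
          rw [IsIso.inv_comp_eq, Category.comp_id, haj])
        (by
          change 𝟙 _ ≫ q = q ≫ 𝟙 _
          simp)
    exact ShortComplex.shortExact_of_iso e hS
  refine ⟨G, Q, j, q, hw, hS', hG, hQ, hGpos, fun F i hi hF => h1 F (i ≫ j) (mono_comp _ _) hF, h1,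
    fun H i hi hH hHpos => ?_⟩
  -- the preimage of `H`
  let F := pullback q i
  let f : F ⟶ E := pullback.fst q i
  let g : F ⟶ H := pullback.snd q i
  have hf : Mono f := inferInstance
  have hg : Epi g := inferInstance
  let l : G ⟶ F := pullback.lift j 0 (by rw [hw, zero_comp])
  have hlf : l ≫ f = j := pullback.lift_fst _ _ _
  have hlg : l ≫ g = 0 := pullback.lift_snd _ _ _
  have hl : Mono l := by
    have : Mono (l ≫ f) := by rw [hlf]; exact hj
    exact mono_of_mono l f
  have hlim : IsLimit (KernelFork.ofι l hlg) := by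
    refine KernelFork.IsLimit.ofι' _ _ fun {A} t ht => ?_
    have h5 : (t ≫ f) ≫ q = 0 := by
      rw [Category.assoc, pullback.condition, ← Category.assoc]
      change (t ≫ g) ≫ i = 0
      rw [ht, zero_comp]
    obtain ⟨s, hs⟩ := KernelFork.IsLimit.lift' hS'.fIsKernel (t ≫ f) h5
    refine ⟨s, ?_⟩
    rw [← cancel_mono f, Category.assoc, hlf]
    exact hs
  have hSF : (ShortComplex.mk l g hlg).ShortExact :=
    { exact := ShortComplex.exact_of_f_is_kernel _ hlim }
  have hFc : Coh.IsCoh F := by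
    have := isLocNoeth C
    exact Groth.Agent.PerfA.QCohExt.isCoh_ext hSF hGc hH
  have hFv := vb_of_mono C f hFc hE
  have e5 := rk_add' k _ hSF hFc
  have e6 := dg_add k _ hSF hGc hFc hH
  simp only at e5 e6
  have h6 : ¬ (dg k G * rk F ≤ dg k F * rk G) := fun h => by
    have := h2 F f hf hFv h
    omega
  rw [not_le] at h6
  have e5' : (rk F : ℤ) = rk G + rk H := by exact_mod_cast e5
  rw [e5', e6] at h6
  nlinarith

end K707.MaxSlope
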