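import Groth.Agent.VBCurve.K707.Flag
import Groth.Agent.VBCurve.K707.RelBun
import Groth.Agent.Ega3B.SerreTwist
import Groth.Agent.Ega3B.TensRestrict
import Groth.Agent.Etdl.H118.FibreFin
import Groth.Agent.PerfB.TensInv

/-!
# Filtrations by line bundles on families of curves (helper707)
-/

set_option autoImplicit false
universe u

open CategoryTheory CategoryTheory.Limits AlgebraicGeometry Opposite TopologicalSpace
open scoped TensorProduct

namespace K707.FlagMain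

open Groth.Agent.Sga67.Sec Groth.Agent.Sga67.LocBasis Groth.Agent.Krr.H495.Rank
open K707.IndepCoker K707.IndepGlob K707.RestrBasis K707.RelBun K707.Flag Groth.Agent

/-- Tensoring with an invertible module preserves `Fl`. -/
theorem fl_tensor {X : Scheme.{u}} {r : ℕ} {E M : X.Modules} (hM : PicF.IsInvertible M) (h : Fl r E) :
    Fl r (CohB1.tensorMod E M) := by
  have hM1 : FlatMod.IsFinLocFreeOfRank 1 M := Ega2.QCohLocal.isFinLocFreeOfRank_one_iff.mpr hM
  have := PerfB.TensInv.preservesFiniteLimits_of_isFinLocFree (RelBun.isFinLocFree_of_rank hM1)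
  have : (DCoh.tensorRightMod M).IsEquivalence := by
    obtain ⟨L', hL', ⟨e⟩⟩ := Grpsch.PicGrp.exists_inverse hM
    exact inferInstanceAs (CategoryTheory.Equivalence.mk (DCoh.tensorRightMod M) (DCoh.tensorRightMod L')
      (PerfB.TensInv.tensorInvIso e).symm
      (PerfB.TensInv.tensorInvIso (Ega2.Tens.swap L' M ≪≫ e))).functor.IsEquivalence
  refine Fl.map h (DCoh.tensorRightMod M) fun N hN => ?_
  have := rank_tensor hN hM1
  rwa [mul_one] at this

theorem fl_untensor {X : Scheme.{u}} {r : ℕ} {E M : X.Modules} (hM : PicF.IsInvertible M)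
    (h : Fl r (CohB1.tensorMod E M)) : Fl r E := by
  obtain ⟨M', hM', ⟨e⟩⟩ := Grpsch.PicGrp.exists_inverse hM
  exact (fl_tensor hM' h).iso (Ega2.Tens.assoc E M M' ≪≫ Ega2.Tens.mapTIso (Iso.refl E) e ≪≫ Ega2.Tens.runit E)

theorem rank_restrict {X T : Scheme.{u}} (j : T ⟶ X) [IsOpenImmersion j] {n : ℕ} {M : X.Modules}
    (hM : FlatMod.IsFinLocFreeOfRank n M) : FlatMod.IsFinLocFreeOfRank n (M.restrict j) := by
  rw [isFinLocFreeOfRank_iff'] at hM ⊢
  intro x
  obtain ⟨U, hU, b, hb⟩ := hM (j x)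
  have hV : j ''ᵁ (j ⁻¹ᵁ U) ≤ U := by
    rw [Scheme.Hom.image_preimage_eq_opensRange_inf]
    exact inf_le_right
  exact ⟨j ⁻¹ᵁ U, hU, _, isLocBasis_restrict_of' j (hb.restrict hV)⟩

theorem isInvertible_restrict {X T : Scheme.{u}} (j : T ⟶ X) [IsOpenImmersion j] {M : X.Modules}
    (hM : PicF.IsInvertible M) : PicF.IsInvertible (M.restrict j) :=
  Ega2.QCohLocal.isFinLocFreeOfRank_one_iff.mp
    (rank_restrict j (Ega2.QCohLocal.isFinLocFreeOfRank_one_iff.mpr hM))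

/-- The core: near `s`, the bundle is filtered by line bundles. -/
theorem exists_fl {k : Type*} [Field k] [Infinite k] {P S : Scheme.{u}} (q : P ⟶ S) [IsProper q]
    [CompactSpace P] [P.IsSeparated] (c : k →+* Γ(P, ⊤)) {L : P.Modules} (hL : CohB1.IsAmple L) {E : P.Modules}
    {r : ℕ} (hr : 0 < r) (hE : FlatMod.IsFinLocFreeOfRank r E) (s : S)
    (hd : topologicalKrullDim (q.fiber s) ≤ 1) :
    ∃ V : S.Opens, s ∈ V ∧ ∀ (T : Scheme.{u}) (j : T ⟶ P) [IsOpenImmersion j],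
      (∀ x : T, j x ∈ q ⁻¹ᵁ V) → Fl r (E.restrict j) := by
  obtain ⟨n, w, V, hG, hs, hV⟩ := exists_family q c hL hr hE s hd
  refine ⟨V, hs, fun T j _ hj => ?_⟩
  obtain ⟨φ, hφ, hc⟩ := exists_mono j hG w (fun x => hV _ (hj x))
  obtain ⟨r, rfl⟩ : ∃ r', r = r' + 1 := ⟨r - 1, by omega⟩
  have h1 : Fl (r + 1) ((CohB1.tensorMod E (CohB1.tensorPow L n)).restrict j) := by
    refine ⟨_, φ, hφ, fl_free _, ?_⟩
    have : r + 1 - (r + 1 - 1) = 1 := by omega
    rwa [this] at hc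
  have h2 : Fl (r + 1) (CohB1.tensorMod (E.restrict j) ((CohB1.tensorPow L n).restrict j)) :=
    h1.iso (Ega3B.TensRestrict.restrictIso j E (CohB1.tensorPow L n))
  exact fl_untensor (isInvertible_restrict j (Fdesc.LocGen.isInvertible_tensorPow hL.1 n)) h2

/-- Families of curves in projective space: near every point of the base a bundle is filtered by line bundles. -/
theorem exists_open {k : Type u} [Field k] [Infinite k] {X Y : Scheme.{u}} (pY : Y ⟶ Spec (CommRingCat.of k))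
    (f : X ⟶ Y) [SmoothOfRelativeDimension 1 f]
    (n : ℕ) (ι : X ⟶ CohB1.ProjSpaceOver n Y) [IsClosedImmersion ι]
    (hι : ι ≫ CohB1.ProjSpaceOver.toBase n Y = f)
    (E : X.Modules) (r : ℕ) (hr : 0 < r) (hE : FlatMod.IsFinLocFreeOfRank r E) (y : Y) :
    ∃ U : Y.Opens, y ∈ U ∧ Fl r (E.restrict (f ⁻¹ᵁ U).ι) := by
  obtain ⟨V₀, hV₀, hyV, -⟩ := exists_isAffineOpen_mem_and_subset (x := y) (U := ⊤) trivial
  have hf : IsProper f := by
    rw [← hι]
    have := Groth.Agent.Ega3B.ProjProper.isProper_toBase n Y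
    infer_instance
  have : IsAffine V₀ := hV₀
  let P : Scheme.{u} := (f ⁻¹ᵁ V₀ : X.Opens)
  let q : P ⟶ V₀ := f ∣_ V₀
  have hq : IsProper q := inferInstanceAs (IsProper (f ∣_ V₀))
  have hpb : IsPullback (f ⁻¹ᵁ V₀).ι q f V₀.ι := (isPullback_morphismRestrict f V₀).flip
  have hpb' : IsPullback (f ⁻¹ᵁ V₀).ι q (ι ≫ CohB1.ProjSpaceOver.toBase n Y) V₀.ι := by rw [hι]; exact hpb
  have hL := Ega3B.SerreTwist.isAmple_baseChange n ι V₀.ι hpb'
  have hPc : CompactSpace P := QuasiCompact.compactSpace_of_compactSpace q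
  have hPs : P.IsSeparated := by
    have : IsSeparated (q ≫ terminal.from _) := inferInstance
    exact ⟨by rwa [← terminal.comp_from q]⟩
  let c : k →+* Γ(P, ⊤) :=
    (((Scheme.ΓSpecIso (CommRingCat.of k)).inv ≫ (q ≫ V₀.ι ≫ pY).appTop).hom : k →+* Γ(P, ⊤))
  have hsm : SmoothOfRelativeDimension 1 q := by
    have h0 := smoothOfRelativeDimension_isStableUnderBaseChange.{u} 1
    exact MorphismProperty.of_isPullback (P := @SmoothOfRelativeDimension 1) hpb inferInstance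
  let y' : V₀ := ⟨y, hyV⟩
  obtain ⟨V, hyV', hV⟩ := exists_fl q c hL hr (rank_restrict (f ⁻¹ᵁ V₀).ι hE) y' (by
    have := Etdl.H118.FibreFin.topologicalKrullDim_fiber_le 1 q y'
    exact_mod_cast this)
  have hle : f ⁻¹ᵁ (V₀.ι ''ᵁ V) ≤ f ⁻¹ᵁ V₀ := by
    intro x hx
    obtain ⟨v, -, hv⟩ := hx
    change f x ∈ V₀
    have hv' : (V₀.ι v : Y) = f x := hv
    rw [← hv']
    exact v.2
  let j : ((f ⁻¹ᵁ (V₀.ι ''ᵁ V) : X.Opens) : Scheme.{u}) ⟶ P := X.homOfLE hle
  have hj : j ≫ (f ⁻¹ᵁ V₀).ι = (f ⁻¹ᵁ (V₀.ι ''ᵁ V)).ι := X.homOfLE_ι hle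
  refine ⟨V₀.ι ''ᵁ V, ⟨y', hyV', rfl⟩, ?_⟩
  have h1 := hV _ j (fun x => by
    obtain ⟨v, hvV, hv⟩ := x.2
    have h2 : (V₀.ι v : Y) = f x.1 := hv
    have h3 : (V₀.ι (q (j x)) : Y) = f x.1 := by
      rw [← Scheme.Hom.comp_apply, hpb.w.symm, Scheme.Hom.comp_apply, ← Scheme.Hom.comp_apply j, hj]
      rfl
    have h4 : q (j x) = v := V₀.ι.isOpenEmbedding.injective (h3.trans h2.symm)
    change q (j x) ∈ V
    rw [h4]
    exact hvV)
  exact h1.iso ((Scheme.Modules.restrictFunctorComp j (f ⁻¹ᵁ V₀).ι).symm.app E ≪≫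
    (Scheme.Modules.restrictFunctorCongr hj).app E)

end K707.FlagMain
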