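import Groth.Agent.VBCurve.K707.Inv

/-!
# Numerical lemmas for semistable twisted pairs (helper707)
-/

set_option autoImplicit false
universe u

open CategoryTheory CategoryTheory.Limits AlgebraicGeometry TopologicalSpace Opposite

namespace K707.Pair

open Groth.Agent.VarietyA.DegRank K707.Base K707.Deg K707.Slope K707.Semi K707.TensL

variable {k : Type u} [Field k] {X : Scheme.{u}} [X.Over (Spec (CommRingCat.of k))]
  [IsIntegral X] [IsProper (X ↘ (Spec (CommRingCat.of k)))]

/-- The slope inequality for a nonzero map `f : E → F` from the inequalities for its kernel and its image. -/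
theorem slope_le (C : Crv k X) {E F : X.Modules} (f : E ⟶ F) (hf : f ≠ 0) (hE : FlatMod.IsFinLocFree E)
    (hF : FlatMod.IsFinLocFree F)
    (h1 : 0 < rk (kernel f) → FlatMod.IsFinLocFreeOfRank (rk (kernel f)) (kernel f) →
      dg k (kernel f) * rk E ≤ dg k E * rk (kernel f))
    (h2 : ∀ (I : X.Modules) (p : E ⟶ I) (i : I ⟶ F), Epi p → Mono i → p ≫ i = f → 0 < rk I →
      FlatMod.IsFinLocFreeOfRank (rk I) I → dg k I * rk F ≤ dg k F * rk I) :
    dg k E * rk F ≤ dg k F * rk E := by
  obtain ⟨I, p, i, hp, hi, hpi, hI, hpos, e1, e2, e3, e4⟩ := exists_factor_pos C f hf (coh_of_vb hE) hF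
  have hK := vb_kernel C f hE (coh_of_vb hF)
  have h3 : dg k (kernel f) * rk E ≤ dg k E * rk (kernel f) := by
    rcases Nat.eq_zero_or_pos (rk (kernel f)) with h0 | h0
    · rw [dg_of_vb_of_rk_eq_zero C hK h0, h0]; simp
    · exact h1 h0 (isFinLocFreeOfRank_rk hK)
  have h4 := h2 I p i hp hi hpi hpos (isFinLocFreeOfRank_rk hI)
  have hpos' : (0 : ℤ) < rk I := by exact_mod_cast hpos
  have e1' : (rk E : ℤ) = rk (kernel f) + rk I := by exact_mod_cast e1
  have h5 : dg k E * rk I ≤ dg k I * rk E := by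
    rw [e1', e2] at h3 ⊢
    nlinarith
  have h6 : dg k E * rk I * rk F ≤ dg k I * rk E * rk F := mul_le_mul_of_nonneg_right h5 (by positivity)
  have h7 : dg k I * rk F * rk E ≤ dg k F * rk I * rk E := mul_le_mul_of_nonneg_right h4 (by positivity)
  have h8 : (dg k E * rk F) * rk I ≤ (dg k F * rk E) * rk I := by nlinarith
  exact le_of_mul_le_mul_right h8 hpos'

end K707.Pair
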