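import Groth.Agent.VBCurve.K707.PairZero

/-!
# Semistable twisting pairs with a commuting endomorphism (helper707)

* `exists_maxP`: maximal submodules in a class `P` of submodules;
* `ss_of_endo`: a pair `(E, φ)` with commuting `ψ : E → E` is semistable iff `(E, φ)` is.
-/

set_option autoImplicit false
universe u

open CategoryTheory CategoryTheory.Limits AlgebraicGeometry TopologicalSpace Opposite

namespace K707.PairEndo

open Groth.Agent.VarietyA.DegRank K707.Base K707.Deg K707.Slope K707.Semi K707.TensL K707.PairInv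
open K707.MaxSlope K707.PairZero

variable {k : Type u} [Field k] {X : Scheme.{u}} [X.Over (Spec (CommRingCat.of k))]
  [IsIntegral X] [IsProper (X ↘ (Spec (CommRingCat.of k)))]

/-- A submodule of maximal slope and, among these, of maximal rank, in a class of submodules. -/
theorem exists_maxP (C : Crv k X) {E : X.Modules} (hE : FlatMod.IsFinLocFree E)
    (P : ∀ (F : X.Modules), (F ⟶ E) → Prop)
    (hP : ∃ (F : X.Modules) (i : F ⟶ E), Mono i ∧ FlatMod.IsFinLocFree F ∧ 0 < rk F ∧ P F i) :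
    ∃ (G : X.Modules) (j : G ⟶ E), Mono j ∧ FlatMod.IsFinLocFree G ∧ 0 < rk G ∧ P G j ∧
      (∀ (F : X.Modules) (i : F ⟶ E), Mono i → FlatMod.IsFinLocFree F → P F i →
        dg k F * rk G ≤ dg k G * rk F) ∧
      (∀ (F : X.Modules) (i : F ⟶ E), Mono i → FlatMod.IsFinLocFree F → P F i →
        dg k G * rk F ≤ dg k F * rk G → rk F ≤ rk G) := by
  have hEc := coh_of_vb hE
  obtain ⟨B, hB0, hB⟩ := exists_dg_le C hEc
  let N : ℕ := (rk E).factorial
  have hN : 0 < N := Nat.factorial_pos _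
  have hdvd : ∀ (F : X.Modules) (i : F ⟶ E), Mono i → FlatMod.IsFinLocFree F → 0 < rk F → rk F ∣ N := by
    intro F i hi hF h0
    exact Nat.dvd_factorial h0 (rk_le_of_mono C i (coh_of_vb hF) hEc)
  -- the values `dg F * (N / rk F)`
  let S : Set ℤ := {v | ∃ (F : X.Modules) (i : F ⟶ E), Mono i ∧ FlatMod.IsFinLocFree F ∧ 0 < rk F ∧ P F i ∧
    v = dg k F * (N / rk F : ℕ)}
  have hSne : ∃ v, v ∈ S := by
    obtain ⟨F, i, h1, h2, h3, h4⟩ := hP
    exact ⟨_, F, i, h1, h2, h3, h4, rfl⟩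
  have hSb : ∃ b : ℤ, ∀ v, v ∈ S → v ≤ b := by
    refine ⟨B * N, ?_⟩
    rintro v ⟨F, i, hi, hF, h0, -, rfl⟩
    have h1 := hB F i hi (coh_of_vb hF)
    have h2 : ((N / rk F : ℕ) : ℤ) ≤ N := by exact_mod_cast Nat.div_le_self _ _
    calc dg k F * (N / rk F : ℕ) ≤ B * (N / rk F : ℕ) := mul_le_mul_of_nonneg_right h1 (by positivity)
      _ ≤ B * N := mul_le_mul_of_nonneg_left h2 hB0
  obtain ⟨m, ⟨G₀, j₀, hj₀, hG₀, h0, hP₀, hm⟩, hmax⟩ := Int.exists_greatest_of_bdd hSb hSne
  -- among the maximal ones, maximal rank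
  let R : ℕ → Prop := fun n => ∃ (F : X.Modules) (i : F ⟶ E), Mono i ∧ FlatMod.IsFinLocFree F ∧ 0 < rk F ∧
    P F i ∧ m = dg k F * (N / rk F : ℕ) ∧ rk F = n
  have hR : ∃ n, R n := ⟨_, G₀, j₀, hj₀, hG₀, h0, hP₀, hm, rfl⟩
  have hRb : ∀ n, R n → n ≤ rk E := by
    rintro n ⟨F, i, hi, hF, -, -, -, rfl⟩
    exact rk_le_of_mono C i (coh_of_vb hF) hEc
  classical
  obtain ⟨G, j, hj, hG, hGpos, hGP, hGm, hGn⟩ :=
    Nat.findGreatest_spec (P := R) (hRb _ hR.choose_spec) hR.choose_spec
  have hcmp : ∀ (F : X.Modules) (i : F ⟶ E), Mono i → FlatMod.IsFinLocFree F → 0 < rk F →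
      ((N / rk F : ℕ) : ℤ) * rk F = N := by
    intro F i hi hF hF0
    exact_mod_cast Nat.div_mul_cancel (hdvd F i hi hF hF0)
  have hGN := hcmp G j hj hG hGpos
  have hN' : (0 : ℤ) < N := by exact_mod_cast hN
  refine ⟨G, j, hj, hG, hGpos, hGP, fun F i hi hF hFP => ?_, fun F i hi hF hFP hle => ?_⟩
  · rcases Nat.eq_zero_or_pos (rk F) with h0 | h0
    · rw [dg_of_vb_of_rk_eq_zero C hF h0, h0]; simp
    · have h1 := hmax _ ⟨F, i, hi, hF, h0, hFP, rfl⟩
      have hFN := hcmp F i hi hF h0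
      rw [hGm] at h1
      have h2 : (dg k F * rk G) * N ≤ (dg k G * rk F) * N := by
        calc (dg k F * rk G) * N = (dg k F * (N / rk F : ℕ)) * (rk F * rk G) := by rw [← hFN]; ring
          _ ≤ (dg k G * (N / rk G : ℕ)) * (rk F * rk G) := mul_le_mul_of_nonneg_right h1 (by positivity)
          _ = (dg k G * rk F) * N := by rw [← hGN]; ring
      exact le_of_mul_le_mul_right h2 hN'
  · rcases Nat.eq_zero_or_pos (rk F) with h0 | h0
    · omega
    · have hFN := hcmp F i hi hF h0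
      have h1 := hmax _ ⟨F, i, hi, hF, h0, hFP, rfl⟩
      have hpp : (0 : ℤ) < rk F * rk G := by positivity
      have h2 : m ≤ dg k F * (N / rk F : ℕ) := by
        have h3 : (dg k G * (N / rk G : ℕ)) * (rk F * rk G) ≤ (dg k F * (N / rk F : ℕ)) * (rk F * rk G) := by
          calc (dg k G * (N / rk G : ℕ)) * (rk F * rk G) = (dg k G * rk F) * N := by rw [← hGN]; ring
            _ ≤ (dg k F * rk G) * N := mul_le_mul_of_nonneg_right hle (by positivity)
            _ = (dg k F * (N / rk F : ℕ)) * (rk F * rk G) := by rw [← hFN]; ring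
        rw [hGm]
        exact le_of_mul_le_mul_right h3 hpp
      have h4 : R (rk F) := ⟨F, i, hi, hF, h0, hFP, le_antisymm h2 h1, rfl⟩
      have h5 := Nat.le_findGreatest (P := R) (hRb _ h4) h4
      rw [hGn]
      exact h5

/-- If `φ` is semistable with respect to submodules invariant under `φ` and `ψ`, it is semistable. -/
theorem ss_of_endo (C : Crv k X) {E L : X.Modules} (hL : PicF.IsInvertible L)
    (hE : FlatMod.IsFinLocFree E) (φ : E ⟶ (T L).obj E) (ψ : E ⟶ E) (hcomm : ψ ≫ φ = φ ≫ (T L).map ψ)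
    (hss : ∀ (G : X.Modules) (j : G ⟶ E), Mono j → 0 < rk G → FlatMod.IsFinLocFree G →
      Inv.Inv (T L) φ j → (∃ ψ' : G ⟶ G, ψ' ≫ j = j ≫ ψ) → dg k G * rk E ≤ dg k E * rk G)
    (F : X.Modules) (i : F ⟶ E) [Mono i] (hF : FlatMod.IsFinLocFree F) (hFi : Inv.Inv (T L) φ i) :
    dg k F * rk E ≤ dg k E * rk F := by
  have := isLocNoeth C
  have hTl := preservesFiniteLimits (vb_of_inv hL)
  rcases Nat.eq_zero_or_pos (rk F) with hF0 | hF0
  · rw [dg_of_vb_of_rk_eq_zero C hF hF0, hF0]; simp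
  have hEc := coh_of_vb hE
  obtain ⟨G, j, hj, hG, hGpos, ⟨χ, hχ⟩, hmax, hmaxr⟩ := exists_maxP C hE (fun F i => Inv.Inv (T L) φ i)
    ⟨F, i, inferInstance, hF, hF0, hFi⟩
  have hGc := coh_of_vb hG
  have hGpos' : (0 : ℤ) < rk G := by exact_mod_cast hGpos
  -- the saturation is invariant
  obtain ⟨G', Q, a, j', q, w, ha, haj, hS, hG', hQ, e1, e2, e3, e4⟩ := exists_saturation C j hGc hEc
  have hj' : Mono j' := hS.mono_f
  have hq : Epi q := hS.epi_g
  have hTQ : FlatMod.IsFinLocFree ((T L).obj Q) := vb_tensor hQ (vb_of_inv hL)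
  have hw : j ≫ q = 0 := by rw [← haj, Category.assoc, w, comp_zero]
  have hz : (j ≫ φ) ≫ (T L).map q = 0 := by
    rw [← hχ, Category.assoc, ← (T L).map_comp, hw, (T L).map_zero, comp_zero]
  have hz' : (j' ≫ φ) ≫ (T L).map q = 0 := by
    by_contra hne
    obtain ⟨I, p, i', hp, hi', hpi, hI, hpos, -⟩ := exists_factor_pos C _ hne hG' hTQ
    have h1 : a ≫ p = 0 := by
      rw [← cancel_mono i', Category.assoc, hpi, zero_comp]
      simp only [Category.assoc] at hz ⊢
      rw [← Category.assoc, haj]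
      exact hz
    have h2 : ∃ p' : cokernel a ⟶ I, cokernel.π a ≫ p' = p := ⟨cokernel.desc a p h1, cokernel.π_desc _ _ _⟩
    obtain ⟨p', hp'⟩ := h2
    have hp'e : Epi p' := by
      have : Epi (cokernel.π a ≫ p') := by rw [hp']; exact hp
      exact epi_of_epi (cokernel.π a) p'
    have h3 := rk_le_of_epi C p' (coh_cokernel a hGc hG') (coh_of_vb hI)
    have h4 := (mono_numbers (k := k) C a hGc hG').1
    omega
  have hinv' : Inv.Inv (T L) φ j' := inv_of_comp_eq_zero (T L) φ j' q w hS hz'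
  have h3 := hmax G' j' hj' (vb_of_mono C j' hG' hE) hinv'
  have h4 : dg k G' ≤ dg k G := by
    rw [e1] at h3
    exact le_of_mul_le_mul_right h3 hGpos'
  have ha' : IsIso a := isIso_of_mono C a hGc hG' e1.le h4
  have hS' : (ShortComplex.mk j q hw).ShortExact := by
    let e : ShortComplex.mk j' q w ≅ ShortComplex.mk j q hw :=
      ShortComplex.isoMk (asIso a).symm (Iso.refl _) (Iso.refl _)
        (by
          change inv a ≫ j = j' ≫ 𝟙 _
          rw [IsIso.inv_comp_eq, Category.comp_id, haj])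
        (by
          change 𝟙 _ ≫ q = q ≫ 𝟙 _
          simp)
    exact ShortComplex.shortExact_of_iso e hS
  -- the induced map on `Q`
  obtain ⟨φQ, hφQ⟩ := CokernelCofork.IsColimit.desc' hS'.gIsCokernel (φ ≫ (T L).map q)
    (by simpa only [Category.assoc] using hz)
  change q ≫ φQ = φ ≫ (T L).map q at hφQ
  -- the map `f : G → Q`
  have hf : (j ≫ ψ) ≫ q = 0 := by
    by_contra hne
    have hcompat : ((j ≫ ψ) ≫ q) ≫ φQ = χ ≫ (T L).map ((j ≫ ψ) ≫ q) := by
      rw [(T L).map_comp, (T L).map_comp]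
      simp only [Category.assoc]
      rw [reassoc_of% hχ, hφQ, reassoc_of% hcomm]
    obtain ⟨I, p, i', hp, hi', hpi, hI, hIpos, er, ed, -⟩ := exists_factor_pos C _ hne hGc hQ
    obtain ⟨χI, hχI⟩ := Inv.inv_image (T L) χ φQ _ hcompat p i' hpi
    obtain ⟨χK, hχK⟩ := Inv.inv_kernel (T L) χ φQ _ hcompat
    -- the kernel has slope `≤` that of `G`
    have hK1 : dg k (kernel ((j ≫ ψ) ≫ q)) * rk G ≤ dg k G * rk (kernel ((j ≫ ψ) ≫ q)) :=
      hmax _ (kernel.ι ((j ≫ ψ) ≫ q) ≫ j) (mono_comp _ _) (vb_kernel C _ hG (coh_of_vb hQ)) ⟨χK, by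
        rw [(T L).map_comp, reassoc_of% hχK, hχ]
        exact (Category.assoc _ _ _).symm⟩
    -- the preimage of `I`
    let F' := pullback q i'
    let f : F' ⟶ E := pullback.fst q i'
    let g : F' ⟶ I := pullback.snd q i'
    have hf : Mono f := inferInstance
    have hg : Epi g := inferInstance
    let l : G ⟶ F' := pullback.lift j 0 (by rw [hw, zero_comp])
    have hlf : l ≫ f = j := pullback.lift_fst _ _ _
    have hlg : l ≫ g = 0 := pullback.lift_snd _ _ _
    have hl : Mono l := by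
      have : Mono (l ≫ f) := by rw [hlf]; exact hj
      exact mono_of_mono l f
    have hlim : IsLimit (KernelFork.ofι l hlg) := by
      refine KernelFork.IsLimit.ofι' _ _ fun {A} t ht => ?_
      have h5 : (t ≫ f) ≫ q = 0 := by
        rw [Category.assoc, pullback.condition, ← Category.assoc]
        change (t ≫ g) ≫ i' = 0
        rw [ht, zero_comp]
      obtain ⟨s, hs⟩ := KernelFork.IsLimit.lift' hS'.fIsKernel (t ≫ f) h5
      refine ⟨s, ?_⟩
      rw [← cancel_mono f, Category.assoc, hlf]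
      exact hs
    have hSF : (ShortComplex.mk l g hlg).ShortExact :=
      { exact := ShortComplex.exact_of_f_is_kernel _ hlim }
    have hIc := coh_of_vb hI
    have hFc : Coh.IsCoh F' := Groth.Agent.PerfA.QCohExt.isCoh_ext hSF hGc hIc
    have hFv := vb_of_mono C f hFc hE
    have e5 := rk_add' k _ hSF hFc
    have e6 := dg_add k _ hSF hGc hFc hIc
    simp only at e5 e6
    have hFinv : Inv.Inv (T L) φ f := by
      have hpb : IsPullback ((T L).map f) ((T L).map g) ((T L).map q) ((T L).map i') :=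
        (IsPullback.of_hasPullback q i').map (T L)
      refine ⟨hpb.lift (f ≫ φ) (g ≫ χI) ?_, hpb.lift_fst _ _ _⟩
      have hc : f ≫ q = g ≫ i' := pullback.condition
      rw [Category.assoc, ← hφQ, reassoc_of% hc, Category.assoc, hχI]
    have h6 : ¬ (dg k G * rk F' ≤ dg k F' * rk G) := fun h => by
      have := hmaxr F' f hf hFv hFinv h
      omega
    rw [not_le] at h6
    have e5' : (rk F' : ℤ) = rk G + rk I := by exact_mod_cast e5
    have er' : (rk G : ℤ) = rk (kernel ((j ≫ ψ) ≫ q)) + rk I := by exact_mod_cast er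
    rw [e5', e6, er', ed] at h6
    rw [er', ed] at hK1
    clear_value f F' g l
    clear * - h6 hK1
    ring_nf at h6 hK1
    linarith
  obtain ⟨ψ', hψ'⟩ := KernelFork.IsLimit.lift' hS'.fIsKernel (j ≫ ψ) hf
  have h5 := hss G j hj hGpos hG ⟨χ, hχ⟩ ⟨ψ', hψ'⟩
  have h6 := hmax F i inferInstance hF hFi
  have h7 : (dg k F * rk E) * rk G ≤ (dg k E * rk F) * rk G := by
    calc (dg k F * rk E) * rk G = (dg k F * rk G) * rk E := by ring
      _ ≤ (dg k G * rk F) * rk E := mul_le_mul_of_nonneg_right h6 (by positivity)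
      _ = (dg k G * rk E) * rk F := by ring
      _ ≤ (dg k E * rk G) * rk F := mul_le_mul_of_nonneg_right h5 (by positivity)
      _ = (dg k E * rk F) * rk G := by ring
  exact le_of_mul_le_mul_right h7 hGpos'

end K707.PairEndo
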