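import Groth.Agent.VBCurve.K707.TensL

/-!
# Invariant submodules for twisted endomorphisms `φ : E → T E`, `T` left exact (helper707)
-/

set_option autoImplicit false
universe u v

open CategoryTheory CategoryTheory.Limits

namespace K707.Inv

variable {A : Type u} [Category.{v} A] [Abelian A] (T : A ⥤ A) [PreservesFiniteLimits T]

/-- `j : G → E` is invariant under `φ : E → T E`. -/
def Inv (T : A ⥤ A) {E G : A} (φ : E ⟶ T.obj E) (j : G ⟶ E) : Prop :=
  ∃ χ : G ⟶ T.obj G, χ ≫ T.map j = j ≫ φ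

instance : T.PreservesMonomorphisms := inferInstance

theorem inv_kernel [T.PreservesZeroMorphisms] {E F : A} (φ : E ⟶ T.obj E) (ψ : F ⟶ T.obj F) (f : E ⟶ F)
    (h : f ≫ ψ = φ ≫ T.map f) : Inv T φ (kernel.ι f) := by
  have hl : IsLimit (KernelFork.ofι (T.map (kernel.ι f)) (by rw [← T.map_comp, kernel.condition, T.map_zero])) :=
    isLimitForkMapOfIsLimit' T (kernel.condition f) (kernelIsKernel f)
  have h0 : (kernel.ι f ≫ φ) ≫ T.map f = 0 := by
    rw [Category.assoc, ← h, ← Category.assoc, kernel.condition, zero_comp]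
  obtain ⟨χ, hχ⟩ := KernelFork.IsLimit.lift' hl (kernel.ι f ≫ φ) h0
  exact ⟨χ, hχ⟩

theorem inv_image {E F I : A} (φ : E ⟶ T.obj E) (ψ : F ⟶ T.obj F) (f : E ⟶ F)
    (h : f ≫ ψ = φ ≫ T.map f) (p : E ⟶ I) [Epi p] (i : I ⟶ F) [Mono i] (hpi : p ≫ i = f) : Inv T ψ i := by
  have h1 : (kernel.ι p ≫ φ ≫ T.map p) = 0 := by
    rw [← cancel_mono (T.map i), zero_comp, Category.assoc, Category.assoc, ← T.map_comp, hpi, ← h, ← hpi]
    simp
  let χ := (Abelian.epiDesc p (φ ≫ T.map p) h1)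
  refine ⟨χ, ?_⟩
  rw [← cancel_epi p, ← Category.assoc]
  erw [Abelian.comp_epiDesc p (φ ≫ T.map p) h1]
  rw [Category.assoc, ← T.map_comp, hpi, ← h, ← hpi, Category.assoc]

end K707.Inv
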