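import Groth.Agent.VBCurve.K707.MaxSlope
import Groth.Agent.VBCurve.K707.Inv

/-!
# Semistable pairs twisted by a semistable module of degree zero (helper707)

The tensor product theorem enters as a hypothesis `hTP`.
-/

set_option autoImplicit false
universe u

open CategoryTheory CategoryTheory.Limits AlgebraicGeometry TopologicalSpace Opposite

namespace K707.TensHN

open Groth.Agent.VarietyA.DegRank K707.Base K707.Deg K707.Slope K707.Semi K707.TensL K707.MaxSlope
open Groth.Agent

variable {k : Type u} [Field k] {X : Scheme.{u}} [X.Over (Spec (CommRingCat.of k))]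
  [IsIntegral X] [IsProper (X ↘ (Spec (CommRingCat.of k)))]

theorem exists_factor {M : X.Modules} (hM : FlatMod.IsFinLocFree M) {A : X.Modules} {S : ShortComplex X.Modules}
    (hS : S.ShortExact) (f : A ⟶ (T M).obj S.X₂) (hf : f ≫ (T M).map S.g = 0) :
    ∃ f' : A ⟶ (T M).obj S.X₁, f' ≫ (T M).map S.f = f := by
  have := preservesFiniteLimits hM
  have hS' : (S.map (T M)).ShortExact := hS.map_of_exact (T M)
  obtain ⟨s, hs⟩ := KernelFork.IsLimit.lift' hS'.fIsKernel f hf
  exact ⟨s, hs⟩

/-- Given the tensor product theorem: no maps from a semistable module to `Q ⊗ M` if `μ_max(Q) < μ(A)` and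
`M` is semistable of degree zero. -/
theorem hom_eq_zero (C : Crv k X)
    (hTP : ∀ E F : X.Modules, FlatMod.IsFinLocFree E → FlatMod.IsFinLocFree F → SS k E → SS k F →
      SS k (CohB1.tensorMod E F))
    {M : X.Modules} (hM : FlatMod.IsFinLocFree M) (hMs : SS k M) (hM0 : dg k M = 0) (hMpos : 0 < rk M)
    {A : X.Modules} (hA : FlatMod.IsFinLocFree A) (hAs : SS k A) (hApos : 0 < rk A) (n : ℕ) :
    ∀ (Q : X.Modules), FlatMod.IsFinLocFree Q → rk Q ≤ n →
      (∀ (H : X.Modules) (i : H ⟶ Q), Mono i → Coh.IsCoh H → 0 < rk H → dg k H * rk A < dg k A * rk H) →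
      ∀ f : A ⟶ (T M).obj Q, f = 0 := by
  have hX := isLocNoeth C
  induction n with
  | zero =>
    intro Q hQ h0 _ f
    have hz := isZero_of_rk_eq_zero C hQ (by omega)
    exact ((T M).map_isZero hz).eq_of_tgt _ _
  | succ n ih =>
    intro Q hQ hn hlt f
    rcases Nat.eq_zero_or_pos (rk Q) with h0 | h0
    · have hz := isZero_of_rk_eq_zero C hQ h0
      exact ((T M).map_isZero hz).eq_of_tgt _ _
    obtain ⟨G, Q', j, q, w, hS, hG, hQ', hGpos, hGss, -, h3⟩ := exists_max C hQ h0
    have hj : Mono j := hS.mono_f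
    have hGpos' : (0 : ℤ) < rk G := by exact_mod_cast hGpos
    have hApos' : (0 : ℤ) < rk A := by exact_mod_cast hApos
    have hMpos' : (0 : ℤ) < rk M := by exact_mod_cast hMpos
    have hGA := hlt G j hj (coh_of_vb hG) hGpos
    have e1 := rk_add' k _ hS (coh_of_vb hQ)
    simp only at e1
    have h1 : f ≫ (T M).map q = 0 := by
      refine ih Q' hQ' (by omega) (fun H i hi hH hHpos => ?_) _
      have h4 := h3 H i hi hH hHpos
      have hHpos' : (0 : ℤ) < rk H := by exact_mod_cast hHpos
      have h5 : (dg k H * rk G) * rk A < (dg k G * rk H) * rk A := mul_lt_mul_of_pos_right h4 hApos'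
      have h6 : (dg k G * rk A) * rk H < (dg k A * rk G) * rk H := mul_lt_mul_of_pos_right hGA hHpos'
      have h7 : (dg k H * rk A) * rk G < (dg k A * rk H) * rk G := by nlinarith
      exact lt_of_mul_lt_mul_right h7 hGpos'.le
    obtain ⟨f', hf'⟩ := exists_factor hM hS f h1
    have hMr := isFinLocFreeOfRank_rk hM
    have hTv : FlatMod.IsFinLocFree ((T M).obj G) := vb_tensor hG hM
    have hTs : SS k ((T M).obj G) := hTP G M hG hM hGss hMs
    have eT : rk ((T M).obj G) = rk M * rk G := rk_tensor hMr (coh_of_vb hG)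
    have dT : dg k ((T M).obj G) = rk M * dg k G + rk G * dg k M := dg_tensor k C.dim hMr (coh_of_vb hG)
    have h2 : f' = 0 := by
      refine SS.hom_eq_zero C hAs hA hTs hTv ?_ f'
      rw [dT, eT, hM0]
      push_cast
      nlinarith
    rw [← hf', h2, zero_comp]

/-- Given the tensor product theorem: a semistable `M`-valued pair with `M` semistable of degree zero is semistable
as a module. -/
theorem ss_of_pair (C : Crv k X)
    (hTP : ∀ E F : X.Modules, FlatMod.IsFinLocFree E → FlatMod.IsFinLocFree F → SS k E → SS k F →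
      SS k (CohB1.tensorMod E F))
    {M : X.Modules} (hM : FlatMod.IsFinLocFree M) (hMs : SS k M) (hM0 : dg k M = 0) (hMpos : 0 < rk M)
    {E : X.Modules} (hE : FlatMod.IsFinLocFree E) (φ : E ⟶ (T M).obj E)
    (hss : ∀ (G : X.Modules) (j : G ⟶ E), Mono j → 0 < rk G → FlatMod.IsFinLocFreeOfRank (rk G) G →
      Inv.Inv (T M) φ j → dg k G * rk E ≤ dg k E * rk G) : SS k E := by
  rcases Nat.eq_zero_or_pos (rk E) with h0 | h0
  · intro F i hi hF
    have h1 := rk_le_of_mono C i (coh_of_vb hF) (coh_of_vb hE)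
    have h2 : rk F = 0 := by omega
    rw [dg_of_vb_of_rk_eq_zero C hF h2, h2]
    simp
  obtain ⟨G, Q, j, q, w, hS, hG, hQ, hGpos, hGss, h2, h3⟩ := exists_max C hE h0
  have hj : Mono j := hS.mono_f
  have h4 : (j ≫ φ) ≫ (T M).map q = 0 :=
    hom_eq_zero C hTP hM hMs hM0 hMpos hG hGss hGpos (rk Q) Q hQ le_rfl
      (fun H i hi hH hHpos => h3 H i hi hH hHpos) _
  obtain ⟨χ, hχ⟩ := exists_factor hM hS (j ≫ φ) h4
  have h5 := hss G j hj hGpos (isFinLocFreeOfRank_rk hG) ⟨χ, hχ⟩
  intro F i hi hF
  have h6 := h2 F i hi hF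
  have hGpos' : (0 : ℤ) < rk G := by exact_mod_cast hGpos
  have h7 : (dg k F * rk G) * rk E ≤ (dg k G * rk F) * rk E := mul_le_mul_of_nonneg_right h6 (by positivity)
  have h8 : (dg k G * rk E) * rk F ≤ (dg k E * rk G) * rk F := mul_le_mul_of_nonneg_right h5 (by positivity)
  have h9 : (dg k F * rk E) * rk G ≤ (dg k E * rk F) * rk G := by nlinarith
  exact le_of_mul_le_mul_right h9 hGpos'

end K707.TensHN
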