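import Groth.Agent.S1645
import Groth.Agent.S1530
import Groth.Agent.S1519
import Groth.Agent.S0002
import Groth.Agent.CurvesB.SmoothCurvePole
import Groth.Agent.MiscA.CurveH1E
import Groth.Agent.Grpsch.PicGrp

/-!
# An ample invertible module trivial off a closed point (helper707)
-/

set_option autoImplicit false
universe u

open CategoryTheory CategoryTheory.Limits AlgebraicGeometry Opposite TopologicalSpace

namespace K707.OffPt

open Groth.Agent Groth.Agent.Fdesc.LocGen

/-- The restriction of an invertible module to the locus where a section generates is trivial. -/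
theorem pull_genLocus {X : Scheme.{u}} {L : X.Modules} (hL : PicF.IsInvertible L)
    (s : Coh.structureModule X ⟶ L) (U : X.Opens) (hU : U ≤ CohB1.genLocus L s) :
    Grpsch.PicGrp.pull U.ι (Grpsch.PicGrp.mk L hL) = 1 := by
  have h1 : IsIso ((Scheme.Modules.restrictFunctor U.ι).map s) := by
    rw [isIso_restrict_iff]
    exact (le_genLocus_iff s U).mp hU
  rw [← map_one (Grpsch.PicGrp.pull U.ι), Grpsch.PicGrp.one_def, Grpsch.PicGrp.pull_mk,
    Grpsch.PicGrp.pull_mk]
  exact Grpsch.PicGrp.mk_congr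
      (((Scheme.Modules.restrictFunctorIsoPullback U.ι).app L).symm ≪≫
        (asIso ((Scheme.Modules.restrictFunctor U.ι).map s)).symm ≪≫
        (Scheme.Modules.restrictFunctorIsoPullback U.ι).app _)

/-- The complement of a closed point. -/
def compl {X : Scheme.{u}} (x₀ : X) (hx₀ : IsClosed ({x₀} : Set X)) : X.Opens :=
  ⟨({x₀} : Set X)ᶜ, hx₀.isOpen_compl⟩

theorem mem_compl {X : Scheme.{u}} {x₀ : X} (hx₀ : IsClosed ({x₀} : Set X)) {x : X} :
    x ∈ compl x₀ hx₀ ↔ x ≠ x₀ := Iff.rfl

theorem ne_genericPoint {X : Scheme.{u}} [IsIntegral X] (hdim : topologicalKrullDim X = 1) {x : X}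
    (hx : IsClosed ({x} : Set X)) : x ≠ genericPoint X := by
  rintro rfl
  have h1 : ({genericPoint X} : Set X) = Set.univ := by
    have h := genericPoint_closure (α := X)
    rwa [hx.closure_eq] at h
  have h2 : Subsingleton X := by
    refine ⟨fun a b => ?_⟩
    have ha : a ∈ ({genericPoint X} : Set X) := h1 ▸ Set.mem_univ a
    have hb : b ∈ ({genericPoint X} : Set X) := h1 ▸ Set.mem_univ b
    exact ha.trans hb.symm
  have h3 : topologicalKrullDim X ≤ 0 := by
    exact topologicalKrullDim_zero_of_discreteTopology X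
  rw [hdim] at h3
  exact absurd h3 (by decide)

theorem exists_ample (k : Type u) [Field k] [IsAlgClosed k] (X : Scheme.{u})
    (f : X ⟶ Spec (CommRingCat.of k)) (hX : Curve.IsSmoothProperCurve k X f) (x₀ : X)
    (hx₀ : IsClosed ({x₀} : Set X)) :
    ∃ (L : X.Modules) (hL : PicF.IsInvertible L), CohB1.IsAmple L ∧
      IsAffineOpen (compl x₀ hx₀) ∧
      Grpsch.PicGrp.pull (compl x₀ hx₀).ι (Grpsch.PicGrp.mk L hL) = 1 := by
  have hX' := hX
  obtain ⟨h1, h2, h3, h4⟩ := hX
  let : X.Over (Spec (CommRingCat.of k)) := ⟨f⟩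
  have hp : IsProper (X ↘ Spec (CommRingCat.of k)) := h1
  have hs : Smooth (X ↘ Spec (CommRingCat.of k)) := h2
  have hN : IsNoetherian X := MiscA.CurveH1E.isNoetherian_of_isSmoothProperCurve f hX'
  have hfin : Module.Finite k (Coh.HH X (Coh.structureModule X) 1) :=
    S0002.result k X _ (CurvesC.UnitCoh.isCoh_unit X) 1
  have hU : IsAffineOpen (compl x₀ hx₀) :=
    CurvesB.SmoothCurvePole.isAffineOpen_compl_singleton (k := k) h4 hx₀
  have hne := ne_genericPoint h4 hx₀
  have hsep : X.IsSeparated := ⟨by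
    have : IsSeparated (f ≫ terminal.from _) := inferInstance
    rwa [← terminal.comp_from f]⟩
  have hdvr := MiscA.CurveH1E.isDiscreteValuationRing_stalk f hX' x₀ hne
  have hgen : genericPoint X ∈ compl x₀ hx₀ := fun h => hne (Set.mem_singleton_iff.mp h).symm
  have hfinU : ((compl x₀ hx₀ : Set X)ᶜ).Finite := by
    have : ((compl x₀ hx₀ : X.Opens) : Set X)ᶜ = {x₀} := compl_compl _
    rw [this]
    exact Set.finite_singleton x₀
  obtain ⟨L, s, hL, -, hg⟩ := S1645.result X (compl x₀ hx₀) hU ⟨genericPoint X, hgen⟩ hfinU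
    (fun x hx => by
      have hxx : x = x₀ := by
        by_contra h
        exact hx h
      subst hxx
      exact ⟨inferInstance, IsDiscreteValuationRing.ringKrullDim_eq_one _⟩)
  refine ⟨L, hL, ?_, hU, pull_genLocus hL s _ hg.ge⟩
  rw [S1530.result k X h4 L hL]
  have hsne : s ≠ 0 := by
    rintro rfl
    obtain ⟨U, hxU, hU⟩ := (mem_genLocus_iff (0 : Coh.structureModule X ⟶ L) (genericPoint X)).1 (by
      rw [hg]
      exact hgen)
    have h0 : sec (0 : Coh.structureModule X ⟶ L) U = 0 := rfl
    rw [h0] at hU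
    have h1 : (1 : Γ(X, U)) = 0 := hU.ext (by rw [smul_zero, smul_zero])
    have : Nonempty U := ⟨⟨genericPoint X, hxU⟩⟩
    exact one_ne_zero h1
  exact S1519.result k X h4 _ hL s hsne x₀ (by rw [hg]; exact fun h => h rfl)

end K707.OffPt
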