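import Groth.Agent.VBCurve.K707.ParLocal
import Groth.Agent.Pic13.H969.BettiFam
import Groth.Agent.VBCurve.K707.OffPt
import Groth.Agent.PerfB.FlatPull

/-!
# Parity of `h^0` in families of modules with a symmetric perfect pairing with values in `Ω` (helper707)
-/

set_option autoImplicit false
universe u
open CategoryTheory CategoryTheory.Limits AlgebraicGeometry TopologicalSpace Opposite

namespace K707.ParMain

open Groth.Agent Groth.Agent.Fdesc Groth.Agent.Picfga.ChiCech K707.ParPair K707.SecBase K707.ParForm K707.ParBC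

/-- A function on a Noetherian quasi-sober space invariant under specialization is locally constant
(from `Fga.QG1`). -/
theorem isLocallyConstant_of_specializes {X Z : Type*} [TopologicalSpace X] [NoetherianSpace X]
    [QuasiSober X] (f : X → Z) (hf : ∀ x y : X, x ⤳ y → f x = f y) : IsLocallyConstant f := by
  rw [IsLocallyConstant.iff_exists_open]
  intro x
  set S : Set (Set X) := {C ∈ irreducibleComponents X | x ∉ C} with hS
  have hfin : S.Finite := (NoetherianSpace.finite_irreducibleComponents (α := X)).subset (Set.sep_subset _ _)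
  refine ⟨(⋃₀ S)ᶜ, ?_, ?_, ?_⟩
  · rw [isOpen_compl_iff]
    rw [Set.sUnion_eq_biUnion]
    exact hfin.isClosed_biUnion fun C hC => isClosed_of_mem_irreducibleComponents C hC.1
  · rintro ⟨C, hC, hx⟩
    exact hC.2 hx
  · intro y hy
    have hC : irreducibleComponent y ∈ irreducibleComponents X := irreducibleComponent_mem_irreducibleComponents y
    have hx : x ∈ irreducibleComponent y := by
      by_contra hcon
      exact hy ⟨_, ⟨hC, hcon⟩, mem_irreducibleComponent⟩
    obtain ⟨η, hη⟩ := QuasiSober.sober (isIrreducible_irreducibleComponent (x := y))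
      isClosed_irreducibleComponent
    have h1 : η ⤳ y := hη.specializes mem_irreducibleComponent
    have h2 : η ⤳ x := hη.specializes hx
    rw [← hf η y h1, hf η x h2]

/-- The same on a locally Noetherian scheme. -/
theorem isLocallyConstant_scheme {S : Scheme.{u}} [IsLocallyNoetherian S] {Z : Type*} (f : S → Z)
    (hf : ∀ x y : S, x ⤳ y → f x = f y) : IsLocallyConstant f := by
  rw [IsLocallyConstant.iff_exists_open]
  intro s
  obtain ⟨_, ⟨T, hT, rfl⟩, hs, -⟩ := S.isBasis_affineOpens.exists_subset_of_mem_open (Set.mem_univ s) isOpen_univ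
  have hTa : IsAffineOpen T := hT
  have hN : IsNoetherianRing Γ(S, T) := IsLocallyNoetherian.component_noetherian ⟨T, hTa⟩
  have : NoetherianSpace (Spec Γ(S, T)) := inferInstanceAs (NoetherianSpace (PrimeSpectrum Γ(S, T)))
  have h1 : IsLocallyConstant fun x : Spec Γ(S, T) => f (hTa.fromSpec x) :=
    isLocallyConstant_of_specializes _ fun x y hxy => hf _ _ (hxy.map hTa.fromSpec.continuous)
  rw [IsLocallyConstant.iff_exists_open] at h1
  obtain ⟨s', rfl⟩ : ∃ s', hTa.fromSpec s' = s := by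
    have h3 : s ∈ Set.range hTa.fromSpec := by rw [hTa.range_fromSpec]; exact hs
    exact h3
  obtain ⟨W, hW, hsW, hc⟩ := h1 s'
  refine ⟨hTa.fromSpec '' W, hTa.fromSpec.isOpenEmbedding.isOpenMap _ hW, ⟨s', hsW, rfl⟩, ?_⟩
  rintro _ ⟨y, hy, rfl⟩
  exact hc y hy

/-- Two affine opens covering the curve. -/
theorem exists_cover (k : Type u) [Field k] [IsAlgClosed k] {X : Scheme.{u}}
    [X.Over (Spec (CommRingCat.of k))] (hX : Curve.IsSmoothProperCurve k X (X ↘ (Spec (CommRingCat.of k)))) :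
    ∃ U V : X.Opens, IsAffineOpen U ∧ IsAffineOpen V ∧ IsAffineOpen (U ⊓ V) ∧ U ⊔ V = ⊤ := by
  obtain ⟨hp, hs, hi, hd⟩ := id hX
  have hc := CurvesB.UnitCoh.isCoh_structureModule X
  have hf : FiniteDimensional k (Coh.HH X (Coh.structureModule X) 1) := S0002.result k X _ hc 1
  have hj : JacobsonSpace X := LocallyOfFiniteType.jacobsonSpace (X ↘ Spec (CommRingCat.of k))
  have hsep : X.IsSeparated := ⟨by
    rw [← terminal.comp_from (X ↘ Spec (CommRingCat.of k))]
    infer_instance⟩
  obtain ⟨x₀, -, h₀⟩ := nonempty_inter_closedPoints (X := X) Set.univ_nonempty isClosed_univ.isLocallyClosed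
  have h₀' : IsClosed ({x₀} : Set X) := h₀
  obtain ⟨x₁, h₁, h₁'⟩ := nonempty_inter_closedPoints (X := X) (Z := ({x₀} : Set X)ᶜ)
    ⟨genericPoint X, (OffPt.ne_genericPoint hd h₀').symm⟩ h₀'.isOpen_compl.isLocallyClosed
  have h₁'' : IsClosed ({x₁} : Set X) := h₁'
  have a₀ := CurvesB.SmoothCurvePole.isAffineOpen_compl_singleton (k := k) hd h₀'
  have a₁ := CurvesB.SmoothCurvePole.isAffineOpen_compl_singleton (k := k) hd h₁''
  refine ⟨_, _, a₀, a₁, a₀.inf a₁, ?_⟩
  ext x
  simp only [Opens.coe_sup, Opens.coe_mk, Set.mem_union, Set.mem_compl_iff, Set.mem_singleton_iff, Opens.coe_top,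
    Set.mem_univ, iff_true]
  by_contra hcon
  push Not at hcon
  exact h₁ (hcon.2.symm.trans hcon.1)

/-- The `h^0` of the fibre at a point of an affine chart. -/
theorem betti_chart {P S : Scheme.{u}} (h : P ⟶ S) [QuasiCompact h] [QuasiSeparated h] (F : P.Modules)
    (hF : Coh.IsQCoh F) (B : Type u) [CommRing B] (j₀ : Spec (CommRingCat.of B) ⟶ S) {Y : Scheme.{u}}
    [Y.Over (Spec (CommRingCat.of B))] (j : Y ⟶ P) (hj : IsPullback j (Y ↘ Spec (CommRingCat.of B)) h j₀)
    (y : PrimeSpectrum B) {YK : Scheme.{u}} [YK.Over (Spec (CommRingCat.of y.asIdeal.ResidueField))] (gK : YK ⟶ Y)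
    (hK : IsPullback gK (YK ↘ Spec (CommRingCat.of y.asIdeal.ResidueField)) (Y ↘ Spec (CommRingCat.of B))
      (Spec.map (CommRingCat.ofHom (algebraMap B y.asIdeal.ResidueField)))) :
    PerfAux.betti h F (j₀ (show Spec (CommRingCat.of B) from y)) 0 = Module.finrank y.asIdeal.ResidueField
      (Coh.HH YK ((Scheme.Modules.pullback gK).obj ((Scheme.Modules.pullback j).obj F)) 0) := by
  have h1 := Pic13.H969.BettiFam.betti_eq_finrank h y.asIdeal.ResidueField
    (Spec.map (CommRingCat.ofHom (algebraMap B y.asIdeal.ResidueField)) ≫ j₀) YK (gK ≫ j)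
    (hK.paste_horiz hj) F hF 0
  have h2 : (Spec.map (CommRingCat.ofHom (algebraMap B y.asIdeal.ResidueField)) ≫ j₀)
      (IsLocalRing.closedPoint y.asIdeal.ResidueField) = j₀ (show Spec (CommRingCat.of B) from y) := by
    rw [Scheme.Hom.comp_apply]
    congr 1
    have h3 : PrimeSpectrum.comap (algebraMap B y.asIdeal.ResidueField)
        (IsLocalRing.closedPoint y.asIdeal.ResidueField) = y := by
      apply PrimeSpectrum.ext
      change Ideal.comap (algebraMap B y.asIdeal.ResidueField) (IsLocalRing.maximalIdeal _) = y.asIdeal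
      rw [IsLocalRing.maximalIdeal_eq_bot, ← RingHom.ker_eq_comap_bot, Ideal.ker_algebraMap_residueField]
    exact h3
  rw [h2] at h1
  rw [h1]
  exact (PerfB.FiberBC.isoOver y.asIdeal.ResidueField ((Scheme.Modules.pullbackComp gK j).app F) 0).finrank_eq.symm

section spec

variable (k : Type u) [Field k] [IsAlgClosed k] (h2 : (2 : k) ≠ 0)
    (X : Scheme.{u}) (f : X ⟶ Spec (CommRingCat.of k)) (hX : Curve.IsSmoothProperCurve k X f)
    (S : Scheme.{u}) [IsLocallyNoetherian S] (g : S ⟶ Spec (CommRingCat.of k))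
    (F : (pullback f g).Modules) (hF : FlatMod.IsFinLocFree F)
    (σ : F ≅ RefHull.homSh F ((Scheme.Modules.pullback (pullback.fst f g)).obj (Omega.sheaf f)))
    (hσ : ∀ (U : (pullback f g).Opens) (s t : Γ(F, U)) (x : U),
      (σ.hom.app U s).1 x (F.presheaf.germ U x.1 x.2 t) = (σ.hom.app U t).1 x (F.presheaf.germ U x.1 x.2 s))

include h2 hX hF hσ in
theorem betti_spec (s s₀ : S) (hs : s ⤳ s₀) :
    (PerfAux.betti (pullback.snd f g) F s 0 : ZMod 2) = (PerfAux.betti (pullback.snd f g) F s₀ 0 : ZMod 2) := by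
  let _ : X.Over (Spec (CommRingCat.of k)) := ⟨f⟩
  obtain ⟨hp, hsm, hi, hd⟩ := id hX
  obtain ⟨U, V, hU, hV, hUV, hcov⟩ := exists_cover k hX
  obtain ⟨_, ⟨T, hT, rfl⟩, hs₀, -⟩ := S.isBasis_affineOpens.exists_subset_of_mem_open (Set.mem_univ s₀) isOpen_univ
  have hTa : IsAffineOpen T := hT
  have hsT : s ∈ T := hs.mem_open T.2 hs₀
  let B : Type u := Γ(S, T)
  have hBN : IsNoetherianRing B := IsLocallyNoetherian.component_noetherian ⟨T, hTa⟩
  let j₀ : Spec (CommRingCat.of B) ⟶ S := hTa.fromSpec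
  have hj₀ : IsOpenImmersion j₀ := inferInstanceAs (IsOpenImmersion hTa.fromSpec)
  let algB : Algebra k B := (Spec.preimage (j₀ ≫ g)).hom.toAlgebra
  have hg' : j₀ ≫ g = Spec.map (CommRingCat.ofHom (algebraMap k B)) := (Spec.map_preimage (j₀ ≫ g)).symm
  let Y := pullback (pullback.snd f g) j₀
  let j : Y ⟶ pullback f g := pullback.fst (pullback.snd f g) j₀
  let _ : Y.Over (Spec (CommRingCat.of B)) := ⟨pullback.snd (pullback.snd f g) j₀⟩
  have hj : IsPullback j (Y ↘ Spec (CommRingCat.of B)) (pullback.snd f g) j₀ := IsPullback.of_hasPullback _ _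
  have hji : IsOpenImmersion j := inferInstanceAs (IsOpenImmersion (pullback.fst (pullback.snd f g) j₀))
  let q : Y ⟶ X := j ≫ pullback.fst f g
  have hq : IsPullback q (Y ↘ Spec (CommRingCat.of B)) (X ↘ Spec (CommRingCat.of k))
      (Spec.map (CommRingCat.ofHom (algebraMap k B))) := by
    rw [← hg']
    exact hj.paste_horiz (IsPullback.of_hasPullback f g)
  have hΩ : PicF.IsInvertible (Omega.sheaf f) := CurvesB.OmegaInv.isInvertible_omega _ hd
  have hΩq : Coh.IsQCoh (Omega.sheaf f) := (VarietyA.CurveFin.isCoh_of_isInvertible hΩ).1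
  have hFc : Coh.IsCoh F := PerfA.CohSerre.isCoh_of_isFinLocFree hF
  have aq := isAffineHom_g q hq
  have hU' : IsAffineOpen (q ⁻¹ᵁ U) := hU.preimage q
  have hV' : IsAffineOpen (q ⁻¹ᵁ V) := hV.preimage q
  have hUV' : IsAffineOpen (q ⁻¹ᵁ U ⊓ q ⁻¹ᵁ V) := hUV.preimage q
  -- the pairing
  let W : Option Bool → (pullback f g).Opens := fun i => j ''ᵁ (fam (q ⁻¹ᵁ U) (q ⁻¹ᵁ V) i)
  have hW : ∀ i, W none ≤ W i := fun i => j.image_mono (fam_le (q ⁻¹ᵁ U) (q ⁻¹ᵁ V) i)
  have hWa : ∀ i, IsAffineOpen (W i) := fun i => (fam_aff hU' hV' hUV' i).image_of_isOpenImmersion j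
  have e : ∀ i, fam (q ⁻¹ᵁ U) (q ⁻¹ᵁ V) i ≤ j ⁻¹ᵁ (W i) := fun i => (j.preimage_image_eq _).ge
  let D0 : PairData none F ((Scheme.Modules.pullback (pullback.fst f g)).obj (Omega.sheaf f)) W hW :=
    ofSigma σ hσ hFc.1 W hW hWa
  let D1 := pull D0 j (fam (q ⁻¹ᵁ U) (q ⁻¹ᵁ V)) (fam_le (q ⁻¹ᵁ U) (q ⁻¹ᵁ V)) e hWa (fam_aff hU' hV' hUV') hFc.1
    (VarietyB.PullSec.isQCoh_pullback _ _ hΩq)
    (fun i => by
      obtain ⟨e1, e2⟩ := CohqB.HomPost.projective_sections hF (hWa i)
      infer_instance)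
    (fun i => (CohqB.HomPost.projective_sections hF (hWa i)).2)
  let D := mapRight D1 ((Scheme.Modules.pullbackComp j (pullback.fst f g)).app (Omega.sheaf f))
  have hFY : FlatMod.IsFinLocFree ((Scheme.Modules.pullback j).obj F) := PerfB.FlatPull.isFinLocFree_pullback j hF
  -- the two points
  let y₀ : PrimeSpectrum B := hTa.primeIdealOf ⟨s₀, hs₀⟩
  let y : PrimeSpectrum B := hTa.primeIdealOf ⟨s, hsT⟩
  have hy₀ : j₀ (show Spec (CommRingCat.of B) from y₀) = s₀ := hTa.fromSpec_primeIdealOf ⟨s₀, hs₀⟩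
  have hy : j₀ (show Spec (CommRingCat.of B) from y) = s := hTa.fromSpec_primeIdealOf ⟨s, hsT⟩
  have hle : y.asIdeal ≤ y₀.asIdeal := by
    have h3 : (show Spec (CommRingCat.of B) from y) ⤳ (show Spec (CommRingCat.of B) from y₀) := by
      rw [← j₀.isOpenEmbedding.isInducing.specializes_iff, hy₀, hy]
      exact hs
    exact (PrimeSpectrum.le_iff_specializes y y₀).mpr h3
  let gK := pullback.fst (Y ↘ Spec (CommRingCat.of B))
    (Spec.map (CommRingCat.ofHom (algebraMap B y₀.asIdeal.ResidueField)))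
  let _ : (pullback (Y ↘ Spec (CommRingCat.of B))
    (Spec.map (CommRingCat.ofHom (algebraMap B y₀.asIdeal.ResidueField)))).Over
      (Spec (CommRingCat.of y₀.asIdeal.ResidueField)) := ⟨pullback.snd _ _⟩
  have hK : IsPullback gK (pullback (Y ↘ Spec (CommRingCat.of B))
    (Spec.map (CommRingCat.ofHom (algebraMap B y₀.asIdeal.ResidueField))) ↘
      Spec (CommRingCat.of y₀.asIdeal.ResidueField)) (Y ↘ Spec (CommRingCat.of B))
      (Spec.map (CommRingCat.ofHom (algebraMap B y₀.asIdeal.ResidueField))) := IsPullback.of_hasPullback _ _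
  let gL := pullback.fst (Y ↘ Spec (CommRingCat.of B))
    (Spec.map (CommRingCat.ofHom (algebraMap B y.asIdeal.ResidueField)))
  let _ : (pullback (Y ↘ Spec (CommRingCat.of B))
    (Spec.map (CommRingCat.ofHom (algebraMap B y.asIdeal.ResidueField)))).Over
      (Spec (CommRingCat.of y.asIdeal.ResidueField)) := ⟨pullback.snd _ _⟩
  have hL : IsPullback gL (pullback (Y ↘ Spec (CommRingCat.of B))
    (Spec.map (CommRingCat.ofHom (algebraMap B y.asIdeal.ResidueField))) ↘
      Spec (CommRingCat.of y.asIdeal.ResidueField)) (Y ↘ Spec (CommRingCat.of B))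
      (Spec.map (CommRingCat.ofHom (algebraMap B y.asIdeal.ResidueField))) := IsPullback.of_hasPullback _ _
  have hLp : RingHom.ker (algebraMap B y.asIdeal.ResidueField) ≤ y₀.asIdeal := by
    rw [Ideal.ker_algebraMap_residueField]
    exact hle
  obtain ⟨k1, k2⟩ := ParLocal.parity k h2 hX hU hV hUV hcov B q hq ((Scheme.Modules.pullback j).obj F) hFY D
    y₀.asIdeal gK hK y.asIdeal.ResidueField hLp gL hL
  have b0 := betti_chart (pullback.snd f g) F hFc.1 B j₀ j hj y₀ gK hK
  have b1 := betti_chart (pullback.snd f g) F hFc.1 B j₀ j hj y gL hL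
  rw [hy₀] at b0
  rw [hy] at b1
  rw [← b0, ← b1] at k1 k2
  have h5 := (ZMod.natCast_eq_zero_iff_even).mpr k1
  rw [Nat.cast_sub k2, sub_eq_zero] at h5
  exact h5.symm

end spec

end K707.ParMain
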