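import Groth.Agent.Coherent.K54.ExtSes
import Groth.Agent.Krr.H495.Rank
import Groth.Agent.Krr.H495.ExtExist
import Groth.Agent.Sga67.QCohEpi
import Groth.Agent.Sga67.TensorOps
import Groth.Agent.Ega2.QCohLocal
import Groth.Agent.Ega2.TensMon
import Groth.Agent.Dcoh.FinLocFree
import Groth.Agent.Fdesc.LocGen

/-!
# A bundle of trivial determinant with a sub-bundle `O^{r-1}` on an affine scheme is trivial (helper707)
-/

set_option autoImplicit false
universe u

open CategoryTheory CategoryTheory.Limits AlgebraicGeometry Opposite TopologicalSpace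

namespace K707.DetSplit

open Groth.Agent.Sga67.Sec Groth.Agent.Sga67.LocBasis Groth.Agent.Sga67.ExtSheaf
open Groth.Agent

variable {T : Scheme.{u}}

theorem nonempty_free_one : Nonempty (Coh.structureModule T ≅ FlatMod.freeMod T 1) :=
  nonempty_iso_free Sga67.TensorOps.isLocBasis_one

theorem isZero_extPow {n : ℕ} {A L : T.Modules} (hA : FlatMod.IsFinLocFreeOfRank n A)
    (hL : ExtPow.IsExtPow (n + 1) A L) : IsZero L := by
  have h := Krr.H495.Rank.rank_extPow hA hL
  rw [Nat.choose_succ_self] at h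
  exact Krr.H495.Rank.isZero_of_rank_zero h

theorem nonempty_extPow_free [IsAffine T] {n : ℕ} {K : T.Modules}
    (hK : ExtPow.IsExtPow n (FlatMod.freeMod T n) K) : Nonempty (K ≅ Coh.structureModule T) := by
  obtain ⟨φ, hφ⟩ := hK
  let W : T.affineOpens := ⟨⊤, isAffineOpen_top T⟩
  have h1 := isLocBasis_extPow φ hφ (U := W) (free_isLocBasis T n)
  have h2 : Fintype.card (Set.powersetCard (Fin n) n) = 1 := by
    rw [← Nat.card_eq_fintype_card, Set.powersetCard.card, Nat.card_eq_fintype_card, Fintype.card_fin,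
      Nat.choose_self]
  have h3 := h1.reindex (Fintype.equivFinOfCardEq h2).symm
  obtain ⟨e⟩ := nonempty_iso_free h3
  obtain ⟨e'⟩ := nonempty_free_one (T := T)
  exact ⟨e ≪≫ e'.symm⟩

/-- `det` of an extension of a line bundle by `O^n`. -/
theorem nonempty_cokernel_iso [IsAffine T] {n : ℕ} {E D : T.Modules} (φ : FlatMod.freeMod T n ⟶ E) [Mono φ]
    (hc : FlatMod.IsFinLocFreeOfRank 1 (cokernel φ)) (hD : ExtPow.IsExtPow (n + 1) E D) :
    Nonempty (D ≅ cokernel φ) := by
  have hfree : FlatMod.IsFinLocFreeOfRank n (FlatMod.freeMod T n) :=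
    Krr.H495.Rank.isFinLocFreeOfRank_iff'.mpr fun x => ⟨⊤, trivial, _, free_isLocBasis T n⟩
  let S : ShortComplex T.Modules := ShortComplex.mk φ (cokernel.π φ) (cokernel.condition φ)
  have hS : S.ShortExact := { exact := ShortComplex.exact_cokernel φ }
  obtain ⟨L', -, hL'⟩ := Krr.H495.ExtExist.exists_isExtPow (n + 1) S.X₁ (Krr.H495.Rank.isFinLocFree_of_rank hfree)
  obtain ⟨K, -, hK⟩ := Krr.H495.ExtExist.exists_isExtPow n S.X₁ (Krr.H495.Rank.isFinLocFree_of_rank hfree)
  obtain ⟨j, k, w, hse⟩ := K54.ExtSes.exists_ses hS hc hL' hD hK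
  have hz := isZero_extPow hfree hL'
  obtain ⟨e⟩ := nonempty_extPow_free hK
  have h1 : IsIso k := by
    have := hse.epi_g
    have := hse.exact.mono_g (hz.eq_of_src _ _)
    exact isIso_of_mono_of_epi k
  exact ⟨asIso k ≪≫ Ega2.Tens.mapTIso e (Iso.refl _) ≪≫ Ega2.Tens.lunit _⟩

/-- Splitting. -/
theorem nonempty_iso_free_succ [IsAffine T] {n : ℕ} {E : T.Modules} (φ : FlatMod.freeMod T n ⟶ E) [Mono φ]
    (hE : Coh.IsQCoh E) (e : cokernel φ ≅ Coh.structureModule T) :
    Nonempty (E ≅ FlatMod.freeMod T (n + 1)) := by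
  let g : E ⟶ Coh.structureModule T := cokernel.π φ ≫ e.hom
  have hw : φ ≫ g = 0 := by rw [← Category.assoc, cokernel.condition, zero_comp]
  have hO : Coh.IsQCoh (Coh.structureModule T) :=
    Ega2.QCohLocal.isQCoh_of_isFinLocFree Sga67.TensorOps.isFinLocFree_structureModule
  obtain ⟨y, hy⟩ := Sga67.QCohEpi.app_surjective g hE hO (isAffineOpen_top T) (Fdesc.LocGen.one ⊤)
  have hs : Fdesc.LocGen.homOf y ≫ g = 𝟙 _ := by
    apply Fdesc.LocGen.hom_ext_sec
    rw [Fdesc.LocGen.sec_comp, Fdesc.LocGen.sec_homOf, Fdesc.LocGen.res_refl, hy]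
    rfl
  let S : ShortComplex T.Modules := ShortComplex.mk φ g hw
  have hS : S.Exact := by
    refine ShortComplex.exact_of_iso (?_ : ShortComplex.mk φ (cokernel.π φ) (cokernel.condition φ) ≅ S)
      (ShortComplex.exact_cokernel φ)
    exact ShortComplex.isoMk (Iso.refl _) (Iso.refl _) e (by simp [S]) (by simp [S, g])
  have hm : Mono S.f := inferInstanceAs (Mono φ)
  let sp : S.Splitting := ShortComplex.Splitting.ofExactOfSection S hS (Fdesc.LocGen.homOf y) hs hm
  obtain ⟨e1⟩ := nonempty_free_one (T := T)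
  obtain ⟨e2⟩ := Dcoh.FinLocFree.nonempty_biprod_freeMod_iso T n 1
  exact ⟨sp.isoBinaryBiproduct ≪≫ biprod.mapIso (Iso.refl _) e1 ≪≫ e2⟩

theorem nonempty_iso_free_of_det [IsAffine T] {n : ℕ} {E D : T.Modules}
    (hE : FlatMod.IsFinLocFreeOfRank (n + 1) E) (φ : FlatMod.freeMod T n ⟶ E) [Mono φ]
    (hc : FlatMod.IsFinLocFreeOfRank 1 (cokernel φ)) (hD : ExtPow.IsExtPow (n + 1) E D)
    (e : D ≅ Coh.structureModule T) : Nonempty (E ≅ FlatMod.freeMod T (n + 1)) := by
  obtain ⟨e'⟩ := nonempty_cokernel_iso φ hc hD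
  exact nonempty_iso_free_succ φ
    (Ega2.QCohLocal.isQCoh_of_isFinLocFree (Krr.H495.Rank.isFinLocFree_of_rank hE)) (e'.symm ≪≫ e)

end K707.DetSplit
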