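import Groth.Agent.VBCurve.K707.OffPt
import Groth.Agent.VBCurve.K707.DetSplit
import Groth.Agent.VBCurve.K707.FlagMain
import Groth.Agent.CohqB.AmpGeneric
import Groth.Agent.Dual.H375.ExtRestr
import Groth.Agent.Picfga.CurveRelDim

/-!
# Bundles of trivial determinant on `X × U` are locally on `U` trivial off a point of `X` (helper707)
-/

set_option autoImplicit false
universe u

open CategoryTheory CategoryTheory.Limits AlgebraicGeometry Opposite TopologicalSpace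

namespace K707.Loop

open Groth.Agent.Sga67.Sec Groth.Agent.Sga67.LocBasis
open K707.OffPt K707.DetSplit K707.FlagMain Groth.Agent

/-- restriction of an invertible module with trivial pull-back class -/
theorem nonempty_restrict_iso {P T : Scheme.{u}} (j : T ⟶ P) [IsOpenImmersion j] {L : P.Modules}
    (hL : PicF.IsInvertible L) (h : Grpsch.PicGrp.pull j (Grpsch.PicGrp.mk L hL) = 1) :
    Nonempty (L.restrict j ≅ Coh.structureModule T) := by
  rw [Grpsch.PicGrp.pull_mk, Grpsch.PicGrp.mk_eq_one_iff] at h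
  obtain ⟨e⟩ := h
  exact ⟨(Scheme.Modules.restrictFunctorIsoPullback j).app L ≪≫ e⟩

theorem exists_triv {P S : Scheme.{u}} (q : P ⟶ S) [IsProper q] [IsAffine S]
    {k : Type*} [Field k] [Infinite k] (c : k →+* Γ(P, ⊤)) {L : P.Modules} (hL : CohB1.IsAmple L)
    {r : ℕ} {E D : P.Modules} (hE : FlatMod.IsFinLocFreeOfRank (r + 1) E)
    (hD : ExtPow.IsExtPow (r + 1) E D) (e : D ≅ Coh.structureModule P) (W : P.Opens) (hW : IsAffineOpen W)
    (hLW : Grpsch.PicGrp.pull W.ι (Grpsch.PicGrp.mk L hL.1) = 1) (s : S)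
    (hd : topologicalKrullDim (q.fiber s) ≤ 1) :
    ∃ V : S.Opens, s ∈ V ∧ Nonempty (E.restrict (W ⊓ q ⁻¹ᵁ V).ι ≅ FlatMod.freeMod (↑(W ⊓ q ⁻¹ᵁ V)) (r + 1)) := by
  have hPc : CompactSpace P := QuasiCompact.compactSpace_of_compactSpace q
  have hPs : P.IsSeparated := by
    have : IsSeparated (q ≫ terminal.from _) := inferInstance
    exact ⟨by rwa [← terminal.comp_from q]⟩
  obtain ⟨n, w, V, hG, hs, hV⟩ := RelBun.exists_family q c hL (Nat.succ_pos r) hE s hd
  obtain ⟨h, hhV, hh⟩ := (isAffineOpen_top S).exists_basicOpen_le ⟨s, hs⟩ (show s ∈ (⊤ : S.Opens) from trivial)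
  refine ⟨S.basicOpen h, hh, ?_⟩
  set T : P.Opens := W ⊓ q ⁻¹ᵁ (S.basicOpen h) with hT
  have hTa : IsAffineOpen T := by
    have h1 : T = P.basicOpen (P.presheaf.map (homOfLE (le_top : W ≤ ⊤)).op (q.app ⊤ h)) := by
      rw [Scheme.basicOpen_res, hT, Scheme.preimage_basicOpen]
      rfl
    rw [h1]
    exact hW.basicOpen _
  have hTaff : IsAffine T := hTa
  have hTV : T ≤ q ⁻¹ᵁ V := fun x hx => hhV hx.2
  obtain ⟨φ, hφ, hc⟩ : ∃ φ : FlatMod.freeMod T r ⟶
      (CohB1.tensorMod E (CohB1.tensorPow L n)).restrict T.ι, Mono φ ∧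
        FlatMod.IsFinLocFreeOfRank 1 (cokernel φ) := by
    have h1 := RestrBasis.exists_mono T.ι hG w (fun x => hV _ (hTV x.2))
    have h2 : r.succ - (r.succ - 1) = 1 := by omega
    rw [h2] at h1
    exact h1
  -- the twist is trivial on `T`
  have hLn := Fdesc.LocGen.isInvertible_tensorPow hL.1 n
  have hTW : T ≤ W := inf_le_left
  have hj : P.homOfLE hTW ≫ W.ι = T.ι := P.homOfLE_ι hTW
  have hpow : Grpsch.PicGrp.pull T.ι (Grpsch.PicGrp.mk _ hLn) = 1 := by
    rw [Grpsch.PicGrp.mk_tensorPow hL.1 n, map_pow, ← hj, Grpsch.PicGrp.pull_comp, hLW, map_one, one_pow]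
  obtain ⟨e1⟩ := nonempty_restrict_iso T.ι hLn hpow
  let e2 : (CohB1.tensorMod E (CohB1.tensorPow L n)).restrict T.ι ≅ E.restrict T.ι :=
    Ega3B.TensRestrict.restrictIso T.ι E (CohB1.tensorPow L n) ≪≫
      Ega2.Tens.mapTIso (Iso.refl _) e1 ≪≫ Ega2.Tens.runit _
  let φ' : FlatMod.freeMod T r ⟶ E.restrict T.ι := φ ≫ e2.hom
  have hφ' : Mono φ' := mono_comp _ _
  have hc' : FlatMod.IsFinLocFreeOfRank 1 (cokernel φ') :=
    Krr.H495.Rank.rank_iso (cokernel.mapIso φ φ' (Iso.refl _) e2 (by simp [φ'])) hc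
  have hET : FlatMod.IsFinLocFreeOfRank (r + 1) (E.restrict T.ι) := rank_restrict T.ι hE
  have hDT := Dual.H375.ExtRestr.isExtPow_restrict (U := T) hD
  have hDi : PicF.IsInvertible D := Ega2.QCohLocal.isFinLocFreeOfRank_one_iff.mp
    (Krr.H495.Rank.rank_iso e.symm Krr.H495.Rank.isFinLocFreeOfRank_structureModule)
  have hD1 : Grpsch.PicGrp.mk D hDi = 1 := (Grpsch.PicGrp.mk_eq_one_iff hDi).mpr ⟨e⟩
  obtain ⟨e3⟩ := nonempty_restrict_iso T.ι hDi (by rw [hD1, map_one])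
  exact nonempty_iso_free_of_det hET φ' hc' hDT e3

/-- Bundles of trivial determinant on `X × U`. -/
theorem main (k : Type u) [Field k] [IsAlgClosed k]
    (X : Scheme.{u}) (f : X ⟶ Spec (CommRingCat.of k)) (hX : Curve.IsSmoothProperCurve k X f)
    (x₀ : X) (hx₀ : IsClosed ({x₀} : Set X))
    (U : Scheme.{u}) [IsAffine U] (g : U ⟶ Spec (CommRingCat.of k))
    (E : (pullback f g).Modules) (r : ℕ) (hE : FlatMod.IsFinLocFreeOfRank r E)
    (hdet : ∃ D : (pullback f g).Modules, ExtPow.IsExtPow r E D ∧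
      Nonempty (D ≅ Coh.structureModule (pullback f g)))
    (u : U) :
    ∃ V : U.Opens, u ∈ V ∧
      Nonempty (E.restrict ((pullback.fst f g) ⁻¹ᵁ (compl x₀ hx₀) ⊓ (pullback.snd f g) ⁻¹ᵁ V).ι ≅
        FlatMod.freeMod (↑((pullback.fst f g) ⁻¹ᵁ (compl x₀ hx₀) ⊓ (pullback.snd f g) ⁻¹ᵁ V)) r) := by
  obtain _ | r := r
  · refine ⟨⊤, trivial, ?_⟩
    have h1 := Krr.H495.Rank.isZero_of_rank_zero (rank_restrict ((pullback.fst f g) ⁻¹ᵁ (compl x₀ hx₀) ⊓
      (pullback.snd f g) ⁻¹ᵁ (⊤ : U.Opens)).ι hE)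
    have h2 := Flag.fl_free (X := ↑((pullback.fst f g) ⁻¹ᵁ (compl x₀ hx₀) ⊓
      (pullback.snd f g) ⁻¹ᵁ (⊤ : U.Opens))) 0
    exact ⟨h1.iso h2⟩
  obtain ⟨L₀, hL₀, hamp, hU, hpull⟩ := exists_ample k X f hX x₀ hx₀
  obtain ⟨h1, h2, h3, h4⟩ := hX
  have hg : IsAffineHom g := isAffineHom_of_isAffine g
  have hp : IsAffineHom (pullback.fst f g) := MorphismProperty.pullback_fst f g hg
  have hL := Groth.Agent.CohqB.AmpCocycle.isAmple_pullback (pullback.fst f g) hamp
  have hf1 : SmoothOfRelativeDimension 1 f :=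
    Picfga.CurveRelDim.smoothOfRelativeDimension_of_topologicalKrullDim_eq k X f 1 (by exact_mod_cast h4)
  have hq : IsProper (pullback.snd f g) := inferInstance
  have hq1 : SmoothOfRelativeDimension 1 (pullback.snd f g) := by
    have h0 := smoothOfRelativeDimension_isStableUnderBaseChange.{u} 1
    exact MorphismProperty.pullback_snd (P := @SmoothOfRelativeDimension 1) f g hf1
  let c : k →+* Γ(pullback f g, ⊤) :=
    (((Scheme.ΓSpecIso (CommRingCat.of k)).inv ≫ (pullback.snd f g ≫ g).appTop).hom :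
      k →+* Γ(pullback f g, ⊤))
  obtain ⟨D, hD, ⟨e⟩⟩ := hdet
  refine exists_triv (pullback.snd f g) c hL hE hD e _ (hU.preimage (pullback.fst f g)) ?_ u ?_
  · have h5 : (pullback.fst f g ∣_ (compl x₀ hx₀)) ≫ (compl x₀ hx₀).ι =
        (pullback.fst f g ⁻¹ᵁ (compl x₀ hx₀)).ι ≫ pullback.fst f g := morphismRestrict_ι _ _
    have h6 : Grpsch.PicGrp.mk _ hL.1 = Grpsch.PicGrp.pull (pullback.fst f g) (Grpsch.PicGrp.mk L₀ hL₀) := rfl
    rw [h6, ← Grpsch.PicGrp.pull_comp, ← h5, Grpsch.PicGrp.pull_comp, hpull, map_one]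
  · have := Etdl.H118.FibreFin.topologicalKrullDim_fiber_le 1 (pullback.snd f g) u
    exact_mod_cast this

end K707.Loop
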