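import Groth.Agent.VBCurve.K707.Semi

/-!
# Maps between semistable modules of the same slope (helper707)
-/

set_option autoImplicit false
universe u

open CategoryTheory CategoryTheory.Limits AlgebraicGeometry TopologicalSpace Opposite

namespace K707.EqSlope

open Groth.Agent.CycB.StalkExact Groth.Agent.VarietyA.DegRank K707.Base K707.Deg K707.Slope K707.Semi

variable {k : Type u} [Field k] {X : Scheme.{u}} [X.Over (Spec (CommRingCat.of k))]
  [IsIntegral X] [IsProper (X ↘ (Spec (CommRingCat.of k)))]

/-- Kernel and cokernel of a map between semistable modules of the same slope. -/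
theorem main (C : Crv k X) {E F : X.Modules} (hEv : FlatMod.IsFinLocFree E) (hFv : FlatMod.IsFinLocFree F)
    (hr : 0 < rk E) (hs : 0 < rk F) (hE : SS k E) (hF : SS k F)
    (hμ : dg k E * rk F = dg k F * rk E) (f : E ⟶ F) :
    (FlatMod.IsFinLocFree (kernel f) ∧ dg k (kernel f) * rk E = dg k E * rk (kernel f) ∧ SS k (kernel f)) ∧
      (FlatMod.IsFinLocFree (cokernel f) ∧ dg k (cokernel f) * rk F = dg k F * rk (cokernel f) ∧
        SS k (cokernel f)) := by
  have hEc := coh_of_vb hEv
  have hFc := coh_of_vb hFv
  have hr' : (0 : ℤ) < rk E := by exact_mod_cast hr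
  have hs' : (0 : ℤ) < rk F := by exact_mod_cast hs
  obtain ⟨I, p, i, hp, hi, hpi, hI, e1, e2, e3, e4⟩ := exists_factor C f hEc hFc
  have hIv := vb_of_mono C i hI hFv
  have hKv := vb_kernel C f hEv hFc
  have e1' : (rk E : ℤ) = rk (kernel f) + rk I := by exact_mod_cast e1
  have e3' : (rk F : ℤ) = rk I + rk (cokernel f) := by exact_mod_cast e3
  have i1 := hE (kernel f) (kernel.ι f) inferInstance hKv
  have i2 := hE.quot C hEv p hI
  have i3 := hF I i hi hIv
  have i4 : dg k I * rk E ≤ dg k E * rk I := by
    have : (dg k I * rk E) * rk F ≤ (dg k E * rk I) * rk F := by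
      calc (dg k I * rk E) * rk F = (dg k I * rk F) * rk E := by ring
        _ ≤ (dg k F * rk I) * rk E := mul_le_mul_of_nonneg_right i3 (by positivity)
        _ = (dg k F * rk E) * rk I := by ring
        _ = (dg k E * rk I) * rk F := by rw [← hμ]; ring
    exact le_of_mul_le_mul_right this hs'
  have i5 : dg k I * rk E = dg k E * rk I := le_antisymm i4 i2
  have i6 : dg k (kernel f) * rk E = dg k E * rk (kernel f) := by
    have h1 : dg k (kernel f) = dg k E - dg k I := by omega
    have h2 : (rk (kernel f) : ℤ) = rk E - rk I := by omega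
    rw [h1, h2]
    linear_combination -i5
  have i7 : dg k I * rk F = dg k F * rk I := by
    have : (dg k I * rk F) * rk E = (dg k F * rk I) * rk E := by
      calc (dg k I * rk F) * rk E = (dg k I * rk E) * rk F := by ring
        _ = (dg k E * rk F) * rk I := by rw [i5]; ring
        _ = (dg k F * rk I) * rk E := by rw [hμ]; ring
    exact mul_right_cancel₀ hr'.ne' this
  have i8 : dg k (cokernel f) * rk F = dg k F * rk (cokernel f) := by
    have h1 : dg k (cokernel f) = dg k F - dg k I := by omega
    have h2 : (rk (cokernel f) : ℤ) = rk F - rk I := by omega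
    rw [h1, h2]
    linear_combination -i7
  -- the image is saturated
  have hQv : FlatMod.IsFinLocFree (cokernel f) := by
    obtain ⟨G', Q, a, j, q, w, ha, haj, hS, hG', hQ, h1, h2, h3, h4⟩ := exists_saturation C i hI hFc
    have hj : Mono j := hS.mono_f
    have h5 := hF G' j hj (vb_of_mono C j hG' hFv)
    have h6 : dg k G' ≤ dg k I := by
      have : dg k G' * rk F ≤ dg k I * rk F := by rw [i7, ← h1]; exact h5
      exact le_of_mul_le_mul_right this hs'
    have ha' : IsIso a := isIso_of_mono C a hI hG' h1.le h6
    have e : cokernel f ≅ Q := by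
      refine cokernelIsoOfEq hpi.symm ≪≫ Limits.cokernelEpiComp p i ≪≫ ?_
      refine cokernelIsoOfEq haj.symm ≪≫ Limits.cokernelEpiComp a j ≪≫ ?_
      exact (cokernelIsCokernel j).coconePointUniqueUpToIso hS.gIsCokernel
    exact vb_iso e.symm hQ
  refine ⟨⟨hKv, i6, ?_⟩, ⟨hQv, i8, ?_⟩⟩
  · intro G j hj hG
    have h1 := hE G (j ≫ kernel.ι f) (mono_comp _ _) hG
    have : (dg k G * rk (kernel f)) * rk E ≤ (dg k (kernel f) * rk G) * rk E := by
      calc (dg k G * rk (kernel f)) * rk E = (dg k G * rk E) * rk (kernel f) := by ring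
        _ ≤ (dg k E * rk G) * rk (kernel f) := mul_le_mul_of_nonneg_right h1 (by positivity)
        _ = (dg k E * rk (kernel f)) * rk G := by ring
        _ = (dg k (kernel f) * rk G) * rk E := by rw [← i6]; ring
    exact le_of_mul_le_mul_right this hr'
  · refine ss_of_quot C hQv fun R π hπ hR => ?_
    have h1 := hF.quot C hFv (cokernel.π f ≫ π) (coh_of_vb hR)
    have : (dg k (cokernel f) * rk R) * rk F ≤ (dg k R * rk (cokernel f)) * rk F := by
      calc (dg k (cokernel f) * rk R) * rk F = (dg k (cokernel f) * rk F) * rk R := by ring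
        _ = (dg k F * rk R) * rk (cokernel f) := by rw [i8]; ring
        _ ≤ (dg k R * rk F) * rk (cokernel f) := mul_le_mul_of_nonneg_right h1 (by positivity)
        _ = (dg k R * rk (cokernel f)) * rk F := by ring
    exact le_of_mul_le_mul_right this hs'

end K707.EqSlope
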