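import Groth.Agent.VBCurve.K703.Duality
import Groth.Agent.S0034
import Groth.Agent.S0223
import Groth.Agent.S1521
import Groth.Agent.CurvesB.SmoothCurveSerre2
import Groth.Agent.CurvesB.OmegaInv
import Groth.Agent.VarietyB.PullSec
import Groth.Agent.PerfB.FiberBC

/-!
# The pulled back sheaf of differentials is dualizing, with any nonzero functional (helper707)
-/

set_option autoImplicit false
universe u
open CategoryTheory CategoryTheory.Limits AlgebraicGeometry TopologicalSpace Opposite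

namespace K707.DualBC

open Groth.Agent

/-- `h^i` is invariant under field extension. -/
theorem finrank_bc (k K : Type u) [Field k] [Field K] [Algebra k K] {X Y : Scheme.{u}}
    [X.Over (Spec (CommRingCat.of k))] [Y.Over (Spec (CommRingCat.of K))]
    [CompactSpace X] [QuasiSeparatedSpace X] (g : Y ⟶ X)
    (h : IsPullback g (Y ↘ Spec (CommRingCat.of K)) (X ↘ Spec (CommRingCat.of k))
      (Spec.map (CommRingCat.ofHom (algebraMap k K)))) (M : X.Modules) (hM : Coh.IsQCoh M) (i : ℕ) :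
    Module.finrank K (Coh.HH Y ((Scheme.Modules.pullback g).obj M) i) = Module.finrank k (Coh.HH X M i) := by
  have : Coh.IsQCoh M := hM
  obtain ⟨e⟩ := S0034.result k K X Y g h M i
  rw [← e.finrank_eq, Module.finrank_baseChange]

variable (k K : Type u) [Field k] [Field K] [Algebra k K] {X Y : Scheme.{u}}
  [X.Over (Spec (CommRingCat.of k))] [Y.Over (Spec (CommRingCat.of K))] (g : Y ⟶ X)
  (h : IsPullback g (Y ↘ Spec (CommRingCat.of K)) (X ↘ Spec (CommRingCat.of k))
    (Spec.map (CommRingCat.ofHom (algebraMap k K))))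
  (hX : Curve.IsSmoothProperCurve k X (X ↘ (Spec (CommRingCat.of k))))
  (hY : Curve.IsSmoothProperCurve K Y (Y ↘ (Spec (CommRingCat.of K))))

include h hX hY in
/-- Every nonzero functional on `H^1(Y, g^* Ω_X)` is dualizing. -/
theorem exists_dual {G : Y.Modules}
    (e : G ≅ (Scheme.Modules.pullback g).obj (Omega.sheaf (X ↘ (Spec (CommRingCat.of k)))))
    (lam : Coh.HH Y G 1 →ₗ[K] K) (hlam : lam ≠ 0) (F : Y.Modules) (hF : Coh.IsQCoh F)
    (ψ : Coh.HH Y F 1 →ₗ[K] K) : ∃ φ : F ⟶ G, ∀ x,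
      ψ x = lam (Sheaf.H.map ((SheafOfModules.toSheaf Y.ringCatSheaf).map φ) 1 x) := by
  obtain ⟨hp, hs, hi, hd⟩ := id hX
  obtain ⟨hp', hs', hi', hd'⟩ := id hY
  have hN : IsNoetherian Y := CurvesB.CurveRR.isNoetherian_of_proper K Y
  have hN' : IsNoetherian X := CurvesB.CurveRR.isNoetherian_of_proper k X
  have hΩ : PicF.IsInvertible (Omega.sheaf (X ↘ (Spec (CommRingCat.of k)))) :=
    CurvesB.OmegaInv.isInvertible_omega _ hd
  have hΩq : Coh.IsQCoh (Omega.sheaf (X ↘ (Spec (CommRingCat.of k)))) :=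
    (VarietyA.CurveFin.isCoh_of_isInvertible hΩ).1
  obtain ⟨D⟩ := K703.Duality.nonempty_dualizing K Y hd'
  have hG : PicF.IsInvertible G := by
    have h1 : PicF.IsInvertible
      ((Scheme.Modules.pullback g).obj (Omega.sheaf (X ↘ (Spec (CommRingCat.of k))))) :=
      Fdesc.LocGen.isInvertible_pullback g hΩ
    intro y
    obtain ⟨U, hy, ⟨i⟩⟩ := h1 y
    exact ⟨U, hy, ⟨(Scheme.Modules.restrictFunctor U.ι).mapIso e ≪≫ i⟩⟩
  have hGq : Coh.IsQCoh G := (VarietyA.CurveFin.isCoh_of_isInvertible hG).1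
  obtain ⟨φ₀, hφ₀, -⟩ := D.isPair G hGq lam
  have hne : φ₀ ≠ 0 := by
    rintro rfl
    apply hlam
    ext x
    rw [hφ₀]
    have h1 : Sheaf.H.map ((SheafOfModules.toSheaf Y.ringCatSheaf).map (0 : G ⟶ D.w)) 1 x = 0 :=
      CohqB.HSeqMod.hmap_zero_apply 1 x
    rw [h1, map_zero]
    rfl
  have hiso : IsIso φ₀ := by
    refine (S1521.result K Y hd' G D.w hG D.inv φ₀ hne).2 ?_
    have hE : ∀ i, Module.finrank K (Coh.HH Y G i) =
        Module.finrank k (Coh.HH X (Omega.sheaf (X ↘ (Spec (CommRingCat.of k)))) i) := by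
      intro i
      rw [← finrank_bc k K g h _ hΩq i]
      exact (PerfB.FiberBC.isoOver K e i).finrank_eq
    have hO : ∀ i, Module.finrank K (Coh.HH Y (Coh.structureModule Y) i) =
        Module.finrank k (Coh.HH X (Coh.structureModule X) i) := S0223.finrank_eq k X K Y g h
    obtain ⟨s0, s1⟩ := CurvesB.SmoothCurveSerre.serre_duality k X hX
    rw [CurvesB.CurveRR.deg_eq K Y hd'.le, CurvesB.CurveRR.deg_eq K Y hd'.le, hE, hE, D.h0_w, D.h1_w, s0, s1,
      Curv2.genus, hO, hO]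
  obtain ⟨φ, hφ, -⟩ := D.isPair F hF ψ
  refine ⟨φ ≫ inv φ₀, fun x => ?_⟩
  rw [hφ, hφ₀]
  have h1 := CohqB.HSeqMod.hmap_comp_apply φ (inv φ₀) 1 x
  have h2 := CohqB.HSeqMod.hmap_comp_apply (inv φ₀) φ₀ 1 (CohqB.HSeqMod.hmap φ 1 x)
  rw [IsIso.inv_hom_id, CohqB.HSeqMod.hmap_id_apply] at h2
  refine congrArg D.t' ?_
  refine h2.trans ?_
  rw [← h1]
  rfl

end K707.DualBC
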