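import Groth.Agent.VBCurve.K707.RestrBasis
import Groth.Agent.Krr.H495.Rank
import Mathlib.CategoryTheory.Subobject.Lattice

/-!
# Filtrations by line bundles (helper707)

* `Fl r E`: `E` is built from `0` by `r` extensions with quotients of rank one;
* `exists_flag`: then `E` has a chain of subobjects as in S15467.
-/

set_option autoImplicit false
universe u

open CategoryTheory CategoryTheory.Limits AlgebraicGeometry Opposite TopologicalSpace
open scoped TensorProduct

namespace K707.Flag

open Groth.Agent.Sga67.Sec Groth.Agent.Sga67.LocBasis Groth.Agent.Krr.H495.Rank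
open K707.IndepCoker

variable {X : Scheme.{u}}

/-- `E` is built from `0` by `r` extensions with quotients of rank one. -/
def Fl : ℕ → X.Modules → Prop
  | 0, E => IsZero E
  | r + 1, E => ∃ (A : X.Modules) (i : A ⟶ E), Mono i ∧ Fl r A ∧ FlatMod.IsFinLocFreeOfRank 1 (cokernel i)

theorem cokernel_shortExact {A E : X.Modules} (i : A ⟶ E) [Mono i] :
    (ShortComplex.mk i (cokernel.π i) (cokernel.condition i)).ShortExact where
  exact := ShortComplex.exact_cokernel i

theorem rank_zero_of_isZero {E : X.Modules} (h : IsZero E) : FlatMod.IsFinLocFreeOfRank 0 E := by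
  rw [isFinLocFreeOfRank_iff']
  intro x
  refine ⟨⊤, trivial, Fin.elim0, ?_⟩
  intro V hV
  have hs : ∀ s : Sec E V, s = 0 := fun s => by
    have h1 : (𝟙 E : E ⟶ E) = 0 := h.eq_of_src _ _
    have h2 : appS (𝟙 E) V s = appS (0 : E ⟶ E) V s := by rw [h1]
    rw [appS_id, appS_zero] at h2
    exact h2
  refine ⟨fun a b _ => Subsingleton.elim a b, fun s => ⟨0, ?_⟩⟩
  rw [map_zero, hs s]

theorem Fl.rank {r : ℕ} {E : X.Modules} (h : Fl r E) : FlatMod.IsFinLocFreeOfRank r E := by
  induction r generalizing E with
  | zero => exact rank_zero_of_isZero h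
  | succ r ih =>
    obtain ⟨A, i, hi, hA, hc⟩ := h
    exact rank_shortExact (cokernel_shortExact i) (ih hA) hc

theorem Fl.iso {r : ℕ} {E E' : X.Modules} (h : Fl r E) (e : E ≅ E') : Fl r E' := by
  cases r with
  | zero => exact IsZero.of_iso h e.symm
  | succ r =>
    obtain ⟨A, i, hi, hA, hc⟩ := h
    refine ⟨A, i ≫ e.hom, mono_comp _ _, hA, rank_iso ?_ hc⟩
    exact cokernel.mapIso i (i ≫ e.hom) (Iso.refl _) e (by simp)

/-- Exact functors preserving rank one modules preserve `Fl`. -/
theorem Fl.map {r : ℕ} {E : X.Modules} (h : Fl r E) (F : X.Modules ⥤ X.Modules) [F.PreservesZeroMorphisms]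
    [PreservesFiniteLimits F] [PreservesFiniteColimits F]
    (hF : ∀ M : X.Modules, FlatMod.IsFinLocFreeOfRank 1 M → FlatMod.IsFinLocFreeOfRank 1 (F.obj M)) :
    Fl r (F.obj E) := by
  induction r generalizing E with
  | zero => exact F.map_isZero h
  | succ r ih =>
    obtain ⟨A, i, hi, hA, hc⟩ := h
    refine ⟨F.obj A, F.map i, inferInstance, ih hA, rank_iso ?_ (hF _ hc)⟩
    exact PreservesCokernel.iso F i

/-- The free module. -/
theorem fl_free (r : ℕ) : Fl r (FlatMod.freeMod X r) := by
  induction r with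
  | zero =>
    have h : FlatMod.IsFinLocFreeOfRank 0 (FlatMod.freeMod X 0) := by
      rw [isFinLocFreeOfRank_iff']
      exact fun x => ⟨⊤, trivial, _, free_isLocBasis X 0⟩
    exact isZero_of_rank_zero h
  | succ r ih =>
    let w : Fin r → Sec (FlatMod.freeMod X (r + 1)) ⊤ := fun i => freeBasis X (r + 1) i.castSucc
    have hw : PartBasis 1 w := by
      intro x
      refine ⟨⊤, fun _ => freeBasis X (r + 1) (Fin.last r), trivial, ?_⟩
      have h1 := (free_isLocBasis X (r + 1)).reindex (finSumFinEquiv (m := r) (n := 1))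
      have h2 : (fun i => freeBasis X (r + 1) (finSumFinEquiv (m := r) (n := 1) i)) =
          Sum.elim (fun i => res (FlatMod.freeMod X (r + 1)) (le_top : (⊤ : X.Opens) ≤ ⊤) (w i))
            (fun _ => freeBasis X (r + 1) (Fin.last r)) := by
        funext i
        rcases i with i | i
        · rw [Sum.elim_inl, res_self]
          rfl
        · obtain rfl : i = 0 := Subsingleton.elim _ _
          rfl
      rw [h2] at h1
      exact h1
    exact ⟨_, homOfFam w, mono_homOfFam hw, ih, rank_cokernel hw⟩

/-- The chain of subobjects. -/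
theorem exists_flag {r : ℕ} {E : X.Modules} (h : Fl r E) :
    ∃ F : Fin (r + 1) → Subobject E,
      Monotone F ∧ F 0 = ⊥ ∧ F (Fin.last r) = ⊤ ∧
      (∀ i : Fin (r + 1), FlatMod.IsFinLocFreeOfRank (i : ℕ) (Subobject.underlying.obj (F i))) ∧
      (∀ i : Fin r, ∃ h : F i.castSucc ≤ F i.succ,
        FlatMod.IsFinLocFreeOfRank 1 (cokernel ((F i.castSucc).ofLE (F i.succ) h))) := by
  induction r generalizing E with
  | zero =>
    have hbt : (⊤ : Subobject E) = ⊥ := by
      rw [eq_bot_iff]
      exact Subobject.le_of_comm 0 ((IsZero.of_iso (show IsZero E from h) (asIso (⊤ : Subobject E).arrow)).eq_of_src _ _)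
    refine ⟨fun _ => ⊤, fun _ _ _ => le_rfl, hbt, rfl, fun i => ?_, fun i => i.elim0⟩
    obtain rfl : i = 0 := Fin.ext (by omega)
    exact rank_iso (Subobject.underlyingIso (𝟙 E)).symm (rank_zero_of_isZero h)
  | succ r ih =>
    have hE := h.rank
    obtain ⟨A, f, hf, hA, hc⟩ := h
    obtain ⟨F, hmono, h0, hl, hr, hs⟩ := ih hA
    let F' : Fin (r + 2) → Subobject E :=
      Fin.snoc (fun i : Fin (r + 1) => Subobject.mk ((F i).arrow ≫ f)) ⊤
    have hF'c : ∀ i : Fin (r + 1), F' i.castSucc = Subobject.mk ((F i).arrow ≫ f) := fun i => Fin.snoc_castSucc _ _ _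
    have hF'l : F' (Fin.last (r + 1)) = ⊤ := Fin.snoc_last _ _
    have hle : ∀ {i j : Fin (r + 1)}, i ≤ j → Subobject.mk ((F i).arrow ≫ f) ≤ Subobject.mk ((F j).arrow ≫ f) := by
      intro i j hij
      refine Subobject.mk_le_mk_of_comm (Subobject.ofLE _ _ (hmono hij)) ?_
      rw [← Category.assoc, Subobject.ofLE_arrow]
    refine ⟨F', ?_, ?_, hF'l, ?_, ?_⟩
    · intro i j hij
      induction j using Fin.lastCases with
      | last => rw [hF'l]; exact le_top
      | cast j =>
        induction i using Fin.lastCases with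
        | last =>
          exfalso
          have := Fin.castSucc_lt_last j
          exact absurd hij (not_le.mpr this)
        | cast i =>
          rw [hF'c, hF'c]
          exact hle (Fin.castSucc_le_castSucc_iff.mp hij)
    · have h1 : F' 0 = F' (Fin.castSucc 0) := rfl
      rw [h1, hF'c, h0]
      have h2 : (⊥ : Subobject A).arrow = 0 := Subobject.bot_arrow
      rw [eq_bot_iff]
      refine Subobject.mk_le_of_comm 0 ?_
      rw [h2, zero_comp, zero_comp]
    · intro i
      induction i using Fin.lastCases with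
      | last =>
        rw [hF'l]
        exact rank_iso (Subobject.underlyingIso (𝟙 E)).symm hE
      | cast i =>
        rw [hF'c]
        exact rank_iso (Subobject.underlyingIso _).symm (hr i)
    · have key : ∀ (P Q : Subobject E) (P' Q' : X.Modules) (a : P' ⟶ Q') (eP : (P : X.Modules) ≅ P')
          (eQ : (Q : X.Modules) ≅ Q') (b : Q' ⟶ E) (hle : P ≤ Q) (_ : eQ.hom ≫ b = Q.arrow)
          (_ : eP.hom ≫ a ≫ b = P.arrow) (_ : Mono b) (_ : FlatMod.IsFinLocFreeOfRank 1 (cokernel a)),
          FlatMod.IsFinLocFreeOfRank 1 (cokernel (P.ofLE Q hle)) := by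
        intro P Q P' Q' a eP eQ b hle h1 h2 hb hc
        refine rank_iso (cokernel.mapIso _ _ eP eQ ?_).symm hc
        rw [← cancel_mono b, Category.assoc, h1, Subobject.ofLE_arrow, Category.assoc, h2]
      intro i
      induction i using Fin.lastCases with
      | last =>
        have e1 : F' (Fin.last r).castSucc = Subobject.mk f := by
          rw [hF'c, hl]
          refine Subobject.mk_eq_mk_of_comm _ _ (asIso (⊤ : Subobject A).arrow) ?_
          rfl
        have e2 : F' (Fin.last r).succ = ⊤ := hF'l
        rw [e1, e2]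
        refine ⟨le_top, key _ _ A E f (Subobject.underlyingIso f) (asIso (⊤ : Subobject E).arrow) (𝟙 E) _ ?_ ?_
          inferInstance hc⟩
        · rw [asIso_hom, Category.comp_id]
        · rw [Category.comp_id, Subobject.underlyingIso_hom_comp_eq_mk]
      | cast i =>
        obtain ⟨h1, h2⟩ := hs i
        have e1 : F' i.castSucc.castSucc = _ := hF'c i.castSucc
        have e2 : F' i.castSucc.succ = Subobject.mk ((F i.succ).arrow ≫ f) := hF'c i.succ
        rw [e1, e2]
        refine ⟨hle (Fin.castSucc_lt_succ).le, key _ _ _ _ ((F i.castSucc).ofLE (F i.succ) h1)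
          (Subobject.underlyingIso _) (Subobject.underlyingIso _) ((F i.succ).arrow ≫ f) _ ?_ ?_
          (mono_comp _ _) h2⟩
        · rw [Subobject.underlyingIso_hom_comp_eq_mk]
        · rw [← Category.assoc (Subobject.ofLE _ _ h1), Subobject.ofLE_arrow, Subobject.underlyingIso_hom_comp_eq_mk]

end K707.Flag
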