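import Groth.Agent.Krr.H487.LocBasisPull
import Mathlib.LinearAlgebra.Matrix.NonsingularInverse
import Mathlib.LinearAlgebra.Basis.VectorSpace
import Mathlib.LinearAlgebra.Dimension.Constructions

/-!
# Linear independence of sections at a point (helper707)

* `Fib M x`, `ev M x hx`: the fibre of a module at `x` and the evaluation of sections;
* `exists_isLocBasis_near`: sections independent at `x`, as many as the rank, form a local basis near `x`;
* `exists_complement`: sections independent at `x` are part of a local basis near `x`;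
* `indep_of_isLocBasis`: parts of local bases are independent at each point.
-/

set_option autoImplicit false
universe u

open CategoryTheory CategoryTheory.Limits AlgebraicGeometry Opposite TopologicalSpace
open scoped TensorProduct

namespace K707.Indep

open Groth.Agent.Sga67.Sec Groth.Agent.Sga67.LocBasis Groth.Agent.Sga67.LocBasisStalk
open Groth.Agent.Krr.H487.LocBasisPull

variable {X : Scheme.{u}}

/-- The residue field. -/
abbrev KK (X : Scheme.{u}) (x : X) : Type u := IsLocalRing.ResidueField (X.presheaf.stalk x)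

/-- The fibre of a module at a point. -/
abbrev Fib (M : X.Modules) (x : X) : Type u := KK X x ⊗[X.presheaf.stalk x] M.presheaf.stalk x

/-- The value of a germ in the fibre. -/
noncomputable def tev (M : X.Modules) (x : X) : M.presheaf.stalk x →ₗ[X.presheaf.stalk x] Fib M x :=
  TensorProduct.mk (X.presheaf.stalk x) (KK X x) (M.presheaf.stalk x) 1

/-- The value of a section in the fibre. -/
noncomputable def ev (M : X.Modules) {U : X.Opens} (x : X) (hx : x ∈ U) (s : Sec M U) : Fib M x :=
  tev M x (ger M x hx s)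

theorem ev_add (M : X.Modules) {U : X.Opens} (x : X) (hx : x ∈ U) (s t : Sec M U) :
    ev M x hx (s + t) = ev M x hx s + ev M x hx t := by
  rw [ev, ger_add, map_add]; rfl

theorem ev_zero (M : X.Modules) {U : X.Opens} (x : X) (hx : x ∈ U) :
    ev M x hx (0 : Sec M U) = 0 := by
  rw [ev, ger_zero, map_zero]

theorem ev_res (M : X.Modules) {U V : X.Opens} (h : V ≤ U) (x : X) (hx : x ∈ V) (s : Sec M U) :
    ev M x hx (res M h s) = ev M x (h hx) s := by
  rw [ev, ger_res]; rfl

theorem tev_smul (M : X.Modules) (x : X) (a : X.presheaf.stalk x) (t : M.presheaf.stalk x) :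
    tev M x (a • t) = IsLocalRing.residue _ a • tev M x t := by
  rw [map_smul]
  exact (algebraMap_smul (KK X x) a (tev M x t)).symm

/-- The value of a function. -/
noncomputable def evO {U : X.Opens} (x : X) (hx : x ∈ U) : Γ(X, U) →+* KK X x :=
  (IsLocalRing.residue _).comp (X.presheaf.germ U x hx).hom

theorem ev_smul (M : X.Modules) {U : X.Opens} (x : X) (hx : x ∈ U) (r : Γ(X, U)) (s : Sec M U) :
    ev M x hx (r • s) = evO x hx r • ev M x hx s := by
  rw [ev, ger_smul, tev_smul]; rfl

theorem ev_sum (M : X.Modules) {U : X.Opens} (x : X) (hx : x ∈ U) {κ : Type*} (S : Finset κ)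
    (s : κ → Sec M U) : ev M x hx (∑ k ∈ S, s k) = ∑ k ∈ S, ev M x hx (s k) := by
  rw [ev, ger_sum, map_sum]; rfl

theorem tev_surjective (M : X.Modules) (x : X) : Function.Surjective (tev M x) := by
  intro v
  induction v using TensorProduct.induction_on with
  | zero => exact ⟨0, map_zero _⟩
  | tmul a t =>
    obtain ⟨a, rfl⟩ := IsLocalRing.residue_surjective a
    refine ⟨a • t, ?_⟩
    rw [map_smul]
    change a • ((1 : KK X x) ⊗ₜ[X.presheaf.stalk x] t) = _
    rw [TensorProduct.smul_tmul', Algebra.smul_def, mul_one]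
    rfl
  | add v w hv hw =>
    obtain ⟨a, rfl⟩ := hv
    obtain ⟨b, rfl⟩ := hw
    exact ⟨a + b, map_add _ _ _⟩

/-- The values of a local basis form a basis of the fibre. -/
theorem exists_fibBasis {M : X.Modules} {U : X.Opens} {κ : Type*} [Fintype κ] {b : κ → Sec M U}
    (hb : IsLocBasis b) (x : X) (hx : x ∈ U) :
    ∃ β : Module.Basis κ (KK X x) (Fib M x), ∀ k, β k = ev M x hx (b k) := by
  obtain ⟨β, hβ⟩ := exists_stalkBasis hb x hx
  refine ⟨β.baseChange (KK X x), fun k => ?_⟩
  rw [Module.Basis.baseChange_apply, hβ]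
  rfl

theorem indep_of_isLocBasis {M : X.Modules} {U : X.Opens} {κ κ' : Type*} [Fintype κ] [Fintype κ'] {w : κ → Sec M U}
    {c : κ' → Sec M U} (hb : IsLocBasis (Sum.elim w c)) (x : X) (hx : x ∈ U) :
    LinearIndependent (KK X x) (fun i => ev M x hx (w i)) := by
  obtain ⟨β, hβ⟩ := exists_fibBasis hb x hx
  have h1 := β.linearIndependent.comp Sum.inl Sum.inl_injective
  have h2 : (β ∘ Sum.inl) = fun i => ev M x hx (w i) := by
    funext i
    exact hβ (Sum.inl i)
  rwa [h2] at h1

theorem resO_sum {U V : X.Opens} (h : V ≤ U) {κ : Type*} (S : Finset κ) (f : κ → Γ(X, U)) :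
    resO X h (∑ i ∈ S, f i) = ∑ i ∈ S, resO X h (f i) := map_sum _ _ _

/-- A local basis transformed by an invertible matrix (as in `Vancyc.H678.GenFam`). -/
theorem isLocBasis_matrix {M : X.Modules} {U : X.Opens} {κ : Type*} [Fintype κ] [DecidableEq κ]
    {b : κ → Sec M U} (hb : IsLocBasis b) (A B : Matrix κ κ Γ(X, U)) (hAB : A * B = 1)
    (hBA : B * A = 1) : IsLocBasis (fun j => ∑ l, A l j • b l) := by
  intro V h
  have key : ∀ a : κ → Γ(X, V), comb (fun j => ∑ l, A l j • b l) h a =
      comb b h ((A.map (resO X h)).mulVec a) := by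
    intro a
    rw [comb_apply, comb_apply]
    simp only [map_sum, res_smul, Finset.smul_sum, Matrix.mulVec, dotProduct, Matrix.map_apply,
      Finset.sum_smul, smul_smul]
    rw [Finset.sum_comm]
    refine Finset.sum_congr rfl fun l _ => Finset.sum_congr rfl fun j _ => ?_
    rw [mul_comm]
  have hm1 : (A.map (resO X h)) * (B.map (resO X h)) = 1 := by
    rw [← Matrix.map_mul, hAB, Matrix.map_one _ (map_zero _) (map_one _)]
  have hm2 : (B.map (resO X h)) * (A.map (resO X h)) = 1 := by
    rw [← Matrix.map_mul, hBA, Matrix.map_one _ (map_zero _) (map_one _)]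
  have hf : (comb (fun j => ∑ l, A l j • b l) h : (κ → Γ(X, V)) → Sec M V) =
      (comb b h) ∘ (A.map (resO X h)).mulVec := funext key
  rw [hf]
  refine (hb V h).comp ⟨?_, ?_⟩
  · intro x y hxy
    have h1 := congrArg (B.map (resO X h)).mulVec hxy
    rw [Matrix.mulVec_mulVec, Matrix.mulVec_mulVec, hm2, Matrix.one_mulVec, Matrix.one_mulVec] at h1
    exact h1
  · intro y
    exact ⟨(B.map (resO X h)).mulVec y, by rw [Matrix.mulVec_mulVec, hm1, Matrix.one_mulVec]⟩

/-- Sections independent at `x`, as many as the rank, form a local basis near `x`. -/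
theorem exists_isLocBasis_near {M : X.Modules} {U : X.Opens} {κ : Type*} [Fintype κ] {b : κ → Sec M U}
    (hb : IsLocBasis b) (c : κ → Sec M U) (x : X) (hx : x ∈ U)
    (hc : LinearIndependent (KK X x) (fun i => ev M x hx (c i))) :
    ∃ (V : X.Opens) (h : V ≤ U), x ∈ V ∧ IsLocBasis (fun i => res M h (c i)) := by
  classical
  obtain ⟨β, hβ⟩ := exists_fibBasis hb x hx
  let A : Matrix κ κ Γ(X, U) := fun l j => (hb.basis le_rfl).repr (c j) l
  have hA : ∀ j, c j = ∑ l, A l j • b l := by
    intro j
    have h1 := (hb.basis le_rfl).sum_repr (c j)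
    refine h1.symm.trans (Finset.sum_congr rfl fun l _ => ?_)
    rw [IsLocBasis.basis_apply, res_self]
  let φ : Γ(X, U) →+* KK X x := evO x hx
  have h1 : ∀ j, ev M x hx (c j) = ∑ l, (A.map φ) l j • β l := by
    intro j
    rw [hA j, ev_sum]
    refine Finset.sum_congr rfl fun l _ => ?_
    rw [ev_smul, hβ]
    rfl
  have h2 : LinearIndependent (KK X x) (A.map φ).col := by
    have h3 := hc.map' (β.equivFun : Fib M x →ₗ[KK X x] (κ → KK X x)) (LinearEquiv.ker _)
    have h4 : ((β.equivFun : Fib M x →ₗ[KK X x] (κ → KK X x)) ∘ fun i => ev M x hx (c i)) = (A.map φ).col := by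
      funext j
      funext l
      rw [Function.comp_apply, h1 j]
      simp only [LinearEquiv.coe_coe, map_sum, map_smul, Module.Basis.equivFun_self, Finset.sum_apply, Pi.smul_apply,
        smul_eq_mul, Matrix.col_apply]
      rw [Finset.sum_eq_single l]
      · simp
      · intro b _ hb
        simp [hb]
      · simp
    rwa [h4] at h3
  have h5 : IsUnit (A.map φ) := Matrix.linearIndependent_cols_iff_isUnit.mp h2
  have h6 : φ A.det ≠ 0 := by
    rw [RingHom.map_det]
    exact ((Matrix.isUnit_iff_isUnit_det _).mp h5).ne_zero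
  -- the open set where the determinant is a unit
  let V : X.Opens := X.basicOpen A.det
  have hVU : V ≤ U := X.basicOpen_le _
  have hxV : x ∈ V := by
    rw [Scheme.mem_basicOpen X A.det x hx]
    have h7 : IsUnit (IsLocalRing.residue _ ((X.presheaf.germ U x hx) A.det)) := by
      rw [isUnit_iff_ne_zero]
      exact h6
    exact (isUnit_map_iff (IsLocalRing.residue _) _).mp h7
  have hunit : IsUnit (resO X hVU A.det) := RingedSpace.isUnit_res_basicOpen _ A.det
  let A' : Matrix κ κ Γ(X, V) := A.map (resO X hVU)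
  have hA' : IsUnit A'.det := by
    have : A'.det = resO X hVU A.det := (RingHom.map_det (resO X hVU) A).symm
    rw [this]
    exact hunit
  refine ⟨V, hVU, hxV, ?_⟩
  have h8 := isLocBasis_matrix (hb.restrict hVU) A' A'⁻¹ (Matrix.mul_nonsing_inv _ hA')
    (Matrix.nonsing_inv_mul _ hA')
  have h9 : (fun i => res M hVU (c i)) = fun j => ∑ l, A' l j • res M hVU (b l) := by
    funext j
    rw [hA j, map_sum]
    refine Finset.sum_congr rfl fun l _ => ?_
    rw [res_smul]
    rfl
  rw [h9]
  exact h8

/-- Independent vectors are completed to a basis. -/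
theorem exists_compl_family {K V : Type*} [Field K] [AddCommGroup V] [Module K V] [Module.Finite K V] {r m : ℕ}
    (hr : Module.finrank K V = r) {v : Fin m → V} (hv : LinearIndependent K v) :
    ∃ u : Fin (r - m) → V, LinearIndependent K (Sum.elim v u) := by
  obtain ⟨N, hN⟩ := Submodule.exists_isCompl (Submodule.span K (Set.range v))
  have h1 : Module.finrank K N = r - m := by
    have h2 := Submodule.finrank_add_eq_of_isCompl hN
    rw [finrank_span_eq_card hv, Fintype.card_fin, hr] at h2
    omega
  let u := Module.finBasisOfFinrankEq K N h1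
  refine ⟨fun i => (u i : V), hv.sum_type (u.linearIndependent.map' N.subtype (Submodule.ker_subtype N)) ?_⟩
  refine hN.disjoint.mono_right ?_
  rw [Submodule.span_le]
  rintro _ ⟨i, rfl⟩
  exact (u i).2

/-- Sections independent at `x` are part of a local basis near `x`. -/
theorem exists_complement {M : X.Modules} {r : ℕ} {U : X.Opens} {b : Fin r → Sec M U} (hb : IsLocBasis b) {m : ℕ}
    (w : Fin m → Sec M U) (x : X) (hx : x ∈ U)
    (hw : LinearIndependent (KK X x) (fun i => ev M x hx (w i))) :
    m ≤ r ∧ ∃ (V : X.Opens) (h : V ≤ U) (c : Fin (r - m) → Sec M V), x ∈ V ∧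
      IsLocBasis (Sum.elim (fun i => res M h (w i)) c) := by
  classical
  obtain ⟨β, hβ⟩ := exists_fibBasis hb x hx
  have hr : Module.finrank (KK X x) (Fib M x) = r := by
    rw [Module.finrank_eq_card_basis β, Fintype.card_fin]
  have hfin : Module.Finite (KK X x) (Fib M x) := Module.Finite.of_basis β
  have hm : m ≤ r := by
    have := hw.fintype_card_le_finrank
    rwa [hr, Fintype.card_fin] at this
  refine ⟨hm, ?_⟩
  obtain ⟨γ, hγ⟩ := exists_compl_family hr hw
  -- lift the complementary vectors
  have hlift : ∀ j : Fin (r - m), ∃ (V : X.Opens) (hxV : x ∈ V) (s : Sec M V), ev M x hxV s = γ j := by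
    intro j
    obtain ⟨t, ht⟩ := tev_surjective M x (γ j)
    obtain ⟨V, hxV, s, rfl⟩ := exists_ger M x t
    exact ⟨V, hxV, s, ht⟩
  choose V hxV s hs using hlift
  obtain ⟨W, hxW, hWU, hWV⟩ : ∃ W : X.Opens, x ∈ W ∧ W ≤ U ∧ ∀ j, W ≤ V j :=
    ⟨⟨(U : Set X) ∩ ⋂ j, (V j : Set X), U.2.inter (isOpen_iInter_of_finite fun j => (V j).2)⟩,
      ⟨hx, Set.mem_iInter.mpr hxV⟩, fun y hy => hy.1, fun j y hy => Set.mem_iInter.mp hy.2 j⟩
  let c₀ : Fin (r - m) → Sec M W := fun j => res M (hWV j) (s j)
  have hsum : LinearIndependent (KK X x) (fun i => ev M x hxW (Sum.elim (fun i => res M hWU (w i)) c₀ i)) := by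
    have h2 : (Sum.elim (fun i => ev M x hx (w i)) γ) =
        fun i => ev M x hxW (Sum.elim (fun i => res M hWU (w i)) c₀ i) := by
      funext i
      rcases i with i | j
      · rw [Sum.elim_inl, Sum.elim_inl, ev_res]
      · rw [Sum.elim_inr, Sum.elim_inr, ev_res]
        exact (hs j).symm
    rwa [h2] at hγ
  have e' : (Fin m ⊕ Fin (r - m)) ≃ Fin r := finSumFinEquiv.trans (finCongr (by omega))
  obtain ⟨V', hV', hxV', hb'⟩ := exists_isLocBasis_near ((hb.restrict hWU).reindex e')
    (Sum.elim (fun i => res M hWU (w i)) c₀) x hxW hsum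
  refine ⟨V', hV'.trans hWU, fun j => res M hV' (c₀ j), hxV', ?_⟩
  have h3 : (fun i => res M hV' (Sum.elim (fun i => res M hWU (w i)) c₀ i)) =
      Sum.elim (fun i => res M (hV'.trans hWU) (w i)) (fun j => res M hV' (c₀ j)) := by
    funext i
    rcases i with i | j
    · rw [Sum.elim_inl, Sum.elim_inl, res_res]
    · rw [Sum.elim_inr, Sum.elim_inr]
  rwa [h3] at hb'

end K707.Indep
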