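import Groth.Agent.VBCurve.K707.Indep
import Groth.Agent.Sga67.LocBasisOps

/-!
# Maps `O^m → E` given by sections which are parts of local bases (helper707)

* `PartBasis n w`: the family `w : Fin m → Γ(E, ⊤)` is locally completed to a basis by `n` sections;
* `mono_homOfFam`, `rank_cokernel`: the map `O^m → E` is then mono with cokernel locally free of rank `n`.
-/

set_option autoImplicit false
universe u

open CategoryTheory CategoryTheory.Limits AlgebraicGeometry Opposite TopologicalSpace
open scoped TensorProduct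

namespace K707.IndepCoker

open Groth.Agent.Sga67.Sec Groth.Agent.Sga67.LocBasis Groth.Agent.Sga67.LocBasisStalk

variable {X : Scheme.{u}} {E : X.Modules} {n m : ℕ}

/-- The family `w` is locally part of a basis, completed by `n` sections. -/
def PartBasis (n : ℕ) {m : ℕ} (w : Fin m → Sec E ⊤) : Prop :=
  ∀ x : X, ∃ (U : X.Opens) (c : Fin n → Sec E U), x ∈ U ∧
    IsLocBasis (Sum.elim (fun i => res E le_top (w i)) c)

/-- The map `O^m → E` given by `m` global sections. -/
noncomputable def homOfFam (w : Fin m → Sec E ⊤) : FlatMod.freeMod X m ⟶ E :=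
  Sigma.desc (fun i => homUnit E (w i))

theorem homOfFam_comb (w : Fin m → Sec E ⊤) (V : X.Opens) (a : Fin m → Γ(X, V)) :
    appS (homOfFam w) V (comb (freeBasis X m) (le_top : V ≤ ⊤) a) = comb w (le_top : V ≤ ⊤) a := by
  rw [comb_apply, comb_apply, map_sum]
  refine Finset.sum_congr rfl fun i _ => ?_
  have h1 : Sigma.ι (fun _ : Fin m => Coh.structureModule X) i ≫ homOfFam w = homUnit E (w i) := by
    simp [homOfFam]
  rw [map_smul, freeBasis, appS_res, ← appS_comp, h1, homUnit_one, res_res]

theorem comb_congr_res (w : Fin m → Sec E ⊤) {U V : X.Opens} (h : V ≤ U) (a : Fin m → Γ(X, V)) :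
    comb (fun i => res E (le_top : U ≤ ⊤) (w i)) h a = comb w (le_top : V ≤ ⊤) a := by
  rw [comb_apply, comb_apply]
  refine Finset.sum_congr rfl fun i _ => ?_
  rw [res_res]

theorem mono_homOfFam {w : Fin m → Sec E ⊤} (hw : PartBasis n w) : Mono (homOfFam w) := by
  apply mono_of_locally_injective
  intro x U hx
  obtain ⟨V, c, hxV, hb⟩ := hw x
  refine ⟨U ⊓ V, inf_le_left, ⟨hx, hxV⟩, fun s hs => ?_⟩
  obtain ⟨a, rfl⟩ := (free_isLocBasis X m (U ⊓ V) le_top).2 s
  rw [homOfFam_comb, ← comb_congr_res w (inf_le_right : U ⊓ V ≤ V)] at hs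
  have h1 : comb (Sum.elim (fun i => res E le_top (w i)) c) (inf_le_right : U ⊓ V ≤ V) (Sum.elim a 0) = 0 := by
    rw [comb_sum, Sum.elim_comp_inl, Sum.elim_comp_inr, hs, map_zero, add_zero]
  have h2 := (hb (U ⊓ V) inf_le_right).1 (h1.trans (map_zero _).symm)
  have h3 : a = 0 := by
    funext i
    exact congrFun h2 (Sum.inl i)
  rw [h3, map_zero]

theorem isLocBasis_coker {w : Fin m → Sec E ⊤} [Mono (homOfFam w)] {U : X.Opens} {c : Fin n → Sec E U}
    (hb : IsLocBasis (Sum.elim (fun i => res E le_top (w i)) c)) :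
    IsLocBasis (fun j => appS (cokernel.π (homOfFam w)) U (c j)) := by
  have hex : (ShortComplex.mk (homOfFam w) (cokernel.π (homOfFam w)) (cokernel.condition _)).Exact :=
    ShortComplex.exact_cokernel _
  refine isLocBasis_of_locally' _ ?_ ?_
  · intro V h
    rw [← LinearMap.ker_eq_bot, LinearMap.ker_eq_bot']
    intro a ha
    rw [← appS_comb] at ha
    have : Mono (ShortComplex.mk (homOfFam w) (cokernel.π (homOfFam w)) (cokernel.condition _)).f :=
      inferInstanceAs (Mono (homOfFam w))
    obtain ⟨t, ht⟩ := exists_of_appS_eq_zero hex (comb c h a) ha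
    obtain ⟨d, rfl⟩ := (free_isLocBasis X m V le_top).2 t
    have ht' : appS (homOfFam w) V (comb (freeBasis X m) (le_top : V ≤ ⊤) d) = comb c h a := ht
    rw [homOfFam_comb, ← comb_congr_res w h] at ht'
    have h1 : comb (Sum.elim (fun i => res E le_top (w i)) c) h (Sum.elim d (-a)) = 0 := by
      rw [comb_sum, Sum.elim_comp_inl, Sum.elim_comp_inr, ht', map_neg, add_neg_cancel]
    have h2 := (hb V h).1 (h1.trans (map_zero _).symm)
    funext j
    have h3 := congrFun h2 (Sum.inr j)
    exact neg_eq_zero.mp h3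
  · intro V h s x hx
    obtain ⟨W, hWV, hxW, e, he⟩ := locally_surjective_of_epi (cokernel.π (homOfFam w)) s x hx
    obtain ⟨a, rfl⟩ := (hb W (hWV.trans h)).2 e
    refine ⟨W, hWV, hWV.trans h, hxW, a ∘ Sum.inr, ?_⟩
    rw [← he, comb_sum, map_add, ← appS_comb, comb_congr_res w, ← homOfFam_comb, ← appS_comp, cokernel.condition]
    rw [appS_zero, zero_add]

theorem rank_cokernel {w : Fin m → Sec E ⊤} (hw : PartBasis n w) :
    FlatMod.IsFinLocFreeOfRank n (cokernel (homOfFam w)) := by
  have := mono_homOfFam hw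
  simp only [FlatMod.IsFinLocFreeOfRank, nonempty_restrict_iso_iff]
  intro x
  obtain ⟨U, c, hxU, hb⟩ := hw x
  exact ⟨U, hxU, _, isLocBasis_coker hb⟩

end K707.IndepCoker
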