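import Mathlib.RingTheory.IsTensorProduct
import Mathlib.Algebra.Module.Projective
import Mathlib.RingTheory.Finiteness.Basic
import Mathlib.LinearAlgebra.Dual.Lemmas

/-!
# Base change of a perfect pairing `M × M → W` on a finite projective module (helper707)
-/

set_option autoImplicit false

namespace K707.PairAlg

variable {O O' : Type*} [CommRing O] [CommRing O'] [Algebra O O']
  {M M' W W' : Type*} [AddCommGroup M] [Module O M] [AddCommGroup W] [Module O W]
  [AddCommGroup M'] [Module O M'] [Module O' M'] [IsScalarTower O O' M']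
  [AddCommGroup W'] [Module O W'] [Module O' W'] [IsScalarTower O O' W']
  {i : M →ₗ[O] M'} (hi : IsBaseChange O' i) {j : W →ₗ[O] W'} (hj : IsBaseChange O' j)

/-- base change of a bilinear map -/
noncomputable def bcBil (j : W →ₗ[O] W') (b : M →ₗ[O] M →ₗ[O] W) : M' →ₗ[O'] M' →ₗ[O'] W' :=
  hi.lift
    { toFun := fun m => hi.lift (j.comp (b m))
      map_add' := fun m m' => by
        apply hi.algHom_ext
        intro x
        rw [hi.lift_eq, LinearMap.add_apply, hi.lift_eq, hi.lift_eq, map_add, LinearMap.comp_add,
          LinearMap.add_apply]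
      map_smul' := fun c m => by
        apply hi.algHom_ext
        intro x
        rw [hi.lift_eq, RingHom.id_apply, LinearMap.smul_apply, hi.lift_eq, map_smul, LinearMap.comp_smul,
          LinearMap.smul_apply] }

theorem bcBil_apply (j : W →ₗ[O] W') (b : M →ₗ[O] M →ₗ[O] W) (m m' : M) :
    bcBil hi j b (i m) (i m') = j (b m m') := by
  rw [bcBil, hi.lift_eq]
  change hi.lift (j.comp (b m)) (i m') = _
  rw [hi.lift_eq]
  rfl

include hi in
/-- Bilinear maps agreeing on the generators agree. -/
theorem bil_ext {V : Type*} [AddCommGroup V] [Module O' V] {b b' : M' →ₗ[O'] M' →ₗ[O'] V}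
    (h : ∀ m m', b (i m) (i m') = b' (i m) (i m')) : b = b' :=
  hi.algHom_ext _ _ fun m => hi.algHom_ext _ _ fun m' => h m m'

theorem bcBil_symm (j : W →ₗ[O] W') (b : M →ₗ[O] M →ₗ[O] W) (h : ∀ m m', b m m' = b m' m) (x y : M') :
    bcBil hi j b x y = bcBil hi j b y x := by
  have h1 : bcBil hi j b = (bcBil hi j b).flip := by
    refine bil_ext hi fun m m' => ?_
    rw [LinearMap.flip_apply, bcBil_apply, bcBil_apply, h]
  exact LinearMap.congr_fun₂ h1 x y

include hj in
theorem bcBil_bijective [Module.Finite O M] [Module.Projective O M] (b : M →ₗ[O] M →ₗ[O] W)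
    (hb : Function.Bijective b) : Function.Bijective (bcBil hi j b) := by
  -- a dual basis
  obtain ⟨n, q, hq⟩ := Module.Finite.exists_fin' O M
  obtain ⟨s, hs⟩ := Module.projective_lifting_property q LinearMap.id hq
  let mm : Fin n → M := fun l => q (Pi.single l 1)
  let f : Fin n → M →ₗ[O] O := fun l => (LinearMap.proj l).comp s
  have hdual : ∀ x, ∑ l, f l x • mm l = x := by
    intro x
    have h1 : q (s x) = x := LinearMap.congr_fun hs x
    conv_rhs => rw [← h1]
    have h2 : s x = ∑ l, s x l • Pi.single l (1 : O) := by
      funext l'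
      rw [Finset.sum_apply, Finset.sum_eq_single l']
      · simp
      · intro l _ hne
        simp [Pi.single_eq_of_ne hne.symm]
      · exact fun h => absurd (Finset.mem_univ _) h
    rw [h2, map_sum]
    exact Finset.sum_congr rfl fun l _ => by rw [map_smul]; rfl
  -- `g l w` represents `f l • w`
  let e := LinearEquiv.ofBijective b hb
  let g : Fin n → W →ₗ[O] M := fun l =>
    { toFun := fun w => e.symm ((LinearMap.toSpanSingleton O W w).comp (f l))
      map_add' := fun w w' => by
        rw [← map_add]
        congr 1
        ext x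
        simp
      map_smul' := fun c w => by
        rw [RingHom.id_apply, ← map_smul]
        congr 1
        ext x
        exact smul_comm _ _ _ }
  have hg : ∀ l w x, b (g l w) x = f l x • w := by
    intro l w x
    have h1 : e (g l w) = (LinearMap.toSpanSingleton O W w).comp (f l) := e.apply_symm_apply _
    have h2 := LinearMap.congr_fun h1 x
    exact h2
  have hgb : ∀ x, ∑ l, g l (b x (mm l)) = x := by
    intro x
    apply hb.injective
    ext y
    rw [map_sum, LinearMap.sum_apply]
    simp only [hg]
    conv_rhs => rw [← hdual y]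
    rw [map_sum]
    simp only [map_smul]
  -- base change
  let f' : Fin n → M' →ₗ[O'] O' := fun l => hi.lift ((Algebra.linearMap O O').comp (f l))
  have hf' : ∀ l m, f' l (i m) = algebraMap O O' (f l m) := fun l m => hi.lift_eq _ _
  let g' : Fin n → W' →ₗ[O'] M' := fun l => hj.lift (i.comp (g l))
  have hg' : ∀ l w, g' l (j w) = i (g l w) := fun l w => hj.lift_eq _ _
  have hdual' : ∀ x, ∑ l, f' l x • i (mm l) = x := by
    intro x
    have h1 : (∑ l, (f' l).smulRight (i (mm l)) : M' →ₗ[O'] M') = LinearMap.id := by
      apply hi.algHom_ext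
      intro m
      rw [LinearMap.sum_apply, LinearMap.id_apply]
      conv_rhs => rw [← hdual m]
      rw [map_sum]
      refine Finset.sum_congr rfl fun l _ => ?_
      rw [LinearMap.smulRight_apply, hf', algebraMap_smul, map_smul]
    have h2 := LinearMap.congr_fun h1 x
    rw [LinearMap.sum_apply] at h2
    exact h2
  have key : ∀ l (w : W') (y : M'), bcBil hi j b (g' l w) y = f' l y • w := by
    intro l w y
    have h1 : (bcBil hi j b).comp (g' l) = ((LinearMap.lsmul O' W').comp (f' l)).flip := by
      refine hj.algHom_ext _ _ fun w => hi.algHom_ext _ _ fun m => ?_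
      rw [LinearMap.comp_apply, hg', bcBil_apply, hg, LinearMap.flip_apply]
      change j (f l m • w) = f' l (i m) • j w
      rw [hf', algebraMap_smul, map_smul]
    exact LinearMap.congr_fun₂ h1 w y
  have hgb' : ∀ x, ∑ l, g' l (bcBil hi j b x (i (mm l))) = x := by
    intro x
    have h1 : (∑ l, (g' l).comp ((bcBil hi j b).flip (i (mm l))) : M' →ₗ[O'] M') = LinearMap.id := by
      apply hi.algHom_ext
      intro m
      rw [LinearMap.sum_apply, LinearMap.id_apply]
      conv_rhs => rw [← hgb m]
      rw [map_sum]
      refine Finset.sum_congr rfl fun l _ => ?_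
      rw [LinearMap.comp_apply, LinearMap.flip_apply, bcBil_apply, hg']
    have h2 := LinearMap.congr_fun h1 x
    rw [LinearMap.sum_apply] at h2
    exact h2
  constructor
  · rw [injective_iff_map_eq_zero]
    intro x hx
    rw [← hgb' x]
    refine Finset.sum_eq_zero fun l _ => ?_
    rw [hx, LinearMap.zero_apply, map_zero]
  · intro φ
    refine ⟨∑ l, g' l (φ (i (mm l))), ?_⟩
    ext y
    rw [map_sum, LinearMap.sum_apply]
    simp only [key]
    conv_rhs => rw [← hdual' y]
    rw [map_sum]
    simp only [map_smul]

end K707.PairAlg
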