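import Groth.Agent.VBCurve.K707.SkewAlg
import Mathlib.LinearAlgebra.Dual.Lemmas
import Mathlib.LinearAlgebra.FreeModule.Finite.Matrix
import Mathlib.RingTheory.LocalRing.ResidueField.Ideal

/-!
# Parity of the dimension of the kernel for skew-symmetric complexes: the local theorem (helper707)
-/

set_option autoImplicit false

open scoped TensorProduct
open Matrix

namespace K707.ParAlg

open K707.SkewAlg

/-- If `Q C` is skew-symmetric with `Q` injective, the kernel of `C` has the parity of the size. -/
theorem even_of_skew {L : Type*} [Field L] (h2 : (2 : L) ≠ 0) {e n : ℕ} (Q : Matrix (Fin e) (Fin n) L)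
    (C : Matrix (Fin n) (Fin e) L) (hQ : ∀ v, Q *ᵥ v = 0 → v = 0) (h : (Q * C)ᵀ = -(Q * C)) :
    Even (e - Module.finrank L (LinearMap.ker C.toLin')) ∧ Module.finrank L (LinearMap.ker C.toLin') ≤ e := by
  let b : (Fin e → L) →ₗ[L] (Fin e → L) →ₗ[L] L := Matrix.toLinearMap₂' L (Q * C)
  have hb : ∀ v w, b v w = v ⬝ᵥ (Q * C) *ᵥ w := fun v w => Matrix.toLinearMap₂'_apply' _ _ _
  have hskew : ∀ v w, b v w = - b w v := by
    intro v w
    rw [hb, hb, Matrix.dotProduct_mulVec, ← Matrix.mulVec_transpose, h, Matrix.neg_mulVec, neg_dotProduct,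
      dotProduct_comm]
  have h1 := even_rank h2 b hskew
  have hker : LinearMap.ker b = LinearMap.ker C.toLin' := by
    ext v
    rw [LinearMap.mem_ker, LinearMap.mem_ker, Matrix.toLin'_apply]
    constructor
    · intro hv
      have h3 : (Q * C) *ᵥ v = 0 := by
        funext i
        have h4 : b (Pi.single i 1) v = 0 := by rw [hskew, hv, LinearMap.zero_apply, neg_zero]
        rw [hb, single_one_dotProduct] at h4
        exact h4
      rw [← Matrix.mulVec_mulVec] at h3
      exact hQ _ h3
    · intro hv
      ext w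
      rw [LinearMap.comp_apply, LinearMap.zero_comp, LinearMap.zero_apply, hskew, hb, ← Matrix.mulVec_mulVec, hv,
        Matrix.mulVec_zero, dotProduct_zero, neg_zero]
  have h3 := LinearMap.finrank_range_add_finrank_ker b
  rw [hker, Module.finrank_fin_fun] at h3
  have h4 : e - Module.finrank L (LinearMap.ker C.toLin') = Module.finrank L (LinearMap.range b) := by omega
  exact ⟨by rw [h4]; exact h1, by omega⟩

/-- A matrix over a local ring which is injective over the residue field is injective over every field. -/
theorem injective_of_residue {R : Type*} [CommRing R] [IsLocalRing R] {e n : ℕ} (Q : Matrix (Fin e) (Fin n) R)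
    (hQ : ∀ v, Q.map (algebraMap R (IsLocalRing.ResidueField R)) *ᵥ v = 0 → v = 0) {L : Type*} [Field L]
    [Algebra R L] (v : Fin n → L) (hv : Q.map (algebraMap R L) *ᵥ v = 0) : v = 0 := by
  set K := IsLocalRing.ResidueField R
  have hloc : IsLocalHom (algebraMap R K) := inferInstanceAs (IsLocalHom (IsLocalRing.residue R))
  obtain ⟨g, hg⟩ := LinearMap.exists_leftInverse_of_injective (Q.map (algebraMap R K)).toLin' (by
    rw [LinearMap.ker_eq_bot']
    exact fun v hv => hQ v (by rw [← Matrix.toLin'_apply]; exact hv))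
  have h1 : (LinearMap.toMatrix' g) * (Q.map (algebraMap R K)) = 1 := by
    apply Matrix.toLin'.injective
    rw [Matrix.toLin'_mul, Matrix.toLin'_toMatrix', hg, Matrix.toLin'_one]
  obtain ⟨Q', hQ'⟩ : ∃ Q' : Matrix (Fin n) (Fin e) R, Q'.map (algebraMap R K) = LinearMap.toMatrix' g := by
    choose f hf using fun i j => IsLocalRing.residue_surjective (LinearMap.toMatrix' g i j)
    exact ⟨Matrix.of f, by ext i j; exact hf i j⟩
  have h2 : IsUnit (Q' * Q).det := by
    rw [← isUnit_map_iff (algebraMap R K), RingHom.map_det, RingHom.mapMatrix_apply, Matrix.map_mul, hQ', h1,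
      Matrix.det_one]
    exact isUnit_one
  have h3 : IsUnit ((Q'.map (algebraMap R L)) * (Q.map (algebraMap R L))).det := by
    have := h2.map (algebraMap R L)
    rwa [RingHom.map_det, RingHom.mapMatrix_apply, Matrix.map_mul] at this
  by_contra hne
  refine h3.ne_zero (Matrix.exists_mulVec_eq_zero_iff.mp ⟨v, hne, ?_⟩)
  rw [← Matrix.mulVec_mulVec, hv, Matrix.mulVec_zero]

variable {R : Type*} [CommRing R] {M N : Type*} [AddCommGroup M] [Module R M] [AddCommGroup N] [Module R N]

/-- The kernel of `dA` in coordinates. -/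
theorem finrank_ker {A : Type*} [Field A] {MA NA : Type*} [AddCommGroup MA] [Module A MA] [AddCommGroup NA]
    [Module A NA] (dA : MA →ₗ[A] NA) {n e : ℕ} (y : Fin n → NA) (m : Fin e → MA) (c : Fin e → Fin n → A)
    (θ : (Fin e → A) →ₗ[A] MA × (Fin n → A))
    (hθ : ∀ v, θ v = (∑ i, v i • m i, fun j => ∑ i, v i * c i j)) (hinj : Function.Injective θ)
    (h : ∀ z, (∃ v, θ v = z) ↔ Phi dA y z = 0) :
    Module.finrank A (LinearMap.ker dA) =
      Module.finrank A (LinearMap.ker (Matrix.of c)ᵀ.toLin') := by
  have hC : ∀ v, (Matrix.of c)ᵀ.toLin' v = (θ v).2 := by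
    intro v
    rw [Matrix.toLin'_apply, hθ]
    funext j
    simp only [Matrix.mulVec, dotProduct, Matrix.transpose_apply, Matrix.of_apply]
    exact Finset.sum_congr rfl fun i _ => mul_comm _ _
  symm
  refine LinearEquiv.finrank_eq (LinearEquiv.ofBijective
    (((LinearMap.fst A MA (Fin n → A)).comp θ).restrict (p := LinearMap.ker (Matrix.of c)ᵀ.toLin')
      (q := LinearMap.ker dA) ?_) ⟨?_, ?_⟩)
  · intro v hv
    rw [LinearMap.mem_ker, hC] at hv
    have h1 := (h (θ v)).mp ⟨v, rfl⟩
    rw [Phi_apply, hv] at h1
    rw [LinearMap.mem_ker]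
    simp only [Pi.zero_apply, zero_smul, Finset.sum_const_zero, add_zero] at h1
    exact h1
  · intro v w hvw
    have h1 : (θ v).1 = (θ w).1 := congrArg Subtype.val hvw
    have h2 : (θ v).2 = (θ w).2 := by
      rw [← hC, ← hC, LinearMap.mem_ker.mp v.2, LinearMap.mem_ker.mp w.2]
    exact Subtype.ext (hinj (Prod.ext h1 h2))
  · intro x
    have h1 : Phi dA y ((x : MA), 0) = 0 := by
      rw [Phi_apply]
      simp only [Pi.zero_apply, zero_smul, Finset.sum_const_zero, add_zero]
      exact LinearMap.mem_ker.mp x.2
    obtain ⟨v, hv⟩ := (h _).mpr h1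
    refine ⟨⟨v, ?_⟩, Subtype.ext ?_⟩
    · rw [LinearMap.mem_ker, hC, hv]
    · exact congrArg Prod.fst hv

theorem flat_prod [Module.Flat R M] [Module.Flat R N] : Module.Flat R (M × N) := by
  rw [Module.Flat.iff_lTensor_preserves_injective_linearMap]
  intro Q Q' _ _ _ _ L hL
  rw [injective_iff_map_eq_zero]
  intro x hx
  have nat1 : ∀ z : (M × N) ⊗[R] Q, L.lTensor M ((LinearMap.fst R M N).rTensor Q z) =
      (LinearMap.fst R M N).rTensor Q' (L.lTensor (M × N) z) := by
    intro z
    induction z with
    | zero => simp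
    | add a b ha hb => simp only [map_add, ha, hb]
    | tmul a b => simp
  have nat2 : ∀ z : (M × N) ⊗[R] Q, L.lTensor N ((LinearMap.snd R M N).rTensor Q z) =
      (LinearMap.snd R M N).rTensor Q' (L.lTensor (M × N) z) := by
    intro z
    induction z with
    | zero => simp
    | add a b ha hb => simp only [map_add, ha, hb]
    | tmul a b => simp
  have dec : ∀ z : (M × N) ⊗[R] Q, z = (LinearMap.inl R M N).rTensor Q ((LinearMap.fst R M N).rTensor Q z) +
      (LinearMap.inr R M N).rTensor Q ((LinearMap.snd R M N).rTensor Q z) := by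
    intro z
    induction z with
    | zero => simp
    | add a b ha hb => rw [map_add, map_add, map_add, map_add, add_add_add_comm, ← ha, ← hb]
    | tmul a b =>
      simp only [LinearMap.rTensor_tmul, ← TensorProduct.add_tmul]
      congr 1
      simp
  have h1 : (LinearMap.fst R M N).rTensor Q x = 0 := by
    apply Module.Flat.lTensor_preserves_injective_linearMap (M := M) L hL
    rw [nat1, hx, map_zero, map_zero]
  have h2 : (LinearMap.snd R M N).rTensor Q x = 0 := by
    apply Module.Flat.lTensor_preserves_injective_linearMap (M := N) L hL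
    rw [nat2, hx, map_zero, map_zero]
  rw [dec x, h1, h2, map_zero, map_zero, add_zero]

section nak

variable [IsLocalRing R]

/-- Nakayama, in terms of a base change to the residue field. -/
theorem subsingleton_of {NK : Type*} [AddCommGroup NK] [Module (IsLocalRing.ResidueField R) NK] [Module R NK]
    [IsScalarTower R (IsLocalRing.ResidueField R) NK] {q : N →ₗ[R] NK}
    (hq : IsBaseChange (IsLocalRing.ResidueField R) q) {C : Type*} [AddCommGroup C] [Module R C] [Module.Finite R C]
    (f : N →ₗ[R] C) (hf : Function.Surjective f) (h : ∀ n, ∃ n', q n = q n' ∧ f n' = 0) : Subsingleton C := by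
  rw [← IsLocalRing.subsingleton_tensorProduct (R := R)]
  refine ⟨fun x y => ?_⟩
  have key : ∀ z : IsLocalRing.ResidueField R ⊗[R] C, z = 0 := by
    intro z
    induction z with
    | zero => rfl
    | add a b ha hb => rw [ha, hb, add_zero]
    | tmul a c =>
      obtain ⟨n, rfl⟩ := hf c
      obtain ⟨n', hn, hn'⟩ := h n
      have h1 : (1 : IsLocalRing.ResidueField R) ⊗ₜ[R] n = (1 : IsLocalRing.ResidueField R) ⊗ₜ[R] n' := by
        apply hq.equiv.injective
        rw [IsBaseChange.equiv_tmul, IsBaseChange.equiv_tmul, hn]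
      have h3 : (1 : IsLocalRing.ResidueField R) ⊗ₜ[R] f n = 0 := by
        have h4 := congrArg (f.lTensor (IsLocalRing.ResidueField R)) h1
        rw [LinearMap.lTensor_tmul, LinearMap.lTensor_tmul, hn', TensorProduct.tmul_zero] at h4
        exact h4
      have h5 : a ⊗ₜ[R] f n = a • ((1 : IsLocalRing.ResidueField R) ⊗ₜ[R] f n) := by
        rw [TensorProduct.smul_tmul', smul_eq_mul, mul_one]
      rw [h5, h3, smul_zero]
  rw [key x, key y]

end nak

section main

variable [IsLocalRing R] [IsNoetherianRing R] [Module.Flat R M] [Module.Flat R N]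

/-- **Parity of the dimension of the kernel under specialization**, for a skew-symmetric complex with finite
cohomology which is nondegenerate at the closed point. -/
theorem local_parity (d : M →ₗ[R] N) (hker : Module.Finite R (LinearMap.ker d))
    (hcok : Module.Finite R (N ⧸ LinearMap.range d))
    (P : M →ₗ[R] N →ₗ[R] R) (hP : ∀ m m', P m (d m') = - P m' (d m))
    {MK NK : Type*} [AddCommGroup MK] [Module (IsLocalRing.ResidueField R) MK] [Module R MK]
    [IsScalarTower R (IsLocalRing.ResidueField R) MK] [AddCommGroup NK] [Module (IsLocalRing.ResidueField R) NK]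
    [Module R NK] [IsScalarTower R (IsLocalRing.ResidueField R) NK]
    {p : M →ₗ[R] MK} (hp : IsBaseChange (IsLocalRing.ResidueField R) p)
    {q : N →ₗ[R] NK} (hq : IsBaseChange (IsLocalRing.ResidueField R) q)
    (dK : MK →ₗ[IsLocalRing.ResidueField R] NK) (hd : ∀ x, dK (p x) = q (d x))
    (PK : MK →ₗ[IsLocalRing.ResidueField R] NK →ₗ[IsLocalRing.ResidueField R] IsLocalRing.ResidueField R)
    (hPK : ∀ m n, PK (p m) (q n) = algebraMap R (IsLocalRing.ResidueField R) (P m n))
    (h2 : ∀ y, (∀ w, dK w = 0 → PK w y = 0) → ∃ m, dK m = y)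
    {L : Type*} [Field L] [Algebra R L] (hL : (2 : L) ≠ 0)
    {ML NL : Type*} [AddCommGroup ML] [Module L ML] [Module R ML]
    [IsScalarTower R L ML] [AddCommGroup NL] [Module L NL]
    [Module R NL] [IsScalarTower R L NL]
    {pL : M →ₗ[R] ML} (hpL : IsBaseChange L pL) {qL : N →ₗ[R] NL} (hqL : IsBaseChange L qL)
    (dL : ML →ₗ[L] NL) (hdL : ∀ x, dL (pL x) = qL (d x)) :
    Even (Module.finrank (IsLocalRing.ResidueField R) (LinearMap.ker dK) - Module.finrank L (LinearMap.ker dL)) ∧
      Module.finrank L (LinearMap.ker dL) ≤ Module.finrank (IsLocalRing.ResidueField R) (LinearMap.ker dK) := by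
  set K := IsLocalRing.ResidueField R with hKdef
  have hsurjK : Function.Surjective (algebraMap R K) := IsLocalRing.residue_surjective
  have hps : Function.Surjective p := by
    intro x
    obtain ⟨t, rfl⟩ := hp.equiv.surjective x
    obtain ⟨m, rfl⟩ := TensorProduct.mk_surjective R M K hsurjK t
    exact ⟨m, (hp.equiv_tmul _ _).symm ▸ by simp⟩
  have hqs : Function.Surjective q := by
    intro x
    obtain ⟨t, rfl⟩ := hq.equiv.surjective x
    obtain ⟨m, rfl⟩ := TensorProduct.mk_surjective R N K hsurjK t
    exact ⟨m, (hq.equiv_tmul _ _).symm ▸ by simp⟩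
  -- `H^1` at the closed point
  let H := NK ⧸ LinearMap.range dK
  have hHfin : Module.Finite K H := by
    have hle : LinearMap.range d ≤ LinearMap.ker (((LinearMap.range dK).mkQ.restrictScalars R).comp q) := by
      rintro _ ⟨x, rfl⟩
      rw [LinearMap.mem_ker, LinearMap.comp_apply, ← hd]
      exact (Submodule.Quotient.mk_eq_zero _).mpr ⟨_, rfl⟩
    have h3 : Module.Finite R H := Module.Finite.of_surjective
      ((LinearMap.range d).liftQ (((LinearMap.range dK).mkQ.restrictScalars R).comp q) hle) (by
        intro x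
        obtain ⟨y, rfl⟩ := Submodule.mkQ_surjective _ x
        obtain ⟨n, rfl⟩ := hqs y
        exact ⟨Submodule.Quotient.mk n, rfl⟩)
    exact Module.Finite.of_restrictScalars_finite R K H
  let bH := Module.finBasis K H
  let π : NK →ₗ[K] H := (LinearMap.range dK).mkQ
  have hπ : ∀ z, π z = 0 ↔ ∃ m, dK m = z := fun z => by
    rw [Submodule.mkQ_apply, Submodule.Quotient.mk_eq_zero]
    rfl
  have hrep : ∀ j, ∃ y : N, π (q y) = bH j := by
    intro j
    obtain ⟨z, hz⟩ := Submodule.mkQ_surjective _ (bH j)
    obtain ⟨y, rfl⟩ := hqs z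
    exact ⟨y, hz⟩
  choose y hy using hrep
  -- `Φ` is surjective
  have hΦ : Function.Surjective (Phi d y) := by
    rw [← LinearMap.range_eq_top, ← Submodule.Quotient.subsingleton_iff]
    have hfin : Module.Finite R (N ⧸ LinearMap.range (Phi d y)) := by
      have hle : LinearMap.range d ≤ LinearMap.range (Phi d y) := by
        rintro _ ⟨x, rfl⟩
        exact ⟨(x, 0), by rw [Phi_apply]; simp⟩
      exact Module.Finite.of_surjective (Submodule.factor hle) (Submodule.factor_surjective hle)
    refine subsingleton_of hq (LinearMap.range (Phi d y)).mkQ (Submodule.mkQ_surjective _) fun x => ?_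
    choose a ha using fun j => hsurjK (bH.repr (π (q x)) j)
    have h4 : π (q x - ∑ j, a j • q (y j)) = 0 := by
      rw [map_sub, map_sum, sub_eq_zero]
      conv_lhs => rw [← bH.sum_repr (π (q x))]
      refine Finset.sum_congr rfl fun j _ => ?_
      rw [← ha, ← hy, algebraMap_smul]
      exact ((π.restrictScalars R).map_smul (a j) (q (y j))).symm
    obtain ⟨w, hw⟩ := (hπ _).mp h4
    obtain ⟨m, rfl⟩ := hps w
    refine ⟨Phi d y (m, a), ?_, ?_⟩
    · rw [Phi_apply, map_add, ← hd, hw, map_sum]
      simp only [map_smul]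
      abel
    · rw [Submodule.mkQ_apply, Submodule.Quotient.mk_eq_zero]
      exact ⟨_, rfl⟩
  -- `E = ker Φ` is free of finite rank
  have hprod : Module.Flat R (M × (Fin (Module.finrank K H) → R)) := flat_prod
  have hEflat : Module.Flat R (LinearMap.ker (Phi d y)) := flat_ker _ hΦ
  have hEfin : Module.Finite R (LinearMap.ker (Phi d y)) := by
    let π2 : LinearMap.ker (Phi d y) →ₗ[R] (Fin (Module.finrank K H) → R) :=
      (LinearMap.snd R M _).comp (LinearMap.ker (Phi d y)).subtype
    have h3 : Module.Finite R (LinearMap.ker π2) := by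
      let j : LinearMap.ker d →ₗ[R] LinearMap.ker π2 :=
        LinearMap.codRestrict _ (LinearMap.codRestrict _ ((LinearMap.inl R M _).comp (LinearMap.ker d).subtype)
          (fun x => by
            rw [LinearMap.mem_ker, Phi_apply]
            have := LinearMap.mem_ker.mp x.2
            simp [this])) (fun x => by
            rw [LinearMap.mem_ker]
            rfl)
      refine Module.Finite.of_surjective j ?_
      rintro ⟨⟨⟨m, c⟩, hx⟩, hc⟩
      have hc' : c = 0 := hc
      subst hc'
      refine ⟨⟨m, ?_⟩, rfl⟩
      rw [LinearMap.mem_ker, Phi_apply] at hx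
      simpa using hx
    have h4 : Module.Finite R (LinearMap.ker (Phi d y) ⧸ LinearMap.ker π2) :=
      Module.Finite.equiv π2.quotKerEquivRange.symm
    exact Module.Finite.of_submodule_quotient (LinearMap.ker π2)
  have hEfree : Module.Free R (LinearMap.ker (Phi d y)) := Module.free_of_flat_of_isLocalRing
  let b := Module.finBasis R (LinearMap.ker (Phi d y))
  set e := Module.finrank R (LinearMap.ker (Phi d y)) with he
  let m : Fin e → M := fun i => (b i : M × (Fin (Module.finrank K H) → R)).1
  let c : Fin e → Fin (Module.finrank K H) → R := fun i => (b i : M × (Fin (Module.finrank K H) → R)).2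
  have hbi : ∀ i, d (m i) = - ∑ j, c i j • y j := by
    intro i
    have h3 := LinearMap.mem_ker.mp (b i).2
    rw [Phi_apply] at h3
    exact eq_neg_of_add_eq_zero_left h3
  obtain ⟨hKi, hKs⟩ := theta_spec hp hq hd y hΦ b
  obtain ⟨hLi, hLs⟩ := theta_spec hpL hqL hdL y hΦ b
  have hcK : ∀ z, Phi dK (fun i => q (y i)) z = 0 → z.2 = 0 := by
    intro z hz
    rw [Phi_apply] at hz
    have h3 : ∑ i, z.2 i • bH i = 0 := by
      have h5 := congrArg π hz
      rw [map_add, (hπ _).mpr ⟨_, rfl⟩, zero_add, map_sum, map_zero] at h5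
      simpa only [map_smul, hy] using h5
    funext i
    exact Fintype.linearIndependent_iff.mp bH.linearIndependent z.2 h3 i
  have hkerK : Module.finrank K (LinearMap.ker dK) = e := by
    rw [finrank_ker dK (fun i => q (y i)) (fun i => p (m i)) (fun i j => algebraMap R K (c i j)) _
      (theta_apply p _) hKi hKs]
    have h3 : (Matrix.of fun i j => algebraMap R K (c i j))ᵀ = 0 := by
      ext j i
      have h4 : Phi dK (fun i => q (y i)) (p (m i), fun j => algebraMap R K (c i j)) = 0 := by
        refine (hKs _).mp ⟨Pi.single i 1, ?_⟩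
        rw [theta_apply]
        refine Prod.ext ?_ (funext fun j => ?_)
        · rw [Finset.sum_eq_single i]
          · rw [Pi.single_eq_same, one_smul]
          · intro i' _ hne
            rw [Pi.single_eq_of_ne hne, zero_smul]
          · exact fun h => absurd (Finset.mem_univ _) h
        · dsimp only
          rw [Finset.sum_eq_single i]
          · rw [Pi.single_eq_same, one_mul]
          · intro i' _ hne
            rw [Pi.single_eq_of_ne hne, zero_mul]
          · exact fun h => absurd (Finset.mem_univ _) h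
      exact congrFun (hcK _ h4) j
    rw [h3, map_zero, LinearMap.ker_zero, finrank_top, Module.finrank_fin_fun]
  -- the pairing
  let Q : Matrix (Fin e) (Fin (Module.finrank K H)) R := Matrix.of fun i j => P (m i) (y j)
  have hQ : ∀ v, Q.map (algebraMap R K) *ᵥ v = 0 → v = 0 := by
    intro v hv
    have h3 : ∀ w, dK w = 0 → PK w (∑ j, v j • q (y j)) = 0 := by
      intro w hw
      obtain ⟨u, hu⟩ := (hKs (w, 0)).mpr (by
        rw [Phi_apply]
        simp [hw])
      have h4 : w = ∑ i, u i • p (m i) := by
        rw [theta_apply] at hu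
        exact (congrArg Prod.fst hu).symm
      have h5 : ∀ i, PK (p (m i)) (∑ j, v j • q (y j)) = 0 := by
        intro i
        have h6 := congrFun hv i
        rw [map_sum]
        simp only [map_smul, hPK, smul_eq_mul]
        simp only [Matrix.mulVec, dotProduct, Matrix.map_apply, Matrix.of_apply, Pi.zero_apply, Q] at h6
        rw [← h6]
        exact Finset.sum_congr rfl fun j _ => mul_comm _ _
      have h7 : PK (∑ i, u i • p (m i)) = ∑ i, u i • PK (p (m i)) := by
        rw [map_sum]
        simp only [map_smul]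
      rw [h4, h7, LinearMap.sum_apply]
      refine Finset.sum_eq_zero fun i _ => ?_
      rw [LinearMap.smul_apply, h5, smul_zero]
    obtain ⟨x, hx⟩ := h2 _ h3
    have h4 : ∑ j, v j • bH j = 0 := by
      have h5 := (hπ _).mpr ⟨x, hx⟩
      rw [map_sum] at h5
      simpa only [map_smul, hy] using h5
    funext i
    exact Fintype.linearIndependent_iff.mp bH.linearIndependent v h4 i
  have hmul : Q * (Matrix.of c)ᵀ = Matrix.of fun i l => - P (m i) (d (m l)) := by
    ext i l
    rw [Matrix.mul_apply]
    simp only [Matrix.transpose_apply, Matrix.of_apply, Q]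
    rw [hbi, map_neg, neg_neg, map_sum]
    refine Finset.sum_congr rfl fun j _ => ?_
    rw [map_smul, smul_eq_mul, mul_comm]
  have hskew : (Q * (Matrix.of c)ᵀ)ᵀ = -(Q * (Matrix.of c)ᵀ) := by
    rw [hmul]
    ext i l
    simp only [Matrix.transpose_apply, Matrix.of_apply, Matrix.neg_apply]
    rw [neg_neg, hP (m i) (m l)]
  have hC : (Matrix.of fun i j => algebraMap R L (c i j))ᵀ = ((Matrix.of c)ᵀ).map (algebraMap R L) := by
    ext i j
    rfl
  have hfin := even_of_skew hL (Q.map (algebraMap R L)) (Matrix.of fun i j => algebraMap R L (c i j))ᵀ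
    (fun v hv => injective_of_residue Q hQ v hv) (by
      rw [hC, ← Matrix.map_mul, ← Matrix.transpose_map, hskew]
      ext i j
      rw [Matrix.neg_apply, Matrix.map_apply, Matrix.map_apply, Matrix.neg_apply, map_neg])
  rw [hkerK, finrank_ker dL (fun i => qL (y i)) (fun i => pL (m i)) (fun i j => algebraMap R L (c i j)) _
      (theta_apply pL _) hLi hLs]
  exact hfin

end main

end K707.ParAlg
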