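import Groth.Agent.VBCurve.K707.ParForm

/-!
# Base change of the skew pairing on the Cech complex (helper707)
-/

set_option autoImplicit false
universe u
open CategoryTheory CategoryTheory.Limits AlgebraicGeometry TopologicalSpace Opposite

namespace K707.ParBC

open Groth.Agent Groth.Agent.Fdesc Groth.Agent.Picfga.ChiCech K707.ParPair K707.SecBase K707.ParForm

variable {A B : Type u} [CommRing A] [CommRing B] [Algebra A B] {X Y : Scheme.{u}}
  [X.Over (Spec (CommRingCat.of A))] [Y.Over (Spec (CommRingCat.of B))] (g : Y ⟶ X)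
  (h : IsPullback g (Y ↘ Spec (CommRingCat.of B)) (X ↘ Spec (CommRingCat.of A))
    (Spec.map (CommRingCat.ofHom (algebraMap A B))))

section trace

variable {G : X.Modules} (hG : Coh.IsQCoh G) {U V : X.Opens} (hU : IsAffineOpen U) (hV : IsAffineOpen V)
  (hUV : IsAffineOpen (U ⊓ V)) (τ : SecA A G (U ⊓ V) →ₗ[A] A)

/-- base change of a functional -/
noncomputable def trBC : SecA B ((Scheme.Modules.pullback g).obj G) (g ⁻¹ᵁ U ⊓ g ⁻¹ᵁ V) →ₗ[B] B :=
  letI i0 := modA A (B := B) ((Scheme.Modules.pullback g).obj G) (g ⁻¹ᵁ (U ⊓ V))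
  haveI i1 := towerA A (B := B) ((Scheme.Modules.pullback g).obj G) (g ⁻¹ᵁ (U ⊓ V))
  (isBaseChange_secA g h G hG (U ⊓ V) hUV).lift ((Algebra.linearMap A B).comp τ)

theorem trBC_secA (x : SecA A G (U ⊓ V)) : trBC g h hG hUV τ (secA g h G (U ⊓ V) hUV x) = algebraMap A B (τ x) := by
  let i0 := modA A (B := B) ((Scheme.Modules.pullback g).obj G) (g ⁻¹ᵁ (U ⊓ V))
  have i1 := towerA A (B := B) ((Scheme.Modules.pullback g).obj G) (g ⁻¹ᵁ (U ⊓ V))
  exact (isBaseChange_secA g h G hG (U ⊓ V) hUV).lift_eq ((Algebra.linearMap A B).comp τ) x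

include hG hU in
/-- induction over the base change -/
theorem secA_induction (P : SecA B ((Scheme.Modules.pullback g).obj G) (g ⁻¹ᵁ U) → Prop) (h0 : P 0)
    (h1 : ∀ s : SecA A G U, P (secA g h G U hU s)) (h2 : ∀ (c : B) s, P s → P (c • s))
    (h3 : ∀ s t, P s → P t → P (s + t)) (x : SecA B ((Scheme.Modules.pullback g).obj G) (g ⁻¹ᵁ U)) : P x := by
  let i0 := modA A (B := B) ((Scheme.Modules.pullback g).obj G) (g ⁻¹ᵁ U)
  have i1 := towerA A (B := B) ((Scheme.Modules.pullback g).obj G) (g ⁻¹ᵁ U)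
  exact (isBaseChange_secA g h G hG U hU).inductionOn x P h0 h1 h2 h3

include hU in
theorem trBC_resU (hτ : ∀ x : SecA A G U, τ (resA A G inf_le_left x) = 0)
    (x : SecA B ((Scheme.Modules.pullback g).obj G) (g ⁻¹ᵁ U)) :
    trBC g h hG hUV τ (resA B ((Scheme.Modules.pullback g).obj G) inf_le_left x) = 0 := by
  induction x using secA_induction g h hG hU with
  | h0 => rw [map_zero, map_zero]
  | h1 s =>
    have h1 := resA_secA g h G hU hUV inf_le_left s
    have h2 : resA B ((Scheme.Modules.pullback g).obj G) (inf_le_left : g ⁻¹ᵁ U ⊓ g ⁻¹ᵁ V ≤ g ⁻¹ᵁ U)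
      (secA g h G U hU s) = secA g h G (U ⊓ V) hUV (resA A G inf_le_left s) := h1
    rw [h2, trBC_secA, hτ, map_zero]
  | h2 c s hs => rw [map_smul, map_smul, hs, smul_zero]
  | h3 s t hs ht => rw [map_add, map_add, hs, ht, add_zero]

include hV in
theorem trBC_resV (hτ : ∀ x : SecA A G V, τ (resA A G inf_le_right x) = 0)
    (x : SecA B ((Scheme.Modules.pullback g).obj G) (g ⁻¹ᵁ V)) :
    trBC g h hG hUV τ (resA B ((Scheme.Modules.pullback g).obj G) inf_le_right x) = 0 := by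
  induction x using secA_induction g h hG hV with
  | h0 => rw [map_zero, map_zero]
  | h1 s =>
    have h1 := resA_secA g h G hV hUV inf_le_right s
    have h2 : resA B ((Scheme.Modules.pullback g).obj G) (inf_le_right : g ⁻¹ᵁ U ⊓ g ⁻¹ᵁ V ≤ g ⁻¹ᵁ V)
      (secA g h G V hV s) = secA g h G (U ⊓ V) hUV (resA A G inf_le_right s) := h1
    rw [h2, trBC_secA, hτ, map_zero]
  | h2 c s hs => rw [map_smul, map_smul, hs, smul_zero]
  | h3 s t hs ht => rw [map_add, map_add, hs, ht, add_zero]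

end trace

section pairing

variable {F G : X.Modules} {U V : X.Opens} (D : PairData none F G (fam U V) (fam_le U V))

theorem fam_pre (U V : X.Opens) : ∀ i, fam (g ⁻¹ᵁ U) (g ⁻¹ᵁ V) i ≤ g ⁻¹ᵁ (fam U V i)
  | none => le_rfl
  | some true => le_rfl
  | some false => le_rfl

theorem fam_aff {U V : X.Opens} (hU : IsAffineOpen U) (hV : IsAffineOpen V) (hUV : IsAffineOpen (U ⊓ V)) :
    ∀ i, IsAffineOpen (fam U V i)
  | none => hUV
  | some true => hU
  | some false => hV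

include h in
theorem isAffineHom_g : IsAffineHom g :=
  MorphismProperty.of_isPullback (P := @IsAffineHom) h.flip inferInstance

variable (hU : IsAffineOpen U) (hV : IsAffineOpen V) (hUV : IsAffineOpen (U ⊓ V))
  (hF : Coh.IsQCoh F) (hG : Coh.IsQCoh G) (hfin : ∀ i, Module.Finite Γ(X, fam U V i) Γ(F, fam U V i))
  (hproj : ∀ i, Module.Projective Γ(X, fam U V i) Γ(F, fam U V i))

/-- the base change of a pairing -/
noncomputable def pairBC : PairData none ((Scheme.Modules.pullback g).obj F) ((Scheme.Modules.pullback g).obj G)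
    (fam (g ⁻¹ᵁ U) (g ⁻¹ᵁ V)) (fam_le (g ⁻¹ᵁ U) (g ⁻¹ᵁ V)) :=
  pull D g (fam (g ⁻¹ᵁ U) (g ⁻¹ᵁ V)) (fam_le (g ⁻¹ᵁ U) (g ⁻¹ᵁ V)) (fam_pre g U V) (fam_aff hU hV hUV)
    (haveI := isAffineHom_g g h
     fam_aff (hU.preimage g) (hV.preimage g) (hUV.preimage g)) hF hG hfin hproj

theorem b2_secA (s t : SecA A F (U ⊓ V)) :
    b2 (pairBC g h D hU hV hUV hF hG hfin hproj) (secA g h F (U ⊓ V) hUV s : SecA B _ (g ⁻¹ᵁ U ⊓ g ⁻¹ᵁ V))
      (secA g h F (U ⊓ V) hUV t) = secA g h G (U ⊓ V) hUV (b2 D s t) :=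
  pull_sec D g (fam (g ⁻¹ᵁ U) (g ⁻¹ᵁ V)) (fam_le (g ⁻¹ᵁ U) (g ⁻¹ᵁ V)) (fam_pre g U V) (fam_aff hU hV hUV)
    (haveI := isAffineHom_g g h
     fam_aff (hU.preimage g) (hV.preimage g) (hUV.preimage g)) hF hG hfin hproj none s t

theorem P_secA (τ : SecA A G (U ⊓ V) →ₗ[A] A) (m : SecA A F U × SecA A F V) (n : SecA A F (U ⊓ V)) :
    P (pairBC g h D hU hV hUV hF hG hfin hproj) (trBC g h hG hUV τ)
      (secA g h F U hU m.1, secA g h F V hV m.2) (secA g h F (U ⊓ V) hUV n) = algebraMap A B (P D τ m n) := by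
  have h1 : resA B ((Scheme.Modules.pullback g).obj F) (inf_le_left : g ⁻¹ᵁ U ⊓ g ⁻¹ᵁ V ≤ g ⁻¹ᵁ U)
      (secA g h F U hU m.1) = secA g h F (U ⊓ V) hUV (resA A F inf_le_left m.1) :=
    resA_secA g h F hU hUV inf_le_left m.1
  have h2 : resA B ((Scheme.Modules.pullback g).obj F) (inf_le_right : g ⁻¹ᵁ U ⊓ g ⁻¹ᵁ V ≤ g ⁻¹ᵁ V)
      (secA g h F V hV m.2) = secA g h F (U ⊓ V) hUV (resA A F inf_le_right m.2) :=
    resA_secA g h F hV hUV inf_le_right m.2
  rw [P_apply, P_apply, map_add]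
  dsimp only
  rw [h1, h2, b2_secA, b2_secA, trBC_secA, trBC_secA]

end pairing

theorem cechD_secA (M : X.Modules) {U V : X.Opens} (hU : IsAffineOpen U) (hV : IsAffineOpen V)
    (hUV : IsAffineOpen (U ⊓ V)) (m : SecA A M U × SecA A M V) :
    cechD B ((Scheme.Modules.pullback g).obj M) (g ⁻¹ᵁ U) (g ⁻¹ᵁ V) (secA g h M U hU m.1, secA g h M V hV m.2) =
      secA g h M (U ⊓ V) hUV (cechD A M U V m) := by
  have h1 : resA B ((Scheme.Modules.pullback g).obj M) (inf_le_left : g ⁻¹ᵁ U ⊓ g ⁻¹ᵁ V ≤ g ⁻¹ᵁ U)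
      (secA g h M U hU m.1) = secA g h M (U ⊓ V) hUV (resA A M inf_le_left m.1) :=
    resA_secA g h M hU hUV inf_le_left m.1
  have h2 : resA B ((Scheme.Modules.pullback g).obj M) (inf_le_right : g ⁻¹ᵁ U ⊓ g ⁻¹ᵁ V ≤ g ⁻¹ᵁ V)
      (secA g h M V hV m.2) = secA g h M (U ⊓ V) hUV (resA A M inf_le_right m.2) :=
    resA_secA g h M hV hUV inf_le_right m.2
  have h3 : cechD A M U V m = resA A M inf_le_left m.1 - resA A M inf_le_right m.2 := rfl
  rw [cechD_apply, h1, h2, h3]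
  exact (map_sub (secA g h M (U ⊓ V) hUV) _ _).symm

end K707.ParBC
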