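import Groth.Agent.VBCurve.K707.ParAlg
import Mathlib.RingTheory.Flat.Localization

/-!
# Parity of the dimension of the kernel for skew-symmetric complexes: over a base ring (helper707)
-/

set_option autoImplicit false

open scoped TensorProduct

namespace K707.ParBase

open K707.SkewAlg K707.ParAlg

section bc

variable {B : Type*} [CommRing B] {M N : Type*} [AddCommGroup M] [Module B M] [AddCommGroup N] [Module B N]
  (A : Type*) [CommRing A] [Algebra B A]

/-- base change of a pairing -/
noncomputable def pairBC (P : M →ₗ[B] N →ₗ[B] B) : A ⊗[B] M →ₗ[A] A ⊗[B] N →ₗ[A] A :=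
  LinearMap.liftBaseChange A
    { toFun := fun m => LinearMap.liftBaseChange A ((Algebra.linearMap B A).comp (P m))
      map_add' := fun m m' => by
        apply TensorProduct.AlgebraTensorModule.ext
        intro a n
        simp only [LinearMap.liftBaseChange_tmul, LinearMap.comp_apply, map_add, LinearMap.add_apply, smul_add]
      map_smul' := fun c m => by
        apply TensorProduct.AlgebraTensorModule.ext
        intro a n
        rw [RingHom.id_apply, LinearMap.smul_apply]
        simp only [LinearMap.liftBaseChange_tmul, LinearMap.comp_apply, map_smul, LinearMap.smul_apply]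
        rw [smul_comm] }

theorem pairBC_tmul (P : M →ₗ[B] N →ₗ[B] B) (m : M) (n : N) :
    pairBC A P (1 ⊗ₜ m) (1 ⊗ₜ n) = algebraMap B A (P m n) := by
  rw [pairBC, LinearMap.liftBaseChange_tmul, one_smul]
  change LinearMap.liftBaseChange A ((Algebra.linearMap B A).comp (P m)) (1 ⊗ₜ n) = _
  rw [LinearMap.liftBaseChange_tmul, one_smul]
  rfl

theorem pairBC_skew (d : M →ₗ[B] N) (P : M →ₗ[B] N →ₗ[B] B) (hP : ∀ m m', P m (d m') = - P m' (d m))
    (x x' : A ⊗[B] M) : pairBC A P x (d.baseChange A x') = - pairBC A P x' (d.baseChange A x) := by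
  have key : ∀ (m m' : M), pairBC A P (1 ⊗ₜ m) (d.baseChange A (1 ⊗ₜ m')) =
      - pairBC A P (1 ⊗ₜ m') (d.baseChange A (1 ⊗ₜ m)) := by
    intro m m'
    rw [LinearMap.baseChange_tmul, LinearMap.baseChange_tmul, pairBC_tmul, pairBC_tmul, hP, map_neg]
  have hsm : ∀ (a : A) (m : M), a ⊗ₜ[B] m = a • ((1 : A) ⊗ₜ[B] m) := by
    intro a m
    rw [TensorProduct.smul_tmul', smul_eq_mul, mul_one]
  induction x with
  | zero => simp
  | add a b ha hb =>
    simp only [map_add, LinearMap.add_apply, ha, hb]
    abel
  | tmul a m =>
    induction x' with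
    | zero => simp
    | add b c hb hc =>
      simp only [map_add, LinearMap.add_apply, hb, hc]
      abel
    | tmul a' m' =>
      rw [hsm a m, hsm a' m']
      simp only [map_smul, LinearMap.smul_apply, smul_eq_mul]
      rw [key]
      ring

theorem finite_ker_baseChange [Module.Flat B A] (d : M →ₗ[B] N) (h : Module.Finite B (LinearMap.ker d)) :
    Module.Finite A (LinearMap.ker (d.baseChange A)) := by
  have h1 := Module.Flat.lTensor_exact A (LinearMap.exact_subtype_ker_map d)
  let j : A ⊗[B] LinearMap.ker d →ₗ[A] LinearMap.ker (d.baseChange A) :=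
    LinearMap.codRestrict _ ((LinearMap.ker d).subtype.baseChange A) (fun x => (h1 _).mpr ⟨x, rfl⟩)
  refine Module.Finite.of_surjective j ?_
  rintro ⟨x, hx⟩
  obtain ⟨y, hy⟩ := (h1 x).mp hx
  exact ⟨y, Subtype.ext hy⟩

theorem finite_coker_baseChange (d : M →ₗ[B] N) (h : Module.Finite B (N ⧸ LinearMap.range d)) :
    Module.Finite A ((A ⊗[B] N) ⧸ LinearMap.range (d.baseChange A)) := by
  have h1 := lTensor_exact A (LinearMap.exact_map_mkQ_range d) (Submodule.mkQ_surjective _)
  have h3 : LinearMap.ker ((LinearMap.range d).mkQ.baseChange A) = LinearMap.range (d.baseChange A) := by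
    ext x
    exact h1 x
  rw [← h3]
  exact Module.Finite.equiv (LinearMap.quotKerEquivOfSurjective ((LinearMap.range d).mkQ.baseChange A)
    (LinearMap.lTensor_surjective A (Submodule.mkQ_surjective _))).symm

end bc

section main

variable {B : Type*} [CommRing B] [IsNoetherianRing B] {M N : Type*} [AddCommGroup M] [Module B M]
  [AddCommGroup N] [Module B N] [Module.Flat B M] [Module.Flat B N]

/-- **Parity of the dimension of the kernel under specialization**: the version over a base ring `B`. -/
theorem parity (d : M →ₗ[B] N) (hker : Module.Finite B (LinearMap.ker d))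
    (hcok : Module.Finite B (N ⧸ LinearMap.range d))
    (P : M →ₗ[B] N →ₗ[B] B) (hP : ∀ m m', P m (d m') = - P m' (d m))
    (p₀ : Ideal B) [p₀.IsPrime]
    {MK NK : Type*} [AddCommGroup MK] [Module p₀.ResidueField MK] [Module B MK]
    [IsScalarTower B p₀.ResidueField MK] [AddCommGroup NK] [Module p₀.ResidueField NK]
    [Module B NK] [IsScalarTower B p₀.ResidueField NK]
    {p : M →ₗ[B] MK} (hp : IsBaseChange p₀.ResidueField p)
    {q : N →ₗ[B] NK} (hq : IsBaseChange p₀.ResidueField q)
    (dK : MK →ₗ[p₀.ResidueField] NK) (hd : ∀ x, dK (p x) = q (d x))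
    (PK : MK →ₗ[p₀.ResidueField] NK →ₗ[p₀.ResidueField] p₀.ResidueField)
    (hPK : ∀ m n, PK (p m) (q n) = algebraMap B p₀.ResidueField (P m n))
    (h2 : ∀ y, (∀ w, dK w = 0 → PK w y = 0) → ∃ m, dK m = y)
    {L : Type*} [Field L] [Algebra B L] (hL : (2 : L) ≠ 0) (hLp : RingHom.ker (algebraMap B L) ≤ p₀)
    {ML NL : Type*} [AddCommGroup ML] [Module L ML] [Module B ML]
    [IsScalarTower B L ML] [AddCommGroup NL] [Module L NL]
    [Module B NL] [IsScalarTower B L NL]
    {pL : M →ₗ[B] ML} (hpL : IsBaseChange L pL) {qL : N →ₗ[B] NL} (hqL : IsBaseChange L qL)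
    (dL : ML →ₗ[L] NL) (hdL : ∀ x, dL (pL x) = qL (d x)) :
    Even (Module.finrank p₀.ResidueField (LinearMap.ker dK) - Module.finrank L (LinearMap.ker dL)) ∧
      Module.finrank L (LinearMap.ker dL) ≤ Module.finrank p₀.ResidueField (LinearMap.ker dK) := by
  let R := Localization.AtPrime p₀
  have hRn : IsNoetherianRing R := IsLocalization.isNoetherianRing p₀.primeCompl R inferInstance
  have hRf : Module.Flat B R := IsLocalization.flat R p₀.primeCompl
  have hunit : ∀ y : p₀.primeCompl, IsUnit (algebraMap B L y) := by
    intro y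
    rw [isUnit_iff_ne_zero]
    intro h
    exact y.2 (hLp h)
  let algL : Algebra R L := (IsLocalization.lift (M := p₀.primeCompl) hunit).toAlgebra
  have tower : IsScalarTower B R L := IsScalarTower.of_algebraMap_eq fun x => by
    rw [RingHom.algebraMap_toAlgebra, IsLocalization.lift_eq]
  let m1 : Module R MK := Module.compHom MK (algebraMap R p₀.ResidueField)
  let m2 : Module R NK := Module.compHom NK (algebraMap R p₀.ResidueField)
  let m3 : Module R ML := Module.compHom ML (algebraMap R L)
  let m4 : Module R NL := Module.compHom NL (algebraMap R L)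
  have t1 : IsScalarTower R p₀.ResidueField MK := IsScalarTower.of_algebraMap_smul fun _ _ => rfl
  have t2 : IsScalarTower R p₀.ResidueField NK := IsScalarTower.of_algebraMap_smul fun _ _ => rfl
  have t3 : IsScalarTower R L ML := IsScalarTower.of_algebraMap_smul fun _ _ => rfl
  have t4 : IsScalarTower R L NL := IsScalarTower.of_algebraMap_smul fun _ _ => rfl
  have s1 : IsScalarTower B R MK := IsScalarTower.of_algebraMap_smul fun b x => by
    rw [← algebraMap_smul p₀.ResidueField (algebraMap B R b) x, ← IsScalarTower.algebraMap_apply, algebraMap_smul]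
  have s2 : IsScalarTower B R NK := IsScalarTower.of_algebraMap_smul fun b x => by
    rw [← algebraMap_smul p₀.ResidueField (algebraMap B R b) x, ← IsScalarTower.algebraMap_apply, algebraMap_smul]
  have s3 : IsScalarTower B R ML := IsScalarTower.of_algebraMap_smul fun b x => by
    rw [← algebraMap_smul L (algebraMap B R b) x, ← IsScalarTower.algebraMap_apply, algebraMap_smul]
  have s4 : IsScalarTower B R NL := IsScalarTower.of_algebraMap_smul fun b x => by
    rw [← algebraMap_smul L (algebraMap B R b) x, ← IsScalarTower.algebraMap_apply, algebraMap_smul]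
  have key1 : ∀ m, LinearMap.liftBaseChange R p (1 ⊗ₜ m) = p m := fun m => by
    rw [LinearMap.liftBaseChange_tmul, one_smul]
  have key2 : ∀ m, LinearMap.liftBaseChange R q (1 ⊗ₜ m) = q m := fun m => by
    rw [LinearMap.liftBaseChange_tmul, one_smul]
  have key3 : ∀ m, LinearMap.liftBaseChange R pL (1 ⊗ₜ m) = pL m := fun m => by
    rw [LinearMap.liftBaseChange_tmul, one_smul]
  have key4 : ∀ m, LinearMap.liftBaseChange R qL (1 ⊗ₜ m) = qL m := fun m => by
    rw [LinearMap.liftBaseChange_tmul, one_smul]
  have bp : IsBaseChange p₀.ResidueField (LinearMap.liftBaseChange R p) := by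
    refine IsBaseChange.of_comp (TensorProduct.isBaseChange B M R) ?_
    convert hp using 1
    exact LinearMap.ext key1
  have bq : IsBaseChange p₀.ResidueField (LinearMap.liftBaseChange R q) := by
    refine IsBaseChange.of_comp (TensorProduct.isBaseChange B N R) ?_
    convert hq using 1
    exact LinearMap.ext key2
  have bpL : IsBaseChange L (LinearMap.liftBaseChange R pL) := by
    refine IsBaseChange.of_comp (TensorProduct.isBaseChange B M R) ?_
    convert hpL using 1
    exact LinearMap.ext key3
  have bqL : IsBaseChange L (LinearMap.liftBaseChange R qL) := by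
    refine IsBaseChange.of_comp (TensorProduct.isBaseChange B N R) ?_
    convert hqL using 1
    exact LinearMap.ext key4
  refine local_parity (d.baseChange R) (finite_ker_baseChange R d hker) (finite_coker_baseChange R d hcok)
    (pairBC R P) (pairBC_skew R d P hP) bp bq dK ?_ PK ?_ h2 hL bpL bqL dL ?_
  · intro x
    induction x with
    | zero => simp
    | add a b ha hb => simp only [map_add, ha, hb]
    | tmul r m =>
      rw [LinearMap.baseChange_tmul, LinearMap.liftBaseChange_tmul, LinearMap.liftBaseChange_tmul, ← hd,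
        ← algebraMap_smul p₀.ResidueField, map_smul, algebraMap_smul]
  · intro x y
    induction x with
    | zero => simp
    | add a b ha hb => simp only [map_add, LinearMap.add_apply, ha, hb]
    | tmul r m =>
      induction y with
      | zero => simp
      | add a b ha hb => simp only [map_add, ha, hb]
      | tmul s n =>
        have h3 : (r : R) ⊗ₜ[B] m = r • ((1 : R) ⊗ₜ[B] m) := by rw [TensorProduct.smul_tmul', smul_eq_mul, mul_one]
        have h4 : (s : R) ⊗ₜ[B] n = s • ((1 : R) ⊗ₜ[B] n) := by rw [TensorProduct.smul_tmul', smul_eq_mul, mul_one]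
        have e1 : LinearMap.liftBaseChange R p (r • ((1 : R) ⊗ₜ[B] m)) = algebraMap R p₀.ResidueField r • p m := by
          rw [map_smul, key1, algebraMap_smul]
        have e2 : LinearMap.liftBaseChange R q (s • ((1 : R) ⊗ₜ[B] n)) = algebraMap R p₀.ResidueField s • q n := by
          rw [map_smul, key2, algebraMap_smul]
        have e3 : pairBC R P (r • ((1 : R) ⊗ₜ[B] m)) (s • ((1 : R) ⊗ₜ[B] n)) = r * (s * algebraMap B R (P m n)) := by
          rw [LinearMap.map_smul (pairBC R P), LinearMap.smul_apply, LinearMap.map_smul, pairBC_tmul, smul_eq_mul,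
            smul_eq_mul]
        rw [h3, h4, e1, e2, e3, map_mul, map_mul, ← IsScalarTower.algebraMap_apply, ← hPK]
        rw [LinearMap.map_smul PK, LinearMap.smul_apply, LinearMap.map_smul, smul_eq_mul, smul_eq_mul]
  · intro x
    induction x with
    | zero => simp
    | add a b ha hb => simp only [map_add, ha, hb]
    | tmul r m =>
      rw [LinearMap.baseChange_tmul, LinearMap.liftBaseChange_tmul, LinearMap.liftBaseChange_tmul, ← hdL,
        ← algebraMap_smul L, map_smul, algebraMap_smul]

end main

end K707.ParBase
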