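import Groth.Agent.VBCurve.K707.SecBase

/-!
# The skew pairing on the Cech complex of a module with a symmetric pairing (helper707)
-/

set_option autoImplicit false
universe u
open CategoryTheory CategoryTheory.Limits AlgebraicGeometry TopologicalSpace Opposite

namespace K707.ParForm

open Groth.Agent Groth.Agent.Fdesc Groth.Agent.Picfga.ChiCech K707.ParPair

/-- the family `U ⊓ V, U, V` -/
def fam {Y : Scheme.{u}} (U V : Y.Opens) : Option Bool → Y.Opens
  | none => U ⊓ V
  | some true => U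
  | some false => V

theorem fam_le {Y : Scheme.{u}} (U V : Y.Opens) : ∀ i, fam U V none ≤ fam U V i
  | none => le_rfl
  | some true => inf_le_left
  | some false => inf_le_right

section form

variable {A : Type u} [CommRing A] {Y : Scheme.{u}} [Y.Over (Spec (CommRingCat.of A))] {F G : Y.Modules}
  {U V : Y.Opens} (D : PairData none F G (fam U V) (fam_le U V)) (τ : SecA A G (U ⊓ V) →ₗ[A] A)

/-- the pairing over `U` -/
noncomputable def bU : Γ(F, U) →ₗ[Γ(Y, U)] Γ(F, U) →ₗ[Γ(Y, U)] Γ(G, U) := D.b (some true)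

/-- the pairing over `V` -/
noncomputable def bV : Γ(F, V) →ₗ[Γ(Y, V)] Γ(F, V) →ₗ[Γ(Y, V)] Γ(G, V) := D.b (some false)

/-- the pairing over `U ⊓ V` -/
noncomputable def bI : Γ(F, U ⊓ V) →ₗ[Γ(Y, U ⊓ V)] Γ(F, U ⊓ V) →ₗ[Γ(Y, U ⊓ V)] Γ(G, U ⊓ V) := D.b none

theorem bI_resU (s t : Γ(F, U)) : bI D (LocGen.res F inf_le_left s) (LocGen.res F inf_le_left t) =
    LocGen.res G inf_le_left (bU D s t) := D.res (some true) s t

theorem bI_resV (s t : Γ(F, V)) : bI D (LocGen.res F inf_le_right s) (LocGen.res F inf_le_right t) =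
    LocGen.res G inf_le_right (bV D s t) := D.res (some false) s t

theorem bI_symm (s t : Γ(F, U ⊓ V)) : bI D s t = bI D t s := D.symm none s t

theorem bU_bij : Function.Bijective (bU D) := D.perf (some true)

theorem bV_bij : Function.Bijective (bV D) := D.perf (some false)

theorem bI_bij : Function.Bijective (bI D) := D.perf none

theorem symm_smul {M : Y.Modules} {W : Y.Opens} (a : A) (s : SecA A M W) :
    (toSecA (A := A)).symm (a • s) = (str A W a • (toSecA (A := A)).symm s : Γ(M, W)) := rfl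

/-- the pairing over the intersection -/
noncomputable def b2 (s t : SecA A F (U ⊓ V)) : SecA A G (U ⊓ V) :=
  toSecA (bI D (toSecA.symm s) (toSecA.symm t))

theorem b2_add_left (s s' t : SecA A F (U ⊓ V)) : b2 D (s + s') t = b2 (A := A) D s t + b2 D s' t := by
  rw [b2, map_add, map_add, LinearMap.add_apply, map_add]
  rfl

theorem b2_add_right (s t t' : SecA A F (U ⊓ V)) : b2 D s (t + t') = b2 (A := A) D s t + b2 D s t' := by
  rw [b2, map_add, map_add, map_add]
  rfl

theorem b2_neg_right (s t : SecA A F (U ⊓ V)) : b2 D s (-t) = - b2 (A := A) D s t := by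
  rw [b2, map_neg, map_neg, map_neg]
  rfl

theorem b2_smul_left (a : A) (s t : SecA A F (U ⊓ V)) : b2 D (a • s) t = a • b2 D s t := by
  rw [b2, symm_smul, map_smul, LinearMap.smul_apply]
  rfl

theorem b2_smul_right (a : A) (s t : SecA A F (U ⊓ V)) : b2 D s (a • t) = a • b2 D s t := by
  rw [b2, symm_smul, map_smul]
  rfl

theorem b2_symm (s t : SecA A F (U ⊓ V)) : b2 (A := A) D s t = b2 D t s := by
  rw [b2, bI_symm]
  rfl

theorem b2_resU (s t : SecA A F U) : b2 D (resA A F inf_le_left s) (resA A F inf_le_left t) =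
    resA A G inf_le_left (toSecA (bU D (toSecA.symm s) (toSecA.symm t))) :=
  congrArg toSecA (bI_resU D (toSecA.symm s) (toSecA.symm t))

theorem b2_resV (s t : SecA A F V) : b2 D (resA A F inf_le_right s) (resA A F inf_le_right t) =
    resA A G inf_le_right (toSecA (bV D (toSecA.symm s) (toSecA.symm t))) :=
  congrArg toSecA (bI_resV D (toSecA.symm s) (toSecA.symm t))

/-- the pairing on the Cech complex -/
noncomputable def P : SecA A F U × SecA A F V →ₗ[A] SecA A F (U ⊓ V) →ₗ[A] A :=
  LinearMap.mk₂ A (fun m n => τ (b2 D (resA A F inf_le_left m.1) n) + τ (b2 D (resA A F inf_le_right m.2) n))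
    (fun m m' n => by
      rw [Prod.fst_add, Prod.snd_add, map_add, map_add, b2_add_left, b2_add_left, map_add, map_add]
      abel)
    (fun c m n => by
      rw [Prod.smul_fst, Prod.smul_snd, map_smul, map_smul, b2_smul_left, b2_smul_left, map_smul, map_smul, smul_add])
    (fun m n n' => by
      rw [b2_add_right, b2_add_right, map_add, map_add]
      abel)
    (fun c m n => by
      rw [b2_smul_right, b2_smul_right, map_smul, map_smul, smul_add])

theorem P_apply (m : SecA A F U × SecA A F V) (n : SecA A F (U ⊓ V)) :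
    P D τ m n = τ (b2 D (resA A F inf_le_left m.1) n) + τ (b2 D (resA A F inf_le_right m.2) n) := rfl

theorem P_skew (hU : ∀ x : SecA A G U, τ (resA A G inf_le_left x) = 0)
    (hV : ∀ x : SecA A G V, τ (resA A G inf_le_right x) = 0) (m m' : SecA A F U × SecA A F V) :
    P D τ m (cechD A F U V m') = - P D τ m' (cechD A F U V m) := by
  obtain ⟨a, b⟩ := m
  obtain ⟨a', b'⟩ := m'
  have h1 : ∀ x y : SecA A F U, τ (b2 D (resA A F inf_le_left x) (resA A F inf_le_left y)) = 0 := by
    intro x y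
    rw [b2_resU, hU]
  have h2 : ∀ x y : SecA A F V, τ (b2 D (resA A F inf_le_right x) (resA A F inf_le_right y)) = 0 := by
    intro x y
    rw [b2_resV, hV]
  have h4 : ∀ x y y' : SecA A F (U ⊓ V), τ (b2 D x (y - y')) = τ (b2 D x y) - τ (b2 D x y') := by
    intro x y y'
    rw [sub_eq_add_neg, sub_eq_add_neg, b2_add_right, b2_neg_right, map_add, map_neg]
  rw [P_apply, P_apply, cechD_apply, cechD_apply, h4, h4, h4, h4, h1, h1, h2, h2,
    b2_symm D (resA A F inf_le_right b') (resA A F inf_le_left a),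
    b2_symm D (resA A F inf_le_left a') (resA A F inf_le_right b)]
  ring

end form

section nondeg

variable (K : Type u) [Field K] {Y : Scheme.{u}} [Y.Over (Spec (CommRingCat.of K))] {F G : Y.Modules}
  {U V : Y.Opens} (D : PairData none F G (fam U V) (fam_le U V)) (τ : SecA K G (U ⊓ V) →ₗ[K] K)

/-- Two maps out of the sections of a quasi-coherent module over an affine open agreeing on the restrictions of
the sections of a bigger affine open agree. -/
theorem hom_ext_res {W W' : Y.Opens} (hW : IsAffineOpen W) (hW' : IsAffineOpen W') (h : W' ≤ W)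
    (hF : Coh.IsQCoh F) {α β : Γ(F, W') →ₗ[Γ(Y, W')] Γ(G, W')}
    (hαβ : ∀ m : Γ(F, W), α (LocGen.res F h m) = β (LocGen.res F h m)) : α = β := by
  apply (K476.HomSh2.affEquivSelf (G := G) hW' hF).symm.injective
  refine K476.HomSh2.affSec_unique hW hF h fun m => ?_
  rw [K476.HomSh2.secMap_affEquivSelf_symm, K476.HomSh2.secMap_affEquivSelf_symm]
  exact hαβ m

/-- **Nondegeneracy**, from duality. -/
theorem P_nondeg (h2 : (2 : K) ≠ 0) (hF : Coh.IsQCoh F) (hU : IsAffineOpen U) (hV : IsAffineOpen V)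
    (hUV : IsAffineOpen (U ⊓ V)) (hcov : U ⊔ V = ⊤) (lam : Coh.HH Y G 1 →ₗ[K] K)
    (hlam : ∀ x, lam (h1Map K G hcov x) = τ x)
    (hdual : ∀ ψ : Coh.HH Y F 1 →ₗ[K] K, ∃ φ : F ⟶ G, ∀ x,
      ψ x = lam (Sheaf.H.map ((SheafOfModules.toSheaf Y.ringCatSheaf).map φ) 1 x))
    (y : SecA K F (U ⊓ V)) (hy : ∀ w, cechD K F U V w = 0 → P D τ w y = 0) : ∃ m, cechD K F U V m = y := by
  suffices h : h1Map K F hcov y = 0 by
    have h1 : y ∈ LinearMap.ker (h1Map K F hcov) := h
    rw [ker_h1Map] at h1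
    exact h1
  by_contra hne
  obtain ⟨ψ, hψ⟩ := Module.Projective.exists_dual_ne_zero K hne
  obtain ⟨φ, hφ⟩ := hdual ψ
  apply hψ
  -- `φ` is represented by a section
  let φl : ∀ W : Y.Opens, Γ(F, W) →ₗ[Γ(Y, W)] Γ(G, W) := fun W =>
    { toFun := φ.app W, map_add' := map_add _, map_smul' := fun c s => Scheme.Modules.Hom.app_smul φ c s }
  obtain ⟨w₀, hw₀⟩ := (bU_bij D).2 (φl U)
  obtain ⟨w₁, hw₁⟩ := (bV_bij D).2 (φl V)
  have e0 : bI D (LocGen.res F inf_le_left w₀) = φl (U ⊓ V) := by
    refine hom_ext_res hU hUV inf_le_left hF fun m => ?_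
    rw [bI_resU, hw₀]
    exact (LocGen.app_res φ inf_le_left m).symm
  have e1 : bI D (LocGen.res F inf_le_right w₁) = φl (U ⊓ V) := by
    refine hom_ext_res hV hUV inf_le_right hF fun m => ?_
    rw [bI_resV, hw₁]
    exact (LocGen.app_res φ inf_le_right m).symm
  have hw : LocGen.res F inf_le_left w₀ = LocGen.res F inf_le_right w₁ := (bI_bij D).1 (e0.trans e1.symm)
  have hc : cechD K F U V (toSecA w₀, toSecA w₁) = 0 := by
    rw [cechD_apply, sub_eq_zero]
    exact congrArg toSecA hw
  have h3 := hy _ hc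
  rw [P_apply] at h3
  have h4 : b2 (A := K) D (resA K F inf_le_left (toSecA w₀)) y = toSecA (φl (U ⊓ V) (toSecA.symm y)) :=
    congrArg toSecA (LinearMap.congr_fun e0 (toSecA.symm y))
  have h5 : b2 (A := K) D (resA K F inf_le_right (toSecA w₁)) y = toSecA (φl (U ⊓ V) (toSecA.symm y)) :=
    congrArg toSecA (LinearMap.congr_fun e1 (toSecA.symm y))
  dsimp only at h3
  rw [h4, h5, ← two_mul] at h3
  rcases mul_eq_zero.1 h3 with h6 | h6
  · exact absurd h6 h2
  rw [hφ]
  have h7 : Sheaf.H.map ((SheafOfModules.toSheaf Y.ringCatSheaf).map φ) 1 (h1Map K F hcov y) =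
      h1Map K G hcov (toSecA (φl (U ⊓ V) (toSecA.symm y))) :=
    (toH1_map (Y := Y.toTopCat) ((SheafOfModules.toSheaf Y.ringCatSheaf).map φ) hcov y).symm
  rw [h7, hlam]
  exact h6

end nondeg

end K707.ParForm
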