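import Groth.Agent.VBCurve.K707.ParBC
import Groth.Agent.VBCurve.K707.ParBase
import Groth.Agent.VBCurve.K707.DualBC
import Groth.Agent.CohqB.HomPost
import Groth.Agent.PerfA.CohSerre
import Groth.Agent.S0002
import Groth.Agent.S2500
import Groth.Agent.Flat2B.SmoothGeom
import Groth.Agent.Etcore.DimBaseChange

/-!
# Parity of `h^0` under specialization, over an affine base (helper707)
-/

set_option autoImplicit false
universe u
open CategoryTheory CategoryTheory.Limits AlgebraicGeometry TopologicalSpace Opposite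

namespace K707.ParLocal

open Groth.Agent Groth.Agent.Fdesc Groth.Agent.Picfga.ChiCech K707.ParPair K707.SecBase K707.ParForm K707.ParBC

/-- The structure map to functions on an affine open of a flat scheme is flat. -/
theorem flat_str {A : Type u} [CommRing A] {Y : Scheme.{u}} [Y.Over (Spec (CommRingCat.of A))]
    [Flat (Y ↘ Spec (CommRingCat.of A))] {U : Y.Opens} (hU : IsAffineOpen U) : (str A U).Flat := by
  have h1 : ((Y ↘ Spec (CommRingCat.of A)).appLE ⊤ U le_top).hom.Flat :=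
    HasRingHomProperty.appLE (P := @Flat) (Y ↘ Spec (CommRingCat.of A)) inferInstance
      ⟨⊤, isAffineOpen_top _⟩ ⟨U, hU⟩ le_top
  have h2 : (Scheme.ΓSpecIso (CommRingCat.of A)).inv.hom.Flat :=
    RingHom.Flat.of_bijective
      ((Scheme.ΓSpecIso (CommRingCat.of A)).symm.commRingCatIsoToRingEquiv.bijective)
  have h3 := h2.comp h1
  exact h3

/-- Sections of a finite locally free module over an affine open of a flat scheme are flat. -/
theorem flat_secA {A : Type u} [CommRing A] {Y : Scheme.{u}} [Y.Over (Spec (CommRingCat.of A))]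
    [Flat (Y ↘ Spec (CommRingCat.of A))] {F : Y.Modules} (hF : FlatMod.IsFinLocFree F) {U : Y.Opens}
    (hU : IsAffineOpen U) : Module.Flat A (SecA A F U) := by
  obtain ⟨h1, h2⟩ := CohqB.HomPost.projective_sections hF hU
  let j0 : Algebra A Γ(Y, U) := (str A U).toAlgebra
  have j1 : Module.Flat A Γ(Y, U) := flat_str hU
  let m1 : Module Γ(Y, U) (SecA A F U) := (inferInstance : Module Γ(Y, U) Γ(F, U))
  have t4 : IsScalarTower A Γ(Y, U) (SecA A F U) := ⟨fun a b c => by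
    rw [Algebra.smul_def, mul_smul]; rfl⟩
  have j2 : Module.Flat Γ(Y, U) (SecA A F U) :=
    (inferInstance : Module.Flat Γ(Y, U) Γ(F, U))
  exact Module.Flat.trans A Γ(Y, U) (SecA A F U)

/-- A functional on the sections over `U ⊓ V` killing the restrictions comes from one on `H^1`. -/
theorem exists_lam (K : Type u) [Field K] {Y : Scheme.{u}} [Y.Over (Spec (CommRingCat.of K))] {G : Y.Modules}
    (hG : Coh.IsQCoh G) {U V : Y.Opens} (hU : IsAffineOpen U) (hV : IsAffineOpen V) (hcov : U ⊔ V = ⊤)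
    (τ : SecA K G (U ⊓ V) →ₗ[K] K) (hτU : ∀ x : SecA K G U, τ (resA K G inf_le_left x) = 0)
    (hτV : ∀ x : SecA K G V, τ (resA K G inf_le_right x) = 0) :
    ∃ lam : Coh.HH Y G 1 →ₗ[K] K, ∀ x, lam (h1Map K G hcov x) = τ x := by
  have hle : LinearMap.ker (h1Map K G hcov) ≤ LinearMap.ker τ := by
    rw [ker_h1Map]
    rintro _ ⟨⟨a, b⟩, rfl⟩
    rw [LinearMap.mem_ker, cechD_apply, map_sub, hτU, hτV, sub_zero]
  let e := (h1Map K G hcov).quotKerEquivOfSurjective (h1Map_surjective K G hG hcov hU hV)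
  refine ⟨((LinearMap.ker (h1Map K G hcov)).liftQ τ hle).comp e.symm.toLinearMap, fun x => ?_⟩
  have h1 : e.symm (h1Map K G hcov x) = Submodule.Quotient.mk x := by
    rw [LinearEquiv.symm_apply_eq]
    rfl
  rw [LinearMap.comp_apply, LinearEquiv.coe_coe, h1]
  rfl

/-- Base change of a smooth proper curve over an algebraically closed field. -/
theorem curve_bc (k K : Type u) [Field k] [IsAlgClosed k] [Field K] [Algebra k K] {X Y : Scheme.{u}}
    [X.Over (Spec (CommRingCat.of k))] [Y.Over (Spec (CommRingCat.of K))] (g : Y ⟶ X)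
    (h : IsPullback g (Y ↘ Spec (CommRingCat.of K)) (X ↘ Spec (CommRingCat.of k))
      (Spec.map (CommRingCat.ofHom (algebraMap k K))))
    (hX : Curve.IsSmoothProperCurve k X (X ↘ (Spec (CommRingCat.of k)))) :
    Curve.IsSmoothProperCurve K Y (Y ↘ (Spec (CommRingCat.of K))) := by
  obtain ⟨h1, h2, h3, h4⟩ := hX
  have i1 : IsProper (Y ↘ (Spec (CommRingCat.of K))) := MorphismProperty.of_isPullback (P := @IsProper) h h1
  have i2 : Smooth (Y ↘ (Spec (CommRingCat.of K))) := MorphismProperty.of_isPullback (P := @Smooth) h h2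
  refine ⟨i1, i2, ?_, ?_⟩
  · have := S2500.result (X ↘ (Spec (CommRingCat.of k)))
    have h5 : GeometricallyIntegral (X ↘ (Spec (CommRingCat.of k))) :=
      Flat2B.SmoothGeom.geometricallyIntegral_of_smooth _
    have h6 : IsIntegral (pullback (X ↘ (Spec (CommRingCat.of k)))
        (Spec.map (CommRingCat.ofHom (algebraMap k K)))) :=
      GeometricallyIntegral.isIntegral_of_subsingleton (pullback.snd (X ↘ (Spec (CommRingCat.of k))) _)
    have : Nonempty Y := ⟨h.isoPullback.inv.base (Nonempty.some inferInstance)⟩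
    exact isIntegral_of_isOpenImmersion h.isoPullback.hom
  · rw [← h4]
    exact Etcore.DimBaseChange.topologicalKrullDim_eq (Field.toIsField k) (Field.toIsField K)
      (X ↘ (Spec (CommRingCat.of k))) (Y ↘ (Spec (CommRingCat.of K))) g _ h

section main

variable (k : Type u) [Field k] [IsAlgClosed k] (h2 : (2 : k) ≠ 0) {X : Scheme.{u}}
  [X.Over (Spec (CommRingCat.of k))] (hX : Curve.IsSmoothProperCurve k X (X ↘ (Spec (CommRingCat.of k))))
  {U V : X.Opens} (hU : IsAffineOpen U) (hV : IsAffineOpen V) (hUV : IsAffineOpen (U ⊓ V)) (hcov : U ⊔ V = ⊤)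

include hX hU hV hcov in
/-- a trace on the Cech cocycles of `Ω` -/
theorem exists_trace :
    ∃ τ : SecA k (Omega.sheaf (X ↘ (Spec (CommRingCat.of k)))) (U ⊓ V) →ₗ[k] k,
      (∀ x : SecA k (Omega.sheaf (X ↘ (Spec (CommRingCat.of k)))) U, τ (resA k _ inf_le_left x) = 0) ∧
      (∀ x : SecA k (Omega.sheaf (X ↘ (Spec (CommRingCat.of k)))) V, τ (resA k _ inf_le_right x) = 0) ∧
      ∃ x, τ x ≠ 0 := by
  obtain ⟨hp, hs, hi, hd⟩ := id hX
  let Om := Omega.sheaf (X ↘ (Spec (CommRingCat.of k)))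
  have hΩ : PicF.IsInvertible Om := CurvesB.OmegaInv.isInvertible_omega _ hd
  have hΩq : Coh.IsQCoh Om := (VarietyA.CurveFin.isCoh_of_isInvertible hΩ).1
  obtain ⟨s0, s1⟩ := CurvesB.SmoothCurveSerre.serre_duality k X hX
  rw [VarietyA.CurveFin.finrank_h0_structure] at s1
  have hnt : Nontrivial (Coh.HH X Om 1) := Module.nontrivial_of_finrank_pos (R := k) (by rw [s1]; exact Nat.one_pos)
  obtain ⟨x, hx⟩ := exists_ne (0 : Coh.HH X Om 1)
  have hfree : Module.Free k (Coh.HH X Om 1) := Module.Free.of_divisionRing k _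
  have hproj : Module.Projective k (Coh.HH X Om 1) := Module.Projective.of_free
  obtain ⟨t, ht⟩ := Module.Projective.exists_dual_ne_zero k hx
  obtain ⟨z, rfl⟩ := h1Map_surjective k Om hΩq hcov hU hV x
  refine ⟨t.comp (h1Map k Om hcov), fun y => ?_, fun y => ?_, z, ht⟩
  · have h1 : resA k Om inf_le_left y ∈ LinearMap.ker (h1Map k Om hcov) := by
      rw [ker_h1Map]
      exact ⟨(y, 0), by rw [cechD_apply, map_zero, sub_zero]⟩
    rw [LinearMap.comp_apply, LinearMap.mem_ker.mp h1, map_zero]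
  · have h1 : resA k Om inf_le_right y ∈ LinearMap.ker (h1Map k Om hcov) := by
      rw [ker_h1Map]
      exact ⟨(0, -y), by rw [cechD_apply, map_zero, map_neg, zero_sub, neg_neg]⟩
    rw [LinearMap.comp_apply, LinearMap.mem_ker.mp h1, map_zero]

include h2 hX hU hV hUV hcov in
/-- **Parity of `h^0` under specialization**, for a module with a symmetric perfect pairing with values in the
pullback of `Ω`, over an affine Noetherian base. -/
theorem parity (B : Type u) [CommRing B] [IsNoetherianRing B] [Algebra k B] {Y : Scheme.{u}}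
    [Y.Over (Spec (CommRingCat.of B))] (q : Y ⟶ X)
    (hq : IsPullback q (Y ↘ Spec (CommRingCat.of B)) (X ↘ Spec (CommRingCat.of k))
      (Spec.map (CommRingCat.ofHom (algebraMap k B))))
    (F : Y.Modules) (hF : FlatMod.IsFinLocFree F)
    (D : PairData none F ((Scheme.Modules.pullback q).obj (Omega.sheaf (X ↘ (Spec (CommRingCat.of k)))))
      (fam (q ⁻¹ᵁ U) (q ⁻¹ᵁ V)) (fam_le (q ⁻¹ᵁ U) (q ⁻¹ᵁ V)))
    (p₀ : Ideal B) [p₀.IsPrime]
    {YK : Scheme.{u}} [YK.Over (Spec (CommRingCat.of p₀.ResidueField))] (gK : YK ⟶ Y)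
    (hK : IsPullback gK (YK ↘ Spec (CommRingCat.of p₀.ResidueField)) (Y ↘ Spec (CommRingCat.of B))
      (Spec.map (CommRingCat.ofHom (algebraMap B p₀.ResidueField))))
    (L : Type u) [Field L] [Algebra B L] (hLp : RingHom.ker (algebraMap B L) ≤ p₀)
    {YL : Scheme.{u}} [YL.Over (Spec (CommRingCat.of L))] (gL : YL ⟶ Y)
    (hL : IsPullback gL (YL ↘ Spec (CommRingCat.of L)) (Y ↘ Spec (CommRingCat.of B))
      (Spec.map (CommRingCat.ofHom (algebraMap B L)))) :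
    Even (Module.finrank p₀.ResidueField (Coh.HH YK ((Scheme.Modules.pullback gK).obj F) 0) -
      Module.finrank L (Coh.HH YL ((Scheme.Modules.pullback gL).obj F) 0)) ∧
    Module.finrank L (Coh.HH YL ((Scheme.Modules.pullback gL).obj F) 0) ≤
      Module.finrank p₀.ResidueField (Coh.HH YK ((Scheme.Modules.pullback gK).obj F) 0) := by
  obtain ⟨hp, hs, hi, hd⟩ := id hX
  let Om := Omega.sheaf (X ↘ (Spec (CommRingCat.of k)))
  have hΩ : PicF.IsInvertible Om := CurvesB.OmegaInv.isInvertible_omega _ hd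
  have hΩq : Coh.IsQCoh Om := (VarietyA.CurveFin.isCoh_of_isInvertible hΩ).1
  let G := (Scheme.Modules.pullback q).obj Om
  have hGq : Coh.IsQCoh G := VarietyB.PullSec.isQCoh_pullback q Om hΩq
  have hFc : Coh.IsCoh F := PerfA.CohSerre.isCoh_of_isFinLocFree hF
  have hpY : IsProper (Y ↘ (Spec (CommRingCat.of B))) := MorphismProperty.of_isPullback (P := @IsProper) hq hp
  have hsY : Smooth (Y ↘ (Spec (CommRingCat.of B))) := MorphismProperty.of_isPullback (P := @Smooth) hq hs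
  have hfY : Flat (Y ↘ (Spec (CommRingCat.of B))) := inferInstance
  -- opens of `Y`
  have aq := isAffineHom_g q hq
  have hU' : IsAffineOpen (q ⁻¹ᵁ U) := hU.preimage q
  have hV' : IsAffineOpen (q ⁻¹ᵁ V) := hV.preimage q
  have hUV' : IsAffineOpen (q ⁻¹ᵁ U ⊓ q ⁻¹ᵁ V) := hUV.preimage q
  have hcov' : q ⁻¹ᵁ U ⊔ q ⁻¹ᵁ V = ⊤ := by
    rw [← Scheme.Hom.preimage_sup, hcov, Scheme.Hom.preimage_top]
  -- the trace
  obtain ⟨τ₀, ht1, ht2, z, hz⟩ := exists_trace k hX hU hV hcov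
  let τ : SecA B G (q ⁻¹ᵁ U ⊓ q ⁻¹ᵁ V) →ₗ[B] B := trBC q hq hΩq hUV τ₀
  have hτU := trBC_resU q hq hΩq hU hUV τ₀ ht1
  have hτV := trBC_resV q hq hΩq hV hUV τ₀ ht2
  have hfp : ∀ i, Module.Finite Γ(Y, fam (q ⁻¹ᵁ U) (q ⁻¹ᵁ V) i) Γ(F, fam (q ⁻¹ᵁ U) (q ⁻¹ᵁ V) i) ∧
      Module.Projective Γ(Y, fam (q ⁻¹ᵁ U) (q ⁻¹ᵁ V) i) Γ(F, fam (q ⁻¹ᵁ U) (q ⁻¹ᵁ V) i) := by
    intro i
    obtain ⟨e1, e2⟩ := CohqB.HomPost.projective_sections hF (fam_aff hU' hV' hUV' i)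
    exact ⟨inferInstance, e2⟩
  -- finiteness
  have f0 : Module.Finite B (LinearMap.ker (cechD B F (q ⁻¹ᵁ U) (q ⁻¹ᵁ V))) := by
    have := S0002.result B Y F hFc 0
    exact Module.Finite.equiv (h0Equiv B F hcov')
  have f1 : Module.Finite B (SecA B F (q ⁻¹ᵁ U ⊓ q ⁻¹ᵁ V) ⧸ LinearMap.range (cechD B F (q ⁻¹ᵁ U) (q ⁻¹ᵁ V))) := by
    have := S0002.result B Y F hFc 1
    exact Module.Finite.equiv (h1Equiv B F hFc.1 hcov' hU' hV').symm
  -- flatness
  have fl0 : Module.Flat B (SecA B F (q ⁻¹ᵁ U)) := flat_secA hF hU'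
  have fl1 : Module.Flat B (SecA B F (q ⁻¹ᵁ V)) := flat_secA hF hV'
  have fl2 : Module.Flat B (SecA B F (q ⁻¹ᵁ U ⊓ q ⁻¹ᵁ V)) := flat_secA hF hUV'
  have fl3 : Module.Flat B (SecA B F (q ⁻¹ᵁ U) × SecA B F (q ⁻¹ᵁ V)) := ParAlg.flat_prod
  -- base change to the closed point
  have aK := isAffineHom_g gK hK
  have hFKq : Coh.IsQCoh ((Scheme.Modules.pullback gK).obj F) := VarietyB.PullSec.isQCoh_pullback gK F hFc.1
  have hcovK : gK ⁻¹ᵁ q ⁻¹ᵁ U ⊔ gK ⁻¹ᵁ q ⁻¹ᵁ V = ⊤ := by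
    rw [← Scheme.Hom.preimage_sup, hcov', Scheme.Hom.preimage_top]
  let mU := modA B (B := p₀.ResidueField) ((Scheme.Modules.pullback gK).obj F) (gK ⁻¹ᵁ q ⁻¹ᵁ U)
  let mV := modA B (B := p₀.ResidueField) ((Scheme.Modules.pullback gK).obj F) (gK ⁻¹ᵁ q ⁻¹ᵁ V)
  let mI := modA B (B := p₀.ResidueField) ((Scheme.Modules.pullback gK).obj F) (gK ⁻¹ᵁ q ⁻¹ᵁ U ⊓ gK ⁻¹ᵁ q ⁻¹ᵁ V)
  have tU := towerA B (B := p₀.ResidueField) ((Scheme.Modules.pullback gK).obj F) (gK ⁻¹ᵁ q ⁻¹ᵁ U)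
  have tV := towerA B (B := p₀.ResidueField) ((Scheme.Modules.pullback gK).obj F) (gK ⁻¹ᵁ q ⁻¹ᵁ V)
  have tI := towerA B (B := p₀.ResidueField) ((Scheme.Modules.pullback gK).obj F)
    (gK ⁻¹ᵁ q ⁻¹ᵁ U ⊓ gK ⁻¹ᵁ q ⁻¹ᵁ V)
  let sK : SecA B F (q ⁻¹ᵁ U ⊓ q ⁻¹ᵁ V) →ₗ[B]
      SecA p₀.ResidueField ((Scheme.Modules.pullback gK).obj F) (gK ⁻¹ᵁ q ⁻¹ᵁ U ⊓ gK ⁻¹ᵁ q ⁻¹ᵁ V) :=
    secA gK hK F (q ⁻¹ᵁ U ⊓ q ⁻¹ᵁ V) hUV'
  have bI : IsBaseChange p₀.ResidueField sK := isBaseChange_secA gK hK F hFc.1 (q ⁻¹ᵁ U ⊓ q ⁻¹ᵁ V) hUV'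
  have bUV : IsBaseChange p₀.ResidueField
      ((secA gK hK F (q ⁻¹ᵁ U) hU').prodMap (secA gK hK F (q ⁻¹ᵁ V) hV')) :=
    IsBaseChange.prodMap _ _ (isBaseChange_secA gK hK F hFc.1 (q ⁻¹ᵁ U) hU')
      (isBaseChange_secA gK hK F hFc.1 (q ⁻¹ᵁ V) hV')
  let DK := pairBC gK hK D hU' hV' hUV' hFc.1 hGq (fun i => (hfp i).1) (fun i => (hfp i).2)
  let τK := trBC gK hK hGq hUV' τ
  -- base change to `L`
  have aL := isAffineHom_g gL hL
  have hcovL : gL ⁻¹ᵁ q ⁻¹ᵁ U ⊔ gL ⁻¹ᵁ q ⁻¹ᵁ V = ⊤ := by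
    rw [← Scheme.Hom.preimage_sup, hcov', Scheme.Hom.preimage_top]
  let nU := modA B (B := L) ((Scheme.Modules.pullback gL).obj F) (gL ⁻¹ᵁ q ⁻¹ᵁ U)
  let nV := modA B (B := L) ((Scheme.Modules.pullback gL).obj F) (gL ⁻¹ᵁ q ⁻¹ᵁ V)
  let nI := modA B (B := L) ((Scheme.Modules.pullback gL).obj F) (gL ⁻¹ᵁ q ⁻¹ᵁ U ⊓ gL ⁻¹ᵁ q ⁻¹ᵁ V)
  have uU := towerA B (B := L) ((Scheme.Modules.pullback gL).obj F) (gL ⁻¹ᵁ q ⁻¹ᵁ U)
  have uV := towerA B (B := L) ((Scheme.Modules.pullback gL).obj F) (gL ⁻¹ᵁ q ⁻¹ᵁ V)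
  have uI := towerA B (B := L) ((Scheme.Modules.pullback gL).obj F)
    (gL ⁻¹ᵁ q ⁻¹ᵁ U ⊓ gL ⁻¹ᵁ q ⁻¹ᵁ V)
  let sL : SecA B F (q ⁻¹ᵁ U ⊓ q ⁻¹ᵁ V) →ₗ[B]
      SecA L ((Scheme.Modules.pullback gL).obj F) (gL ⁻¹ᵁ q ⁻¹ᵁ U ⊓ gL ⁻¹ᵁ q ⁻¹ᵁ V) :=
    secA gL hL F (q ⁻¹ᵁ U ⊓ q ⁻¹ᵁ V) hUV'
  have cI : IsBaseChange L sL := isBaseChange_secA gL hL F hFc.1 (q ⁻¹ᵁ U ⊓ q ⁻¹ᵁ V) hUV'
  have cUV : IsBaseChange L
      ((secA gL hL F (q ⁻¹ᵁ U) hU').prodMap (secA gL hL F (q ⁻¹ᵁ V) hV')) :=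
    IsBaseChange.prodMap _ _ (isBaseChange_secA gL hL F hFc.1 (q ⁻¹ᵁ U) hU')
      (isBaseChange_secA gL hL F hFc.1 (q ⁻¹ᵁ V) hV')
  have h2L : (2 : L) ≠ 0 := by
    have h3 : ((algebraMap B L).comp (algebraMap k B)) 2 ≠ 0 := by
      rw [map_ne_zero]
      exact h2
    rwa [map_ofNat] at h3
  have h2K : (2 : p₀.ResidueField) ≠ 0 := by
    have h3 : ((algebraMap B p₀.ResidueField).comp (algebraMap k B)) 2 ≠ 0 := by
      rw [map_ne_zero]
      exact h2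
    rwa [map_ofNat] at h3
  -- nondegeneracy
  have hnd : ∀ y, (∀ w, cechD p₀.ResidueField ((Scheme.Modules.pullback gK).obj F) (gK ⁻¹ᵁ q ⁻¹ᵁ U)
      (gK ⁻¹ᵁ q ⁻¹ᵁ V) w = 0 → P DK τK w y = 0) →
      ∃ m, cechD p₀.ResidueField ((Scheme.Modules.pullback gK).obj F) (gK ⁻¹ᵁ q ⁻¹ᵁ U)
        (gK ⁻¹ᵁ q ⁻¹ᵁ V) m = y := by
    let GK := (Scheme.Modules.pullback gK).obj G
    have hGKq : Coh.IsQCoh GK := VarietyB.PullSec.isQCoh_pullback gK G hGq
    obtain ⟨lam, hlam⟩ := exists_lam p₀.ResidueField hGKq (hU'.preimage gK) (hV'.preimage gK) hcovK τK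
      (trBC_resU gK hK hGq hU' hUV' τ hτU) (trBC_resV gK hK hGq hV' hUV' τ hτV)
    have hne : lam ≠ 0 := by
      intro h0
      have h3 := hlam (secA gK hK G (q ⁻¹ᵁ U ⊓ q ⁻¹ᵁ V) hUV' (secA q hq Om (U ⊓ V) hUV z))
      have h4 : τK (secA gK hK G (q ⁻¹ᵁ U ⊓ q ⁻¹ᵁ V) hUV' (secA q hq Om (U ⊓ V) hUV z)) =
          algebraMap B p₀.ResidueField (algebraMap k B (τ₀ z)) := by
        rw [← trBC_secA q hq hΩq hUV τ₀ z]
        exact trBC_secA gK hK hGq hUV' τ _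
      rw [h0, LinearMap.zero_apply, h4] at h3
      have h5 : ((algebraMap B p₀.ResidueField).comp (algebraMap k B)) (τ₀ z) ≠ 0 := by
        rw [map_ne_zero]
        exact hz
      exact h5 h3.symm
    let algK : Algebra k p₀.ResidueField := ((algebraMap B p₀.ResidueField).comp (algebraMap k B)).toAlgebra
    have hpb : IsPullback (gK ≫ q) (YK ↘ Spec (CommRingCat.of p₀.ResidueField)) (X ↘ Spec (CommRingCat.of k))
        (Spec.map (CommRingCat.ofHom (algebraMap k p₀.ResidueField))) := by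
      have h6 := hK.paste_horiz hq
      have h7 : Spec.map (CommRingCat.ofHom (algebraMap B p₀.ResidueField)) ≫
          Spec.map (CommRingCat.ofHom (algebraMap k B)) =
          Spec.map (CommRingCat.ofHom (algebraMap k p₀.ResidueField)) := by
        rw [← Spec.map_comp]
        rfl
      rwa [h7] at h6
    have hYK := curve_bc k p₀.ResidueField (gK ≫ q) hpb hX
    exact P_nondeg p₀.ResidueField DK τK h2K hFKq (hU'.preimage gK) (hV'.preimage gK) (hUV'.preimage gK) hcovK lam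
      hlam (DualBC.exists_dual k p₀.ResidueField (gK ≫ q) hpb hX hYK
        ((Scheme.Modules.pullbackComp gK q).app Om) lam hne _ hFKq)
  have key := ParBase.parity (cechD B F (q ⁻¹ᵁ U) (q ⁻¹ᵁ V)) f0 f1 (P D τ) (P_skew D τ hτU hτV) p₀ bUV bI
    (cechD p₀.ResidueField ((Scheme.Modules.pullback gK).obj F) (gK ⁻¹ᵁ q ⁻¹ᵁ U) (gK ⁻¹ᵁ q ⁻¹ᵁ V))
    (cechD_secA gK hK F hU' hV' hUV') (P DK τK)
    (P_secA gK hK D hU' hV' hUV' hFc.1 hGq (fun i => (hfp i).1) (fun i => (hfp i).2) τ) hnd h2L hLp cUV cI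
    (cechD L ((Scheme.Modules.pullback gL).obj F) (gL ⁻¹ᵁ q ⁻¹ᵁ U) (gL ⁻¹ᵁ q ⁻¹ᵁ V))
    (cechD_secA gL hL F hU' hV' hUV')
  rw [(h0Equiv p₀.ResidueField ((Scheme.Modules.pullback gK).obj F) hcovK).finrank_eq,
    (h0Equiv L ((Scheme.Modules.pullback gL).obj F) hcovL).finrank_eq]
  exact key

end main

end K707.ParLocal
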