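import Groth.Agent.SDiv.K476.HomSh2
import Groth.Agent.VBCurve.K707.PairAlg
import Groth.Agent.VarietyB.PullSec
import Groth.Agent.Picfga.ChiCech

/-!
# Symmetric pairings with values in a module, on a family of affine opens (helper707)
-/

set_option autoImplicit false
universe u
open CategoryTheory CategoryTheory.Limits AlgebraicGeometry TopologicalSpace Opposite

namespace K707.ParPair

open Groth.Agent Groth.Agent.Fdesc

/-- A symmetric bilinear pairing on the sections of `F` over a family of opens, with values in `G`. -/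
structure PairData {ι : Type} (o : ι) {Y : Scheme.{u}} (F G : Y.Modules) (W : ι → Y.Opens)
    (hW : ∀ i, W o ≤ W i) where
  /-- the pairing -/
  b : ∀ i, Γ(F, W i) →ₗ[Γ(Y, W i)] Γ(F, W i) →ₗ[Γ(Y, W i)] Γ(G, W i)
  res : ∀ i s t, b o (LocGen.res F (hW i) s) (LocGen.res F (hW i) t) = LocGen.res G (hW i) (b i s t)
  symm : ∀ i s t, b i s t = b i t s
  perf : ∀ i, Function.Bijective (b i)

variable {ι : Type} {o : ι} {Y : Scheme.{u}} {F G G' : Y.Modules} {W : ι → Y.Opens} {hW : ∀ i, W o ≤ W i}

/-- The pairing defined by an isomorphism onto the sheaf Hom. -/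
noncomputable def ofSigma (σ : F ≅ RefHull.homSh F G)
    (hσ : ∀ (U : Y.Opens) (s t : Γ(F, U)) (x : U),
      (σ.hom.app U s).1 x (F.presheaf.germ U x.1 x.2 t) = (σ.hom.app U t).1 x (F.presheaf.germ U x.1 x.2 s))
    (hF : Coh.IsQCoh F) (W : ι → Y.Opens) (hW : ∀ i, W o ≤ W i) (hWa : ∀ i, IsAffineOpen (W i)) :
    PairData o F G W hW where
  b i := LinearMap.mk₂ Γ(Y, W i) (fun s t => K476.HomSh1.secMap (σ.hom.app (W i) s) le_rfl t)
    (fun s s' t => by
      rw [map_add, K476.HomSh1.secMap_add, LinearMap.add_apply])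
    (fun c s t => by
      rw [Scheme.Modules.Hom.app_smul, K476.HomSh1.secMap_smul])
    (fun s t t' => by rw [map_add])
    (fun c s t => by rw [map_smul])
  res i s t := by
    rw [LinearMap.mk₂_apply, LinearMap.mk₂_apply]
    have h1 : σ.hom.app (W o) (LocGen.res F (hW i) s) =
        Ega1.QCohLoc.res (RefHull.homSh F G) (hW i) (σ.hom.app (W i) s) :=
      Ega1.QCohLoc.res_app σ.hom (hW i) s
    rw [h1, K476.HomSh1.secMap_res_left]
    exact K476.HomSh1.secMap_res (σ.hom.app (W i) s) le_rfl (hW i) t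
  symm i s t := by
    rw [LinearMap.mk₂_apply, LinearMap.mk₂_apply]
    refine K476.HomSh1.sec_ext G fun x hx => ?_
    rw [K476.HomSh1.germ_secMap, K476.HomSh1.germ_secMap]
    exact hσ (W i) s t ⟨x, hx⟩
  perf i := by
    have h1 : Function.Bijective (σ.hom.app (W i)) := by
      refine ⟨fun a b hab => ?_, fun a => ⟨σ.inv.app (W i) a, ?_⟩⟩
      · have h2 : ∀ a, σ.inv.app (W i) (σ.hom.app (W i) a) = a := fun a => by
          have := congrArg (fun φ : F ⟶ F => φ.app (W i) a) σ.hom_inv_id
          exact this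
        rw [← h2 a, ← h2 b, hab]
      · have := congrArg (fun φ : RefHull.homSh F G ⟶ RefHull.homSh F G => φ.app (W i) a) σ.inv_hom_id
        exact this
    exact (K476.HomSh2.affEquivSelf (hWa i) hF).bijective.comp h1

/-- Transport along an isomorphism of the module of values. -/
noncomputable def mapRight (D : PairData o F G W hW) (e : G ≅ G') : PairData o F G' W hW where
  b i := LinearMap.mk₂ Γ(Y, W i) (fun s t => e.hom.app (W i) (D.b i s t))
    (fun s s' t => by rw [map_add, LinearMap.add_apply, map_add])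
    (fun c s t => by rw [map_smul, LinearMap.smul_apply, Scheme.Modules.Hom.app_smul])
    (fun s t t' => by rw [map_add, map_add])
    (fun c s t => by rw [map_smul, Scheme.Modules.Hom.app_smul])
  res i s t := by
    rw [LinearMap.mk₂_apply, LinearMap.mk₂_apply, D.res]
    exact LocGen.app_res e.hom (hW i) _
  symm i s t := by rw [LinearMap.mk₂_apply, LinearMap.mk₂_apply, D.symm]
  perf i := by
    have h1 : ∀ a, e.inv.app (W i) (e.hom.app (W i) a) = a := fun a =>
      congrArg (fun φ : G ⟶ G => φ.app (W i) a) e.hom_inv_id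
    have h2 : ∀ a, e.hom.app (W i) (e.inv.app (W i) a) = a := fun a =>
      congrArg (fun φ : G' ⟶ G' => φ.app (W i) a) e.inv_hom_id
    constructor
    · intro s s' h
      apply (D.perf i).1
      ext t
      have h3 := LinearMap.congr_fun h t
      rw [LinearMap.mk₂_apply, LinearMap.mk₂_apply] at h3
      rw [← h1 (D.b i s t), h3, h1]
    · intro φ
      obtain ⟨s, hs⟩ := (D.perf i).2
        { toFun := fun t => e.inv.app (W i) (φ t)
          map_add' := fun t t' => by rw [map_add, map_add]
          map_smul' := fun c t => by rw [map_smul, Scheme.Modules.Hom.app_smul, RingHom.id_apply] }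
      refine ⟨s, ?_⟩
      ext t
      rw [LinearMap.mk₂_apply, hs]
      exact h2 _

section pull

variable (D : PairData o F G W hW) {Y' : Scheme.{u}} (g : Y' ⟶ Y) (W' : ι → Y'.Opens) (hW' : ∀ i, W' o ≤ W' i)
  (e : ∀ i, W' i ≤ g ⁻¹ᵁ W i) (hWa : ∀ i, IsAffineOpen (W i)) (hWa' : ∀ i, IsAffineOpen (W' i))
  (hF : Coh.IsQCoh F) (hG : Coh.IsQCoh G)

include hF hWa hWa' in
/-- Every section of the pullback is in the span of the pulled back ones: induction principle. -/
theorem sec_induction (i : ι) (P : Γ((Scheme.Modules.pullback g).obj F, W' i) → Prop)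
    (h0 : P 0) (h1 : ∀ s, P (VarietyB.PullSec.sec g F (e i) s)) (h2 : ∀ (c : Γ(Y', W' i)) s, P s → P (c • s))
    (h3 : ∀ s t, P s → P t → P (s + t)) (s : Γ((Scheme.Modules.pullback g).obj F, W' i)) : P s := by
  let j1 : Algebra Γ(Y, W i) Γ(Y', W' i) := (g.appLE (W i) (W' i) (e i)).hom.toAlgebra
  let j2 := VarietyB.PullSec.secModule g F (e i)
  have j3 : IsScalarTower Γ(Y, W i) Γ(Y', W' i) Γ((Scheme.Modules.pullback g).obj F, W' i) :=
      ⟨fun a b c => by rw [Algebra.smul_def, mul_smul]; rfl⟩
  exact (VarietyB.PullSec.isBaseChange_secₗ g F (e i) hF (hWa i) (hWa' i)).inductionOn s P h0 h1 h2 h3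

/-- the pulled back pairing -/
noncomputable def pullB (i : ι) : Γ((Scheme.Modules.pullback g).obj F, W' i) →ₗ[Γ(Y', W' i)]
    Γ((Scheme.Modules.pullback g).obj F, W' i) →ₗ[Γ(Y', W' i)] Γ((Scheme.Modules.pullback g).obj G, W' i) :=
  letI j1 : Algebra Γ(Y, W i) Γ(Y', W' i) := (g.appLE (W i) (W' i) (e i)).hom.toAlgebra
  letI j2 := VarietyB.PullSec.secModule g F (e i)
  haveI j3 : IsScalarTower Γ(Y, W i) Γ(Y', W' i) Γ((Scheme.Modules.pullback g).obj F, W' i) :=
      ⟨fun a b c => by rw [Algebra.smul_def, mul_smul]; rfl⟩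
  letI j4 := VarietyB.PullSec.secModule g G (e i)
  haveI j5 : IsScalarTower Γ(Y, W i) Γ(Y', W' i) Γ((Scheme.Modules.pullback g).obj G, W' i) :=
      ⟨fun a b c => by rw [Algebra.smul_def, mul_smul]; rfl⟩
  PairAlg.bcBil (VarietyB.PullSec.isBaseChange_secₗ g F (e i) hF (hWa i) (hWa' i))
    (VarietyB.PullSec.secₗ g G (e i)) (D.b i)

theorem pullB_sec (i : ι) (s t : Γ(F, W i)) :
    pullB D g W' e hWa hWa' hF i (VarietyB.PullSec.sec g F (e i) s) (VarietyB.PullSec.sec g F (e i) t) =
      VarietyB.PullSec.sec g G (e i) (D.b i s t) := by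
  let j1 : Algebra Γ(Y, W i) Γ(Y', W' i) := (g.appLE (W i) (W' i) (e i)).hom.toAlgebra
  let j2 := VarietyB.PullSec.secModule g F (e i)
  have j3 : IsScalarTower Γ(Y, W i) Γ(Y', W' i) Γ((Scheme.Modules.pullback g).obj F, W' i) :=
      ⟨fun a b c => by rw [Algebra.smul_def, mul_smul]; rfl⟩
  let j4 := VarietyB.PullSec.secModule g G (e i)
  have j5 : IsScalarTower Γ(Y, W i) Γ(Y', W' i) Γ((Scheme.Modules.pullback g).obj G, W' i) :=
      ⟨fun a b c => by rw [Algebra.smul_def, mul_smul]; rfl⟩
  exact PairAlg.bcBil_apply (VarietyB.PullSec.isBaseChange_secₗ g F (e i) hF (hWa i) (hWa' i))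
    (VarietyB.PullSec.secₗ g G (e i)) (D.b i) s t

/-- The pullback of a pairing. -/
noncomputable def pull (hfin : ∀ i, Module.Finite Γ(Y, W i) Γ(F, W i))
    (hproj : ∀ i, Module.Projective Γ(Y, W i) Γ(F, W i)) :
    PairData o ((Scheme.Modules.pullback g).obj F) ((Scheme.Modules.pullback g).obj G) W' hW' where
  b i := pullB D g W' e hWa hWa' hF i
  res i s t := by
    induction s using sec_induction g W' e hWa hWa' hF i with
    | h0 => simp
    | h2 c s hs => rw [LocGen.res_smul, map_smul, map_smul, LinearMap.smul_apply, LinearMap.smul_apply,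
        LocGen.res_smul, hs]
    | h3 s s' hs hs' => rw [map_add, map_add, map_add, LinearMap.add_apply, LinearMap.add_apply, map_add, hs, hs']
    | h1 s =>
      induction t using sec_induction g W' e hWa hWa' hF i with
      | h0 => simp
      | h2 c t ht => rw [LocGen.res_smul, map_smul, map_smul, LocGen.res_smul, ht]
      | h3 t t' ht ht' => rw [map_add, map_add, map_add, map_add, ht, ht']
      | h1 t =>
        have h1 : ∀ s, LocGen.res ((Scheme.Modules.pullback g).obj F) (hW' i) (VarietyB.PullSec.sec g F (e i) s) =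
            VarietyB.PullSec.sec g F (e o) (LocGen.res F (hW i) s) := fun s =>
          VarietyB.PullSec.sec_res g F (e i) (e o) (hW i) (hW' i) s
        rw [h1, h1, pullB_sec, pullB_sec, D.res]
        exact (VarietyB.PullSec.sec_res g G (e i) (e o) (hW i) (hW' i) _).symm
  symm i s t := by
    induction s using sec_induction g W' e hWa hWa' hF i with
    | h0 => simp
    | h2 c s hs => rw [map_smul, LinearMap.smul_apply, map_smul, hs]
    | h3 s s' hs hs' => rw [map_add, LinearMap.add_apply, map_add, hs, hs']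
    | h1 s =>
      induction t using sec_induction g W' e hWa hWa' hF i with
      | h0 => simp
      | h2 c t ht =>
        rw [LinearMap.map_smul, ht, LinearMap.map_smul (pullB D g W' e hWa hWa' hF i), LinearMap.smul_apply]
      | h3 t t' ht ht' =>
        rw [LinearMap.map_add, ht, ht', LinearMap.map_add (pullB D g W' e hWa hWa' hF i), LinearMap.add_apply]
      | h1 t => rw [pullB_sec, pullB_sec, D.symm]
  perf i := by
    let j1 : Algebra Γ(Y, W i) Γ(Y', W' i) := (g.appLE (W i) (W' i) (e i)).hom.toAlgebra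
    let j2 := VarietyB.PullSec.secModule g F (e i)
    have j3 : IsScalarTower Γ(Y, W i) Γ(Y', W' i) Γ((Scheme.Modules.pullback g).obj F, W' i) :=
        ⟨fun a b c => by rw [Algebra.smul_def, mul_smul]; rfl⟩
    let j4 := VarietyB.PullSec.secModule g G (e i)
    have j5 : IsScalarTower Γ(Y, W i) Γ(Y', W' i) Γ((Scheme.Modules.pullback g).obj G, W' i) :=
        ⟨fun a b c => by rw [Algebra.smul_def, mul_smul]; rfl⟩
    have := hfin i
    have := hproj i
    exact PairAlg.bcBil_bijective (VarietyB.PullSec.isBaseChange_secₗ g F (e i) hF (hWa i) (hWa' i))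
      (VarietyB.PullSec.isBaseChange_secₗ g G (e i) hG (hWa i) (hWa' i)) (D.b i) (D.perf i)

theorem pull_sec (hfin : ∀ i, Module.Finite Γ(Y, W i) Γ(F, W i))
    (hproj : ∀ i, Module.Projective Γ(Y, W i) Γ(F, W i)) (i : ι) (s t : Γ(F, W i)) :
    (pull D g W' hW' e hWa hWa' hF hG hfin hproj).b i (VarietyB.PullSec.sec g F (e i) s)
      (VarietyB.PullSec.sec g F (e i) t) = VarietyB.PullSec.sec g G (e i) (D.b i s t) :=
  pullB_sec D g W' e hWa hWa' hF i s t

end pull

end K707.ParPair
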