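import Groth.Agent.VBCurve.K707.IndepGlob

/-!
# Restriction of local bases along open immersions (helper707)
-/

set_option autoImplicit false
universe u

open CategoryTheory CategoryTheory.Limits AlgebraicGeometry Opposite TopologicalSpace
open scoped TensorProduct

namespace K707.RestrBasis

open Groth.Agent.Sga67.Sec Groth.Agent.Sga67.LocBasis Groth.Agent.Sga67.LocBasisStalk
open K707.Indep K707.IndepCoker K707.IndepGlob

variable {X T : Scheme.{u}} {E M : X.Modules} {n m r : ℕ} (j : T ⟶ X) [IsOpenImmersion j]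

theorem restrict_smul' {V : T.Opens} (a : Γ(T, V)) (s : Sec (M.restrict j) V) :
    (show Sec M (j ''ᵁ V) from (a • s)) =
      ((j.appIso V).inv a) • (show Sec M (j ''ᵁ V) from s) := rfl

theorem restrict_res' {V V' : T.Opens} (h : V' ≤ V) (s : Sec (M.restrict j) V) :
    res (M.restrict j) h s =
      res M (U := j ''ᵁ V) (V := j ''ᵁ V') (Scheme.Hom.image_mono _ h) s := rfl

theorem restrict_sum' {V : T.Opens} {κ : Type*} [Fintype κ] (s : κ → Sec (M.restrict j) V) :
    (show Sec M (j ''ᵁ V) from (∑ i, s i)) = ∑ i, (show Sec M (j ''ᵁ V) from s i) := rfl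

/-- A local basis over an open of `X` in the image is one of the restriction. -/
theorem isLocBasis_restrict_of' {V : T.Opens} {κ : Type*} [Fintype κ]
    {b : κ → Sec M (j ''ᵁ V)} (hb : IsLocBasis b) : IsLocBasis (M := M.restrict j) (U := V) b := by
  intro V' h'
  have h'' : j ''ᵁ V' ≤ j ''ᵁ V := Scheme.Hom.image_mono _ h'
  have key : ∀ (a : κ → Γ(T, V')), (comb (M := M.restrict j) (U := V) b h' a) =
      comb b h'' (fun i => (j.appIso V').inv (a i)) := by
    intro a
    rw [comb_apply, comb_apply]
    refine (restrict_sum' j _).trans ?_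
    refine Finset.sum_congr rfl fun i _ => ?_
    exact restrict_smul' j _ _
  have e : (comb (M := M.restrict j) (U := V) b h' : (κ → Γ(T, V')) → Sec (M.restrict j) V') =
      comb b h'' ∘ (fun a i => (j.appIso V').inv (a i)) :=
    funext fun a => key a
  have := hb (j ''ᵁ V') h''
  change Function.Bijective (comb (M := M.restrict j) (U := V) b h' : (κ → Γ(T, V')) → Sec (M.restrict j) V')
  rw [e]
  refine this.comp ?_
  have hb1 : Function.Bijective (j.appIso V').inv :=
    ConcreteCategory.bijective_of_isIso (j.appIso V').inv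
  refine ⟨fun a a' h => ?_, fun a => ?_⟩
  · funext i
    exact hb1.1 (congrFun h i)
  · choose g hg using fun i => hb1.2 (a i)
    exact ⟨g, funext hg⟩

/-- Restriction of a family of global sections along an open immersion. -/
noncomputable def resFam' (w : Fin m → Sec E ⊤) : Fin m → Sec (E.restrict j) ⊤ :=
  fun i => res E (U := ⊤) (V := j ''ᵁ ⊤) le_top (w i)

theorem partBasis_restrict' (hE : FlatMod.IsFinLocFreeOfRank r E) (w : Fin m → Sec E ⊤)
    (hU : ∀ x : T, Ind w (j x)) : PartBasis (r - m) (resFam' j w) := by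
  intro x
  obtain ⟨V, c, hxV, hb⟩ := exists_complement' hE w (j x) (hU x)
  have hV : j ''ᵁ (j ⁻¹ᵁ V) ≤ V := by
    rw [Scheme.Hom.image_preimage_eq_opensRange_inf]
    exact inf_le_right
  refine ⟨j ⁻¹ᵁ V, fun i => res E hV (c i), hxV, ?_⟩
  have h1 := isLocBasis_restrict_of' j (V := j ⁻¹ᵁ V) (hb.restrict hV)
  have h2 : (fun i => res E hV (Sum.elim (fun i => res E le_top (w i)) c i)) =
      Sum.elim (fun i => res (E.restrict j) (le_top : j ⁻¹ᵁ V ≤ ⊤) (resFam' j w i)) (fun i => res E hV (c i)) := by
    funext i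
    rcases i with i | i
    · rw [Sum.elim_inl, Sum.elim_inl, res_res]
      refine Eq.trans ?_ (restrict_res' j _ _).symm
      rw [resFam', res_res]
    · rfl
  rw [h2] at h1
  exact h1

/-- Independent sections give a mono `O^m → E|_T` with locally free cokernel. -/
theorem exists_mono (hE : FlatMod.IsFinLocFreeOfRank r E) (w : Fin m → Sec E ⊤) (hU : ∀ x : T, Ind w (j x)) :
    ∃ φ : FlatMod.freeMod T m ⟶ E.restrict j, Mono φ ∧ FlatMod.IsFinLocFreeOfRank (r - m) (cokernel φ) :=
  ⟨homOfFam (resFam' j w), mono_homOfFam (partBasis_restrict' j hE w hU),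
    rank_cokernel (partBasis_restrict' j hE w hU)⟩

end K707.RestrBasis
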