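import Groth.Agent.VBCurve.K707.ParPair
import Groth.Agent.CohqA.BCPull
import Groth.Agent.Picfga.SecBC

/-!
# Base change of sections, linearly over the base ring (helper707)
-/

set_option autoImplicit false
universe u
open CategoryTheory CategoryTheory.Limits AlgebraicGeometry TopologicalSpace Opposite

namespace K707.SecBase

open Groth.Agent Groth.Agent.Fdesc Groth.Agent.Picfga.ChiCech

variable {A B : Type u} [CommRing A] [CommRing B] [Algebra A B] {X Y : Scheme.{u}}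
  [X.Over (Spec (CommRingCat.of A))] [Y.Over (Spec (CommRingCat.of B))] (g : Y ⟶ X)
  (h : IsPullback g (Y ↘ Spec (CommRingCat.of B)) (X ↘ Spec (CommRingCat.of A))
    (Spec.map (CommRingCat.ofHom (algebraMap A B))))

theorem str_eq_toU (U : X.Opens) : str A U = CohqA.BCPull.toU (X ↘ Spec (CommRingCat.of A)) U := rfl

/-- Restriction of scalars along the base. -/
@[reducible] noncomputable def modA (A : Type u) {B : Type u} [CommRing A] [CommRing B] [Algebra A B] {Y : Scheme.{u}}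
    [Y.Over (Spec (CommRingCat.of B))] (N : Y.Modules) (V : Y.Opens) : Module A (SecA B N V) :=
  Module.compHom _ (algebraMap A B)

theorem towerA (A : Type u) {B : Type u} [CommRing A] [CommRing B] [Algebra A B] {Y : Scheme.{u}}
    [Y.Over (Spec (CommRingCat.of B))] (N : Y.Modules) (V : Y.Opens) :
    letI := modA A (B := B) N V
    IsScalarTower A B (SecA B N V) :=
  letI := modA A (B := B) N V
  ⟨fun a b c => by rw [Algebra.smul_def, mul_smul]; rfl⟩

include h in
theorem appLE_str (U : X.Opens) (hU : IsAffineOpen U) (a : A) :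
    g.appLE U (g ⁻¹ᵁ U) le_rfl (str A U a) = str B (g ⁻¹ᵁ U) (algebraMap A B a) := by
  have h1 := (CohqA.BCPull.isPushout_toU (X ↘ Spec (CommRingCat.of A)) (Y ↘ Spec (CommRingCat.of B)) g h U hU).w
  exact congr($(h1).hom a)

/-- Pullback of sections, linear over the base ring. -/
noncomputable def secA (M : X.Modules) (U : X.Opens) (hU : IsAffineOpen U) :
    letI := modA A (B := B) ((Scheme.Modules.pullback g).obj M) (g ⁻¹ᵁ U)
    SecA A M U →ₗ[A] SecA B ((Scheme.Modules.pullback g).obj M) (g ⁻¹ᵁ U) :=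
  letI := modA A (B := B) ((Scheme.Modules.pullback g).obj M) (g ⁻¹ᵁ U)
  { toFun := fun s => toSecA (VarietyB.PullSec.sec g M le_rfl (toSecA.symm s))
    map_add' := fun s t => by rw [map_add, map_add, map_add]
    map_smul' := fun a s => by
      change toSecA (VarietyB.PullSec.sec g M le_rfl (str A U a • (toSecA.symm s : Γ(M, U)))) =
        (algebraMap A B a) • (toSecA (VarietyB.PullSec.sec g M le_rfl (toSecA.symm s)) :
          SecA B ((Scheme.Modules.pullback g).obj M) (g ⁻¹ᵁ U))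
      rw [VarietyB.PullSec.sec_smul, appLE_str g h U hU]
      rfl }

theorem secA_apply (M : X.Modules) (U : X.Opens) (hU : IsAffineOpen U) (s : SecA A M U) :
    secA g h M U hU s = toSecA (VarietyB.PullSec.sec g M le_rfl (toSecA.symm s)) := rfl

theorem isBaseChange_secA (M : X.Modules) (hM : Coh.IsQCoh M) (U : X.Opens) (hU : IsAffineOpen U) :
    letI := modA A (B := B) ((Scheme.Modules.pullback g).obj M) (g ⁻¹ᵁ U)
    haveI := towerA A (B := B) ((Scheme.Modules.pullback g).obj M) (g ⁻¹ᵁ U)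
    IsBaseChange B (secA g h M U hU) := by
  have haff : IsAffineHom g :=
    MorphismProperty.of_isPullback (P := @IsAffineHom) h.flip inferInstance
  have hV : IsAffineOpen (g ⁻¹ᵁ U) := hU.preimage g
  let i0 := modA A (B := B) ((Scheme.Modules.pullback g).obj M) (g ⁻¹ᵁ U)
  have i1 := towerA A (B := B) ((Scheme.Modules.pullback g).obj M) (g ⁻¹ᵁ U)
  let j0 : Algebra A Γ(X, U) := (str A U).toAlgebra
  let j01 : Algebra B Γ(Y, g ⁻¹ᵁ U) := (str B (g ⁻¹ᵁ U)).toAlgebra
  let j1 : Algebra Γ(X, U) Γ(Y, g ⁻¹ᵁ U) := (g.appLE U (g ⁻¹ᵁ U) le_rfl).hom.toAlgebra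
  let j2 : Algebra A Γ(Y, g ⁻¹ᵁ U) := ((str B (g ⁻¹ᵁ U)).comp (algebraMap A B)).toAlgebra
  have t1 : IsScalarTower A B Γ(Y, g ⁻¹ᵁ U) := IsScalarTower.of_algebraMap_eq (fun _ => rfl)
  have hpo := CohqA.BCPull.isPushout_toU (X ↘ Spec (CommRingCat.of A)) (Y ↘ Spec (CommRingCat.of B)) g h U hU
  have t2 : IsScalarTower A Γ(X, U) Γ(Y, g ⁻¹ᵁ U) :=
    IsScalarTower.of_algebraMap_eq (fun a => (congr($(hpo.w).hom a)).symm)
  have t3 : Algebra.IsPushout A B Γ(X, U) Γ(Y, g ⁻¹ᵁ U) :=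
    CommRingCat.isPushout_iff_isPushout.mp hpo.flip
  let m1 : Module Γ(X, U) (SecA A M U) := (inferInstance : Module Γ(X, U) Γ(M, U))
  have t4 : IsScalarTower A Γ(X, U) (SecA A M U) := ⟨fun a b c => by
    rw [Algebra.smul_def, mul_smul]; rfl⟩
  let m2 : Module Γ(Y, g ⁻¹ᵁ U) (SecA B ((Scheme.Modules.pullback g).obj M) (g ⁻¹ᵁ U)) :=
    (inferInstance : Module Γ(Y, g ⁻¹ᵁ U) Γ((Scheme.Modules.pullback g).obj M, g ⁻¹ᵁ U))
  have t5 : IsScalarTower B Γ(Y, g ⁻¹ᵁ U) (SecA B ((Scheme.Modules.pullback g).obj M) (g ⁻¹ᵁ U)) :=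
    ⟨fun a b c => by rw [Algebra.smul_def, mul_smul]; rfl⟩
  let m3 : Module Γ(X, U) (SecA B ((Scheme.Modules.pullback g).obj M) (g ⁻¹ᵁ U)) :=
    VarietyB.PullSec.secModule g M (le_refl (g ⁻¹ᵁ U))
  have j3 : IsScalarTower Γ(X, U) Γ(Y, g ⁻¹ᵁ U) (SecA B ((Scheme.Modules.pullback g).obj M) (g ⁻¹ᵁ U)) :=
      ⟨fun a b c => by rw [Algebra.smul_def, mul_smul]; rfl⟩
  have key := VarietyB.PullSec.isBaseChange_secₗ g M (le_refl (g ⁻¹ᵁ U)) hM hU hV
  let hl : SecA A M U →ₗ[Γ(X, U)] SecA B ((Scheme.Modules.pullback g).obj M) (g ⁻¹ᵁ U) :=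
    VarietyB.PullSec.secₗ g M (le_refl (g ⁻¹ᵁ U))
  exact Picfga.SecBC.isBaseChange_of_isPushout (B := A) (B' := B) (F := Γ(X, U)) (F' := Γ(Y, g ⁻¹ᵁ U))
    (M := SecA A M U) (M' := SecA B ((Scheme.Modules.pullback g).obj M) (g ⁻¹ᵁ U))
    hl key (secA g h M U hU) fun m => rfl

/-- compatibility with restriction -/
theorem resA_secA (M : X.Modules) {U V : X.Opens} (hU : IsAffineOpen U) (hV : IsAffineOpen V) (hle : V ≤ U)
    (s : SecA A M U) :
    resA B ((Scheme.Modules.pullback g).obj M) (g.preimage_mono hle) (secA g h M U hU s) =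
      secA g h M V hV (resA A M hle s) :=
  VarietyB.PullSec.sec_res g M le_rfl le_rfl hle (g.preimage_mono hle) s

end K707.SecBase
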