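import Mathlib.RingTheory.Flat.Equalizer
import Mathlib.RingTheory.LocalRing.Module
import Mathlib.RingTheory.TensorProduct.IsBaseChangePi
import Mathlib.LinearAlgebra.Matrix.Rank
import Mathlib.LinearAlgebra.Matrix.BilinearForm
import Mathlib.RingTheory.Nakayama
import Groth.Agent.Picfga.KerBC

/-!
# Parity of the dimension of the kernel for skew-symmetric complexes: algebra (helper707)
-/

set_option autoImplicit false

open scoped TensorProduct

namespace K707.SkewAlg

section skew

open Matrix

/-- A nondegenerate skew-symmetric form lives in even dimension. -/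
theorem even_finrank {K : Type*} [Field K] (h2 : (2 : K) ≠ 0) {V : Type*} [AddCommGroup V] [Module K V]
    [Module.Finite K V] (b : V →ₗ[K] V →ₗ[K] K) (hb : Function.Injective b) (h : ∀ v w, b v w = - b w v) :
    Even (Module.finrank K V) := by
  let e := Module.finBasis K V
  let M : Matrix (Fin (Module.finrank K V)) (Fin (Module.finrank K V)) K := Matrix.of fun i j => b (e i) (e j)
  have hM : Mᵀ = -M := by
    ext i j
    simp only [M, Matrix.transpose_apply, Matrix.of_apply, Matrix.neg_apply]
    exact h _ _
  have hdet : M.det ≠ 0 := by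
    intro h0
    obtain ⟨v, hv, hv'⟩ := Matrix.exists_vecMul_eq_zero_iff.mpr h0
    apply hv
    have h1 : b (∑ i, v i • e i) = 0 := by
      refine e.ext fun j => ?_
      have := congrFun hv' j
      rw [map_sum, LinearMap.sum_apply]
      simp only [map_smul, LinearMap.smul_apply, LinearMap.zero_apply]
      simpa [Matrix.vecMul, dotProduct, M] using this
    have h3 : ∑ i, v i • e i = 0 := hb (by rw [h1, map_zero])
    funext i
    exact Fintype.linearIndependent_iff.mp e.linearIndependent v h3 i
  by_contra hodd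
  rw [Nat.not_even_iff_odd] at hodd
  have h3 := congrArg Matrix.det hM
  rw [Matrix.det_transpose, Matrix.det_neg, Fintype.card_fin, hodd.neg_one_pow] at h3
  have h4 : (2 : K) * M.det = 0 := by linear_combination h3
  rcases mul_eq_zero.1 h4 with h5 | h5
  · exact h2 h5
  · exact hdet h5

/-- The rank of a skew-symmetric form is even. -/
theorem even_rank {K : Type*} [Field K] (h2 : (2 : K) ≠ 0) {V : Type*} [AddCommGroup V] [Module K V]
    [Module.Finite K V] (b : V →ₗ[K] V →ₗ[K] K) (h : ∀ v w, b v w = - b w v) :
    Even (Module.finrank K (LinearMap.range b)) := by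
  obtain ⟨W, hW⟩ := Submodule.exists_isCompl (LinearMap.ker b)
  have h1 : Module.finrank K (LinearMap.range b) = Module.finrank K W := by
    have h3 := LinearMap.finrank_range_add_finrank_ker b
    have h4 := Submodule.finrank_add_eq_of_isCompl hW
    omega
  rw [h1]
  refine even_finrank h2 ((b.compl₁₂ W.subtype W.subtype)) ?_ fun v w => h _ _
  rw [injective_iff_map_eq_zero]
  intro w hw
  have h5 : b w = 0 := by
    ext v
    obtain ⟨x, hx, y, hy, rfl⟩ : ∃ x ∈ LinearMap.ker b, ∃ y ∈ W, x + y = v := by
      have : v ∈ LinearMap.ker b ⊔ W := by rw [hW.sup_eq_top]; trivial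
      exact Submodule.mem_sup.mp this
    have h6 : b w x = 0 := by
      rw [h, LinearMap.mem_ker.mp hx]
      simp
    have h7 : b w y = 0 := congrArg (fun l => l ⟨y, hy⟩) hw
    rw [map_add, h6, h7, add_zero, LinearMap.zero_apply]
  have h8 : (w : V) ∈ LinearMap.ker b ⊓ W := ⟨h5, w.2⟩
  rw [hW.inf_eq_bot] at h8
  exact Subtype.ext h8

end skew

section flat

variable {R : Type*} [CommRing R] {M N : Type*} [AddCommGroup M] [Module R M] [AddCommGroup N] [Module R N]

theorem rTensor_subtype_injective [Module.Flat R N] (f : M →ₗ[R] N) (hf : Function.Surjective f) (A : Type*)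
    [AddCommGroup A] [Module R A] : Function.Injective ((LinearMap.ker f).subtype.rTensor A) := by
  have h1 := LinearMap.lTensor_injective_of_exact_of_flat f hf (LinearMap.ker f).subtype
    (LinearMap.ker f).subtype_injective (LinearMap.exact_subtype_ker_map _) A
  intro x y hxy
  have h2 : ∀ z : LinearMap.ker f ⊗[R] A, (LinearMap.ker f).subtype.lTensor A (TensorProduct.comm R _ _ z) =
      TensorProduct.comm R _ _ ((LinearMap.ker f).subtype.rTensor A z) := by
    intro z
    induction z with
    | zero => simp
    | add a b ha hb => simp only [map_add, ha, hb]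
    | tmul a b => simp
  apply (TensorProduct.comm R _ _).injective
  apply h1
  rw [h2, h2, hxy]

/-- The kernel of a surjection of flat modules is flat. -/
theorem flat_ker [Module.Flat R M] [Module.Flat R N] (f : M →ₗ[R] N) (hf : Function.Surjective f) :
    Module.Flat R (LinearMap.ker f) := by
  rw [Module.Flat.iff_lTensor_preserves_injective_linearMap]
  intro Q Q' _ _ _ _ L hL x y hxy
  apply rTensor_subtype_injective f hf Q
  apply Module.Flat.lTensor_preserves_injective_linearMap (M := M) L hL
  have h2 : ∀ z : LinearMap.ker f ⊗[R] Q, L.lTensor M ((LinearMap.ker f).subtype.rTensor Q z) =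
      (LinearMap.ker f).subtype.rTensor Q' (L.lTensor (LinearMap.ker f) z) := by
    intro z
    induction z with
    | zero => simp
    | add a b ha hb => simp only [map_add, ha, hb]
    | tmul a b => simp
  rw [h2, h2, hxy]

end flat

section bc

variable {R : Type*} [CommRing R] {M N : Type*} [AddCommGroup M] [Module R M] [AddCommGroup N] [Module R N]

/-- `Φ(m, c) = d m + Σ c_i y_i`. -/
def Phi (d : M →ₗ[R] N) {n : ℕ} (y : Fin n → N) : M × (Fin n → R) →ₗ[R] N :=
  d.coprod (Fintype.linearCombination R y)

theorem Phi_apply (d : M →ₗ[R] N) {n : ℕ} (y : Fin n → N) (x : M × (Fin n → R)) :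
    Phi d y x = d x.1 + ∑ i, x.2 i • y i := by
  rw [Phi, LinearMap.coprod_apply, Fintype.linearCombination_apply]

variable {A : Type*} [CommRing A] [Algebra R A] {MA NA : Type*} [AddCommGroup MA] [Module A MA] [Module R MA]
  [IsScalarTower R A MA] [AddCommGroup NA] [Module A NA] [Module R NA] [IsScalarTower R A NA]
  {p : M →ₗ[R] MA} {q : N →ₗ[R] NA} (hp : IsBaseChange A p) (hq : IsBaseChange A q)
  {d : M →ₗ[R] N} {dA : MA →ₗ[A] NA} (hd : ∀ x, dA (p x) = q (d x))

/-- `v ↦ Σ v_i (p m_i, c_i)`. -/
noncomputable def theta (p : M →ₗ[R] MA) {n e : ℕ} (x : Fin e → M × (Fin n → R)) :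
    (Fin e → A) →ₗ[A] MA × (Fin n → A) :=
  Fintype.linearCombination A (fun i => (p (x i).1, fun j => algebraMap R A ((x i).2 j)))

theorem theta_apply (p : M →ₗ[R] MA) {n e : ℕ} (x : Fin e → M × (Fin n → R)) (v : Fin e → A) :
    theta p x v = (∑ i, v i • p (x i).1, fun j => ∑ i, v i * algebraMap R A ((x i).2 j)) := by
  rw [theta, Fintype.linearCombination_apply, Prod.ext_iff]
  constructor
  · rw [Prod.fst_sum]
    rfl
  · funext j
    rw [Prod.snd_sum, Finset.sum_apply]
    rfl

include hp hq hd in
/-- Base change of `ker Φ`, in coordinates. -/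
theorem theta_spec [Module.Flat R N] {n e : ℕ} (y : Fin n → N) (hsurj : Function.Surjective (Phi d y))
    (b : Module.Basis (Fin e) R (LinearMap.ker (Phi d y))) :
    Function.Injective (theta (A := A) p (fun i => (b i : M × (Fin n → R)))) ∧
      ∀ z : MA × (Fin n → A), (∃ v, theta p (fun i => (b i : M × (Fin n → R))) v = z) ↔
        Phi dA (fun i => q (y i)) z = 0 := by
  let r : (Fin n → R) →ₗ[R] (Fin n → A) := (Algebra.linearMap R A).compLeft (Fin n)
  have hr : IsBaseChange A r := IsBaseChange.finitePow (Fin n) (IsBaseChange.linearMap R A)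
  have hpr : IsBaseChange A (p.prodMap r) := IsBaseChange.prodMap _ _ hp hr
  have hcomm : ∀ x, Phi dA (fun i => q (y i)) (p.prodMap r x) = q (Phi d y x) := by
    intro x
    rw [Phi_apply, Phi_apply, map_add, map_sum]
    congr 1
    · exact hd x.1
    · refine Finset.sum_congr rfl fun i _ => ?_
      rw [map_smul]
      exact algebraMap_smul A (x.2 i) (q (y i))
  have hmem := Groth.Agent.Picfga.KerBC.mem_ker_iff hpr hq (d := Phi d y)
    (d' := Phi dA (fun i => q (y i))) hcomm
  let ι : A ⊗[R] LinearMap.ker (Phi d y) →ₗ[A] A ⊗[R] (M × (Fin n → R)) :=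
    (LinearMap.ker (Phi d y)).subtype.baseChange A
  have hι : Function.Injective ι :=
    LinearMap.lTensor_injective_of_exact_of_flat (Phi d y) hsurj (LinearMap.ker (Phi d y)).subtype
      (LinearMap.ker (Phi d y)).subtype_injective (LinearMap.exact_subtype_ker_map _) A
  have hrange : ∀ z, z ∈ LinearMap.ker ((Phi d y).baseChange A) ↔ ∃ w, ι w = z := by
    intro z
    have h1 := lTensor_exact A (LinearMap.exact_subtype_ker_map (Phi d y)) hsurj
    exact h1 z
  let e : (Fin e → A) ≃ₗ[A] A ⊗[R] LinearMap.ker (Phi d y) := (b.baseChange A).equivFun.symm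
  have hθ : ∀ v, theta (A := A) p (fun i => (b i : M × (Fin n → R))) v = hpr.equiv (ι (e v)) := by
    intro v
    have h1 : e v = ∑ i, v i • ((1 : A) ⊗ₜ[R] b i) := by
      rw [Module.Basis.equivFun_symm_apply]
      refine Finset.sum_congr rfl fun i _ => ?_
      rw [Module.Basis.baseChange_apply]
    rw [h1, map_sum, map_sum, theta, Fintype.linearCombination_apply]
    refine Finset.sum_congr rfl fun i _ => ?_
    rw [map_smul, map_smul]
    congr 1
    rw [LinearMap.baseChange_tmul, IsBaseChange.equiv_tmul, one_smul]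
    rfl
  refine ⟨fun v w hvw => ?_, fun z => ?_⟩
  · rw [hθ, hθ] at hvw
    exact e.injective (hι (hpr.equiv.injective hvw))
  · constructor
    · rintro ⟨v, rfl⟩
      rw [hθ]
      exact (hmem _).mpr ((hrange _).mpr ⟨_, rfl⟩)
    · intro hz
      obtain ⟨w, rfl⟩ := hpr.equiv.surjective z
      obtain ⟨w', rfl⟩ := (hrange w).mp ((hmem w).mp hz)
      refine ⟨e.symm w', ?_⟩
      rw [hθ, LinearEquiv.apply_symm_apply]

end bc

end K707.SkewAlg
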